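/-
The root values of type D_N generate Ω⁺_{2N}, over any finite field.

* `pat4`: a choice of signs through prescribed values; `orels_mem_omega`, `gam_orels_eq`.
* `dg_apply`: the action of a diagonal element of a pair.
-/
import Cfsg.Agent.Lib.CurtisTitsD.Inj
import Cfsg.Agent.Lib.SLMult.Lift
import Cfsg.Agent.Lib.ChevSt.Multiplier
import Cfsg.Agent.Lib.SpMult.Glue

set_option autoImplicit false

open Matrix
open QuadraticMap (polar)
open scoped commutatorElement

namespace Cfsg.Agent.OrthMult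

open CurtisTitsA CurtisTitsD Cfsg.Agent.Orth
open Cfsg.Agent.OrthAct (quadPlus quadPlus_coe quadPlus_nondegenerate)

variable {F : Type*} [Field F] {N : ℕ}

local notation "SI" => (Fin N ⊕ Fin N)

/-- The index of a signed index. -/
abbrev ix (a : SI) : Fin N := Sum.elim id id a

theorem ix_pat {s : Fin N → SI} (hs : IsPat s) (i : Fin N) : ix (s i) = i := by
  rcases hs i with e | e <;> rw [e] <;> rfl

theorem ix_bar (a : SI) : ix (bar a) = ix a := idx_bar a

/-- A choice of signs through four values. -/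
theorem pat4 (a b c e : SI) (hab : ix a = ix b → a = b) (hac : ix a = ix c → a = c)
    (hae : ix a = ix e → a = e) (hbc : ix b = ix c → b = c) (hbe : ix b = ix e → b = e)
    (hce : ix c = ix e → c = e) :
    ∃ s : Fin N → SI, IsPat s ∧ s (ix a) = a ∧ s (ix b) = b ∧ s (ix c) = c ∧ s (ix e) = e := by
  classical
  refine ⟨fun i => if i = ix a then a else if i = ix b then b else if i = ix c then c else
    if i = ix e then e else Sum.inl i, fun i => ?_, ?_, ?_, ?_, ?_⟩
  · dsimp only
    split_ifs with h1 h2 h3 h4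
    · rw [h1]; exact eq_inl_or_inr a
    · rw [h2]; exact eq_inl_or_inr b
    · rw [h3]; exact eq_inl_or_inr c
    · rw [h4]; exact eq_inl_or_inr e
    · exact Or.inl rfl
  · simp
  · dsimp only
    by_cases h1 : ix b = ix a
    · rw [if_pos h1]; exact hab h1.symm
    · rw [if_neg h1, if_pos rfl]
  · dsimp only
    by_cases h1 : ix c = ix a
    · rw [if_pos h1]; exact hac h1.symm
    by_cases h2 : ix c = ix b
    · rw [if_neg h1, if_pos h2]; exact hbc h2.symm
    · rw [if_neg h1, if_neg h2, if_pos rfl]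
  · dsimp only
    by_cases h1 : ix e = ix a
    · rw [if_pos h1]; exact hae h1.symm
    by_cases h2 : ix e = ix b
    · rw [if_neg h1, if_pos h2]; exact hbe h2.symm
    by_cases h3 : ix e = ix c
    · rw [if_neg h1, if_neg h2, if_pos h3]; exact hce h3.symm
    · rw [if_neg h1, if_neg h2, if_neg h3, if_pos rfl]

/-- A choice of signs at a pair. -/
theorem pat_root {a b : SI} (h : Adm a b) :
    ∃ s : Fin N → SI, IsPat s ∧ s (ix a) = a ∧ s (ix b) = bar b := by
  obtain ⟨s, hs, e1, e2⟩ := exists_pat2 a (bar b) h.bar_right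
  refine ⟨s, hs, e1, ?_⟩
  rwa [idx_bar] at e2

theorem orels_over : Over (orels (F := F) (N := N)) (MonoidHom.id _) := fun _ _ _ _ => rfl

variable [Finite F]

theorem range_le_omega (hN : 3 ≤ N) (θ : Matrix.SpecialLinearGroup (Fin N) F →* IsoGrp (quadPlus N F)) :
    θ.range ≤ Omega F ⇑(quadPlus N F) := by
  rw [MonoidHom.range_eq_map, ← Linear.commutator_sl_eq_top (ι := Fin N) (F := F) (.inl (by simpa using hN)),
    commutator_def, Subgroup.map_commutator]
  exact Subgroup.commutator_mono le_top le_top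

theorem orels_mem_omega (hN : 3 ≤ N) {a b : SI} (h : Adm a b) (t : F) :
    RO F a b t ∈ Omega F ⇑(quadPlus N F) := by
  obtain ⟨s, hs, e1, e2⟩ := pat_root h
  obtain ⟨θ, hθ⟩ := (orels (F := F) (N := N)).exists_pat hN hs
  have := range_le_omega hN θ ⟨tv h.idx t, rfl⟩
  rw [hθ, e1, e2, bar_bar] at this
  exact this

theorem gam_orels_eq (hN : 3 ≤ N) :
    Gam (orels (F := F) (N := N)) 0 = Omega F ⇑(quadPlus N F) := by
  set Q := quadPlus N F
  apply le_antisymm
  · rw [Gam, Subgroup.closure_le]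
    rintro _ ⟨a, b, t, hab, -, -, rfl⟩
    exact orels_mem_omega hN hab t
  · have hGood : Orth.Good Q := ⟨quadPlus_nondegenerate N, Or.inr (by simp; omega)⟩
    let i0 : Fin N := ⟨0, by omega⟩
    let i1 : Fin N := ⟨1, by omega⟩
    have hp : HPair Q (ev F (Sum.inl i0)) (ev F (Sum.inr i0)) :=
      ⟨Q_ev' _, Q_ev' _, by rw [polar_ev]; exact if_pos rfl⟩
    have hp' : HPair Q (ev F (Sum.inl i1)) (ev F (Sum.inr i1)) :=
      ⟨Q_ev' _, Q_ev' _, by rw [polar_ev]; exact if_pos rfl⟩
    have hperp : ∀ a : SI, ix a = i1 → ev F a ∈ perp Q (ev F (Sum.inl i0)) (ev F (Sum.inr i0)) := by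
      intro a ha
      have : ∀ c : SI, ix c = i0 → Adm c a := fun c hc =>
        Adm.of_idx (by show ix c ≠ ix a; rw [hc, ha]; simp [i0, i1])
      exact mem_perp.2 ⟨polar_ev_of_adm (this _ rfl), polar_ev_of_adm (this _ rfl)⟩
    refine (ChevOrth.omega_le_eichPair hGood hp hp' (hperp _ rfl) (hperp _ rfl) (by simp; omega)).trans ?_
    rw [eichPair, Subgroup.closure_le]
    rintro _ ⟨w, hw, rfl | rfl⟩ <;>
    · obtain ⟨w1, w2⟩ := mem_perp.1 hw
      rw [polar_ev_left] at w1 w2
      rw [SetLike.mem_coe]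
      first
        | simpa only [Subgroup.map_id] using orels_over.eich_mem (F := F) (Sum.inl i0) w2 w1
        | simpa only [Subgroup.map_id] using orels_over.eich_mem (F := F) (Sum.inr i0) w1 w2


section Diagonal

variable {G : Type*} [Group G] {D : DRels F G N} {π : G →* IsoGrp (quadPlus N F)}

local notation "SL2" => Matrix.SpecialLinearGroup (Fin 2) F

theorem τ_dg (c : Fˣ) : τ (dg c : SL2) = dg c⁻¹ := by
  apply sl2_ext <;> simp [τ_two_coe, dg_coe]

/-- The scalar of a diagonal element of a pair at a basis vector. -/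
def dgScalar (x y : SI) (c : Fˣ) (z : SI) : Fˣ :=
  if z = x ∨ z = bar y then c else if z = y ∨ z = bar x then c⁻¹ else 1

theorem dg_apply (hπ : Over D π) (hN : 3 ≤ N) {x y : SI} (h : Adm x y) (c : Fˣ) (z : SI) :
    ap (π (D.P x y (dg c))) (ev F z) = (dgScalar x y c z : F) • ev F z := by
  obtain ⟨e1, e2⟩ := hπ.ap_P hN h (dg c)
  have hb : D.P (bar x) (bar y) (dg c⁻¹) = D.P x y (dg c) := by
    rw [D.P_bar hN h, τ_dg, inv_inv]
  obtain ⟨e3, e4⟩ := hπ.ap_P hN h.bars (dg c⁻¹)
  rw [hb] at e3 e4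
  simp only [dg_coe, inv_inv] at e1 e2 e3 e4
  simp at e1 e2 e3 e4
  rcases eq_or_ne z x with rfl | n1
  · rw [e1, dgScalar, if_pos (Or.inl rfl)]
  rcases eq_or_ne z (bar y) with rfl | n2
  · rw [e4, dgScalar, if_pos (Or.inr rfl)]
  rcases eq_or_ne z y with rfl | n3
  · rw [e2, dgScalar, if_neg (by simp [n1, n2]), if_pos (Or.inl rfl)]; simp
  rcases eq_or_ne z (bar x) with rfl | n4
  · rw [e3, dgScalar, if_neg (by simp [n1, n2]), if_pos (Or.inr rfl)]; simp
  rw [dgScalar, if_neg (by simp [n1, n2]), if_neg (by simp [n3, n4]), Units.val_one, one_smul]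
  exact hπ.ap_fix hN h ⟨n1.symm, fun q => n4 (by rw [q, bar_bar])⟩
    ⟨n3.symm, fun q => n2 (by rw [q, bar_bar])⟩ _

end Diagonal

end Cfsg.Agent.OrthMult
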