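/-
Central extensions of Ω⁺_{2N}: canonical lifts of the root values.

* `Core`: a central extension; `Core.R`: lifts through the lifts of the SL_N of the choices of signs.
* `Core.drels`: the relations of type D_N; `Core.over`.
-/
import Cfsg.Agent.Lib.OrthMult.Omega
import Cfsg.Agent.Lib.CentralExt.Basic

set_option autoImplicit false

open Matrix
open scoped commutatorElement

namespace Cfsg.Agent.OrthMult

open CurtisTitsA CurtisTitsD Cfsg.Agent.Orth
open Cfsg.Agent.OrthAct (quadPlus)

universe u

variable {F : Type u} [Field F] [Fintype F] {N : ℕ}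

local notation "SI" => (Fin N ⊕ Fin N)
local notation "SLN" => Matrix.SpecialLinearGroup (Fin N) F
local notation "O" => IsoGrp (quadPlus N F)

/-- Commutators only depend on the images modulo a central kernel. -/
theorem comm_congr' {Γ M : Type*} [Group Γ] [Group M] {σ : Γ →* M} (hc : σ.ker ≤ Subgroup.center Γ)
    {a a' b b' : Γ} (ha : σ a = σ a') (hb : σ b = σ b') : ⁅a, b⁆ = ⁅a', b'⁆ := by
  obtain ⟨z, hz, rfl⟩ : ∃ z, z ∈ Subgroup.center Γ ∧ a = a' * z :=
    ⟨a'⁻¹ * a, hc (by simp [MonoidHom.mem_ker, ha]), by group⟩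
  obtain ⟨w, hw, rfl⟩ : ∃ w, w ∈ Subgroup.center Γ ∧ b = b' * w :=
    ⟨b'⁻¹ * b, hc (by simp [MonoidHom.mem_ker, hb]), by group⟩
  exact CentralExt.commutatorElement_mul_center hz hw a' b'

/-- Homomorphisms from a perfect group that agree modulo a central kernel agree. -/
theorem hom_eq_of_perfect {Δ Γ M : Type*} [Group Δ] [Group Γ] [Group M] {σ : Γ →* M}
    (hc : σ.ker ≤ Subgroup.center Γ) (hp : commutator Δ = ⊤) {φ ψ : Δ →* Γ} (h : σ.comp φ = σ.comp ψ) :
    φ = ψ := by
  refine MonoidHom.eq_of_eqOn_top fun x hx => ?_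
  rw [← hp] at hx
  suffices commutator Δ ≤ φ.eqLocus ψ from this hx
  rw [commutator_def, Subgroup.commutator_le]
  intro a _ b _
  show φ ⁅a, b⁆ = ψ ⁅a, b⁆
  rw [map_commutatorElement, map_commutatorElement]
  have h1 := DFunLike.congr_fun h a
  have h2 := DFunLike.congr_fun h b
  simp only [MonoidHom.comp_apply] at h1 h2
  exact comm_congr' hc h1 h2

/-- SL_2 is perfect from four elements on. -/
theorem commutator_sl2_eq_top (hq : 4 ≤ Fintype.card F) :
    commutator (Matrix.SpecialLinearGroup (Fin 2) F) = ⊤ := by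
  classical
  refine Linear.commutator_sl_eq_top (.inr ?_)
  by_contra hne
  push Not at hne
  have h1 : ∀ t : F, t ∈ ({0, 1, -1} : Finset F) := fun t => by
    by_cases h0 : t = 0
    · simp [h0]
    · have := hne t h0
      rw [pow_two] at this
      rcases mul_self_eq_one_iff.1 this with h | h <;> simp [h]
  have := Finset.card_le_card (fun t _ => h1 t : (Finset.univ : Finset F) ⊆ {0, 1, -1})
  have h3 := Finset.card_le_three (a := (0 : F)) (b := 1) (c := -1)
  rw [Finset.card_univ] at this
  omega

/-- A central extension of Ω⁺. -/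
structure Core (F : Type u) [Field F] [Fintype F] (N : ℕ) (Γ : Type u) [Group Γ] where
  /-- the projection -/
  π : Γ →* IsoGrp (quadPlus N F)
  range_eq : π.range = Omega F ⇑(quadPlus N F)
  central : π.ker ≤ Subgroup.center Γ
  hN : 3 ≤ N
  ok : SLMult.Ok (Fin N) F
  big : 4 ≤ N ∨ 3 ≤ Fintype.card F

namespace Core

variable {Γ : Type u} [Group Γ] (X : Core F N Γ)

theorem central_of {z : Γ} (h : X.π z = 1) (g : Γ) : Commute g z :=
  Subgroup.mem_center_iff.1 (X.central h) g

theorem comm_congr {a a' b b' : Γ} (ha : X.π a = X.π a') (hb : X.π b = X.π b') : ⁅a, b⁆ = ⁅a', b'⁆ :=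
  comm_congr' X.central ha hb

include X in
theorem three_le : 3 ≤ N := X.hN

include X in
theorem splits : ChevSt.Splits (Matrix.SpecialLinearGroup (Fin N) F) := by
  intro L _ p hp hc
  exact SLMult.exists_section X.ok p hp hc

include X in
theorem exists_lift {s : Fin N → SI} (hs : IsPat s) :
    ∃ Ψ : SLN →* Γ, ∀ (a b : Fin N) (h : a ≠ b) (t : F), X.π (Ψ (tv h t)) = RO F (s a) (bar (s b)) t := by
  obtain ⟨θ, hθ⟩ := (orels (F := F) (N := N)).exists_pat X.three_le hs
  have hmem : ∀ A, θ A ∈ X.π.range := fun A => by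
    rw [X.range_eq]; exact range_le_omega X.three_le θ ⟨A, rfl⟩
  obtain ⟨Ψ, hΨ⟩ := ChevSt.lift_of_split X.splits (θ.codRestrict X.π.range hmem) X.π.rangeRestrict
    X.π.rangeRestrict_surjective (by rw [MonoidHom.ker_rangeRestrict]; exact X.central)
  refine ⟨Ψ, fun a b h t => ?_⟩
  have := congrArg Subtype.val (DFunLike.congr_fun hΨ (tv h t))
  exact this.trans (hθ a b h t)

open Classical in
/-- The lift of the SL_N of a choice of signs. -/
noncomputable def pat (s : Fin N → SI) : SLN →* Γ :=
  if hs : IsPat s then (X.exists_lift hs).choose else 1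

theorem π_pat {s : Fin N → SI} (hs : IsPat s) {a b : Fin N} (h : a ≠ b) (t : F) :
    X.π (X.pat s (tv h t)) = RO F (s a) (bar (s b)) t := by
  rw [pat, dif_pos hs]; exact (X.exists_lift hs).choose_spec a b h t

theorem agree_one {s s' : Fin N → SI} (hs : IsPat s) (hs' : IsPat s') {i j k : Fin N} (hik : i ≠ k)
    (hkj : k ≠ j) (hij : i ≠ j) (hi : s i = s' i) (hj : s j = s' j) (hk : s k = s' k) (t : F) :
    X.pat s (tv hij t) = X.pat s' (tv hij t) := by
  have e := Linear.transvection_mul_comm hik hkj hij t (1 : F)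
  rw [mul_one] at e
  rw [tv, ← e, map_commutatorElement, map_commutatorElement]
  refine X.comm_congr ?_ ?_
  · rw [X.π_pat hs, X.π_pat hs', hi, hk]
  · rw [X.π_pat hs, X.π_pat hs', hk, hj]

theorem agree {s s' : Fin N → SI} (hs : IsPat s) (hs' : IsPat s') {i j : Fin N} (hij : i ≠ j) (hi : s i = s' i)
    (hj : s j = s' j) (t : F) : X.pat s (tv hij t) = X.pat s' (tv hij t) := by
  classical
  rcases X.big with hN | hq
  swap
  · -- both values are commutators with a diagonal element
    obtain ⟨k, hk⟩ := SLMult.exists_notMem ({i, j} : Finset (Fin N)) (by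
      have := X.hN
      have := Finset.card_le_two (a := i) (b := j)
      simp; omega)
    simp only [Finset.mem_insert, Finset.mem_singleton, not_or] at hk
    obtain ⟨u, hu⟩ : ∃ u : Fˣ, (u : F) ≠ 1 := by
      obtain ⟨x, hx⟩ : ∃ x : F, x ∉ ({0, 1} : Finset F) := by
        by_contra hne
        push Not at hne
        have := Finset.card_le_card (fun z _ => hne z : (Finset.univ : Finset F) ⊆ {0, 1})
        have := Finset.card_le_two (a := (0 : F)) (b := 1)
        rw [Finset.card_univ] at *
        omega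
      simp only [Finset.mem_insert, Finset.mem_singleton, not_or] at hx
      exact ⟨Units.mk0 x hx.1, hx.2⟩
    set x := s i
    set y := s k
    have hxy : Adm x y := Adm.of_idx (by
      show ix (s i) ≠ ix (s k); rw [ix_pat hs, ix_pat hs]; exact Ne.symm hk.1)
    set o := (orels (F := F) (N := N)).P x y (dg u) with ho
    have hmem : o ∈ Omega F ⇑(quadPlus N F) :=
      (orels (F := F) (N := N)).P_mem X.three_le hxy (fun r => orels_mem_omega X.three_le hxy.bar_right r)
        (fun r => orels_mem_omega X.three_le hxy.symm.bar_right r) _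
    obtain ⟨g, hg⟩ : o ∈ X.π.range := by rw [X.range_eq]; exact hmem
    have conj : ∀ a b : SI, ∀ r : F, o * RO F a b r * o⁻¹ =
        RO F a b (dgScalar x y u a * dgScalar x y u b * r) := fun a b r => by
      have h := fun z => dg_apply (orels_over (F := F) (N := N)) X.three_le hxy u z
      simp only [MonoidHom.id_apply, ← ho] at h
      rw [RO, conj_eich, map_smul, h, h, eich_smul_left, smul_smul, smul_smul, RO]
      congr 2; ring
    set t' := t / ((u : F) - 1)
    have key : ∀ {p : Fin N → SI}, IsPat p → p i = s i → p j = s j →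
        X.pat p (tv hij t) = ⁅g, X.pat p (tv hij t')⁆ := by
      intro p hp ei ej
      have e : ∀ r : F, ⁅(tv (Ne.symm hk.1) r : SLN), (tv hk.2 1 : SLN)⁆ = tv hij r := fun r => by
        have := Linear.transvection_mul_comm (Ne.symm hk.1) hk.2 hij r (1 : F)
        rwa [mul_one] at this
      set lam := (dgScalar x y u (s i) : F) * dgScalar x y u (bar (s j))
      have hlam : lam = u := by
        have e1 : dgScalar x y u (s i) = u := by simp [dgScalar, x]
        have ne : ∀ z : SI, ix z ≠ j → bar (s j) ≠ z := fun z hz q => hz (by rw [← q, ix_bar, ix_pat hs])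
        have e2 : dgScalar x y u (bar (s j)) = 1 := by
          rw [dgScalar, if_neg (not_or.2 ⟨ne _ ?_, ne _ ?_⟩), if_neg (not_or.2 ⟨ne _ ?_, ne _ ?_⟩)] <;>
            simp only [x, y, ix_bar, ix_pat hs]
          all_goals first | exact hij | exact hk.2
        simp [lam, e1, e2]
      have hc : g * X.pat p (tv hij t') * g⁻¹ = X.pat p (tv hij ((u : F) * t')) := by
        have ek : (dgScalar x y u (bar (p k)) : F) * dgScalar x y u (p k) = 1 := by
          have : p k = y ∨ p k = bar y := by
            rcases hp k with q | q <;> rcases hs k with q' | q' <;> simp [y, q, q', bar]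
          have hyx : ix y ≠ ix x := fun q => hxy.idx q.symm
          rcases this with q | q <;> rw [q] <;> try rw [bar_bar]
          all_goals
            have n1 : y ≠ x := fun q => hyx (by rw [q])
            have n2 : bar y ≠ x := fun q => hyx (by rw [← q, ix_bar])
            have n3 : y ≠ bar x := fun q => hyx (by rw [q, ix_bar])
            simp [dgScalar, n1, n2, n3, bar_ne y, (bar_ne y).symm]
        rw [← e t', ← e ((u : F) * t'), map_commutatorElement, map_commutatorElement,
          conjugate_commutatorElement]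
        -- the scalar at the middle index is moved to the first value
        set μ := (dgScalar x y u (p k) : F) * dgScalar x y u (bar (p j))
        have hμ : μ ≠ 0 := mul_ne_zero (Units.ne_zero _) (Units.ne_zero _)
        have hval : (dgScalar x y u (p i) : F) * dgScalar x y u (bar (p k)) * μ = u := by
          rw [← hlam]
          simp only [lam, μ, ei, ej]
          linear_combination (dgScalar x y u (s i) : F) * (dgScalar x y u (bar (s j)) : F) * ek
        have e' : ⁅(tv (Ne.symm hk.1) ((dgScalar x y u (p i) : F) * dgScalar x y u (bar (p k)) * t') : SLN),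
            (tv hk.2 μ : SLN)⁆ = tv hij ((u : F) * t') := by
          have := Linear.transvection_mul_comm (Ne.symm hk.1) hk.2 hij
            ((dgScalar x y u (p i) : F) * dgScalar x y u (bar (p k)) * t') μ
          rw [show (dgScalar x y u (p i) : F) * dgScalar x y u (bar (p k)) * t' * μ = (u : F) * t' by
            linear_combination t' * hval] at this
          exact this
        rw [← map_commutatorElement (X.pat p), e, ← e', map_commutatorElement]
        refine X.comm_congr ?_ ?_ <;> rw [map_mul, map_mul, map_inv, hg, X.π_pat hp, X.π_pat hp, conj] <;>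
          simp only [μ, mul_one]
      have hsum : X.pat p (tv hij t) * X.pat p (tv hij t') = X.pat p (tv hij ((u : F) * t')) := by
        rw [← map_mul, show (u : F) * t' = t + t' by
          simp only [t']; field_simp [sub_ne_zero.2 hu]; ring]
        exact congrArg _ (Matrix.SpecialLinearGroup.transvection_add _ t t').symm
      rw [commutatorElement_def, hc, ← hsum, mul_inv_cancel_right]
    rw [key hs rfl rfl, key hs' hi.symm hj.symm]
    exact X.comm_congr rfl (by rw [X.π_pat hs, X.π_pat hs', ← hi, ← hj])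
  obtain ⟨k, hk⟩ := SLMult.exists_notMem ({i, j} : Finset (Fin N)) (by
    have := Finset.card_le_two (a := i) (b := j)
    simp; omega)
  obtain ⟨k', hk'⟩ := SLMult.exists_notMem ({i, j, k} : Finset (Fin N)) (by
    have := Finset.card_le_three (a := i) (b := j) (c := k)
    simp; omega)
  simp only [Finset.mem_insert, Finset.mem_singleton, not_or] at hk hk'
  set s'' : Fin N → SI := fun x => if x = k then s x else s' x with hs''
  have h'' : IsPat s'' := fun x => by
    simp only [hs'']
    split_ifs
    · exact hs x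
    · exact hs' x
  rw [X.agree_one hs h'' (Ne.symm hk.1) hk.2 hij (by simp [hs'', Ne.symm hk.1, hi]) (by simp [hs'', Ne.symm hk.2, hj])
    (by simp [hs'']),
    X.agree_one h'' hs' (Ne.symm hk'.1) hk'.2.1 hij (by simp [hs'', Ne.symm hk.1]) (by simp [hs'', Ne.symm hk.2])
    (by simp [hs'', hk'.2.2])]

open Classical in
/-- The lift of a root value. -/
noncomputable def R (a b : SI) (t : F) : Γ :=
  if h : Adm a b then X.pat (pat_root h).choose (tv h.idx t) else 1

theorem R_eq {s : Fin N → SI} (hs : IsPat s) {a b : SI} (h : Adm a b) (ha : s (ix a) = a)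
    (hb : s (ix b) = bar b) (t : F) : X.R a b t = X.pat s (tv h.idx t) := by
  rw [R, dif_pos h]
  obtain ⟨h1, h2, h3⟩ := (pat_root h).choose_spec
  exact X.agree h1 hs h.idx (h2.trans ha.symm) (h3.trans hb.symm) t

theorem π_R {a b : SI} (h : Adm a b) (t : F) : X.π (X.R a b t) = RO F a b t := by
  obtain ⟨s, hs, ha, hb⟩ := pat_root h
  rw [X.R_eq hs h ha hb, X.π_pat hs, ha, hb, bar_bar]

theorem R_add {a b : SI} (h : Adm a b) (t u : F) : X.R a b (t + u) = X.R a b t * X.R a b u := by
  obtain ⟨s, hs, ha, hb⟩ := pat_root h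
  rw [X.R_eq hs h ha hb, X.R_eq hs h ha hb, X.R_eq hs h ha hb, ← map_mul]
  exact congrArg _ (Matrix.SpecialLinearGroup.transvection_add _ t u)

theorem R_zero {a b : SI} (h : Adm a b) : X.R a b 0 = 1 := by
  have := X.R_add h 0 0
  rw [add_zero] at this
  exact left_eq_mul.1 this

theorem R_neg {a b : SI} (h : Adm a b) (t : F) : X.R a b (-t) = (X.R a b t)⁻¹ :=
  eq_inv_of_mul_eq_one_left (by rw [← X.R_add h, neg_add_cancel, X.R_zero h])

theorem R_mid {a b e : SI} (h1 : Adm a b) (h2 : Adm (bar b) e) (h3 : Adm a e) (t u : F) :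
    ⁅X.R a b t, X.R (bar b) e u⁆ = X.R a e (t * u) := by
  have i2 : ix b ≠ ix e := fun q => h2.idx ((ix_bar b).trans q)
  obtain ⟨s, hs, ea, eb, ee', -⟩ := pat4 a (bar b) (bar e) a
    (fun q => absurd (q.trans (ix_bar b)) h1.idx) (fun q => absurd (q.trans (ix_bar e)) h3.idx) (fun _ => rfl)
    (fun q => absurd (((ix_bar b).symm.trans q).trans (ix_bar e)) i2)
    (fun q => absurd (q.symm.trans (ix_bar b)) h1.idx) (fun q => absurd (q.symm.trans (ix_bar e)) h3.idx)
  rw [ix_bar] at eb ee'
  have eb2 : s (ix (bar b)) = bar b := by rw [ix_bar]; exact eb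
  rw [X.R_eq hs h1 ea eb, X.R_eq hs h2 eb2 ee', X.R_eq hs h3 ea ee', ← map_commutatorElement]
  have key : ∀ (j j' k : Fin N) (hj : j = j') (p1 : ix a ≠ j) (p2 : j' ≠ k) (p3 : ix a ≠ k),
      ⁅(tv p1 t : SLN), (tv p2 u : SLN)⁆ = tv p3 (t * u) := by
    intro j j' k hj p1 p2 p3
    subst hj
    exact Linear.transvection_mul_comm p1 p2 p3 t u
  exact congrArg _ (key _ _ _ (ix_bar b).symm h1.idx h2.idx h3.idx)

theorem R_swap {a b : SI} (h : Adm a b) (t : F) : X.R b a t = X.R a b (-t) := by
  classical
  obtain ⟨c, hc⟩ := SLMult.exists_notMem ({ix a, ix b} : Finset (Fin N)) (by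
    have := X.hN
    have := Finset.card_le_two (a := ix a) (b := ix b)
    simp; omega)
  simp only [Finset.mem_insert, Finset.mem_singleton, not_or] at hc
  set C : SI := Sum.inl c
  have hac : Adm a C := Adm.of_idx (Ne.symm hc.1)
  have hbc : Adm b C := Adm.of_idx (Ne.symm hc.2)
  have hswap : ∀ {x y : SI}, Adm x y → ∀ r : F, RO F y x r = RO F x y (-r) := fun hxy r =>
    (orels (F := F) (N := N)).swap _ _ r hxy
  have e1 := X.R_mid hbc (hac.bar_right.symm) h.symm t 1
  have e2 := X.R_mid hac.bar_right (by rw [bar_bar]; exact hbc.symm) h (-1) (-t)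
  rw [mul_one] at e1
  rw [bar_bar, show (-1 : F) * -t = t by ring] at e2
  rw [X.R_neg h, ← e1, ← e2, commutatorElement_inv]
  refine X.comm_congr ?_ ?_
  · rw [X.π_R hbc, X.π_R hbc.symm, hswap hbc.symm t]
  · rw [X.π_R hac.bar_right.symm, X.π_R hac.bar_right, hswap hac.bar_right]

theorem R_comm_of {a b c e : SI} (hab : Adm a b) (hce : Adm c e) (h1 : c ≠ bar a) (h2 : c ≠ bar b)
    (h3 : e ≠ bar a) (h4 : e ≠ bar b) (hcb : c ≠ b) (hea : e ≠ a) (t u : F) :
    Commute (X.R a b t) (X.R c e u) := by
  have same : ∀ {x y : SI}, ix x = ix y → x ≠ bar y → x = y := fun {x y} q hne => by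
    rcases x with i | i <;> rcases y with j | j <;> simp_all [bar]
  have ne : ∀ {x y : SI}, x ≠ y → x ≠ bar y → ix x ≠ ix y := fun p q w => p (same w q)
  have icb : ix c ≠ ix b := ne hcb h2
  have iea : ix e ≠ ix a := ne hea h3
  obtain ⟨s, hs, ea, eb, ec, ee'⟩ := pat4 a (bar b) c (bar e)
    (fun q => absurd (q.trans (ix_bar b)) hab.idx) (fun q => (same q.symm h1).symm)
    (fun q => absurd (q.trans (ix_bar e)).symm iea) (fun q => absurd ((ix_bar b).symm.trans q).symm icb)
    (fun q => by rw [ix_bar, ix_bar] at q; rw [same q.symm h4])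
    (fun q => absurd (q.trans (ix_bar e)) hce.idx)
  rw [ix_bar] at eb ee'
  rw [X.R_eq hs hab ea eb, X.R_eq hs hce ec ee']
  exact (SLMult.tv_commute hab.idx hce.idx (Ne.symm iea) (Ne.symm icb) t u).map _

theorem R_comm {a b c e : SI} (hab : Adm a b) (hce : Adm c e) (h1 : c ≠ bar a) (h2 : c ≠ bar b)
    (h3 : e ≠ bar a) (h4 : e ≠ bar b) (t u : F) : Commute (X.R a b t) (X.R c e u) := by
  by_cases hd : c ≠ b ∧ e ≠ a
  · exact X.R_comm_of hab hce h1 h2 h3 h4 hd.1 hd.2 t u
  have hx : X.R c e u = X.R e c (-u) := X.R_swap hce.symm u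
  rw [hx]
  refine X.R_comm_of hab hce.symm h3 h4 h1 h2 (fun q => hd ?_) (fun q => hd ?_) t _
  · subst q
    exact ⟨hce.1, fun r => hab.1 r.symm⟩
  · subst q
    exact ⟨hab.1, fun r => hce.1 r.symm⟩

theorem R_comm' {a b : SI} (hab : Adm a b) (t u : F) : Commute (X.R a b t) (X.R (bar b) a u) := by
  classical
  rw [show X.R (bar b) a u = X.R a (bar b) (-u) from X.R_swap hab.bar_right u]
  generalize -u = u'
  rcases eq_or_ne t 0 with rfl | ht
  · rw [X.R_zero hab]; exact Commute.one_left _
  obtain ⟨v, rfl⟩ : ∃ v, u' = t * v := ⟨u' / t, by field_simp⟩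
  obtain ⟨c, hc⟩ := SLMult.exists_notMem ({ix a, ix b} : Finset (Fin N)) (by
    have := X.hN
    have := Finset.card_le_two (a := ix a) (b := ix b)
    simp; omega)
  simp only [Finset.mem_insert, Finset.mem_singleton, not_or] at hc
  set C : SI := Sum.inl c
  have hac : Adm a C := Adm.of_idx (Ne.symm hc.1)
  have hcb : Adm (bar C) b := Adm.of_idx fun q => hc.2 ((ix_bar C).symm.trans q)
  have hcb' : Adm (bar C) (bar b) := hcb.bar_right
  have habb : Adm a (bar b) := hab.bar_right
  set y := X.R a C (-t)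
  set h := X.R (bar C) b 1
  set g := X.R (bar C) (bar b) v
  set W := X.R a b t
  set Y := X.R a (bar b) (t * v)
  set Z := X.R a (bar C) (t * v)
  have conj : ∀ (x w z : Γ), ⁅x, w⁆ = z → w * x⁻¹ * w⁻¹ = x⁻¹ * z := fun x w z e => by
    rw [← e, commutatorElement_def]; group
  have hy : y = (X.R a C t)⁻¹ := X.R_neg hac t
  have eh : h * y * h⁻¹ = y * W := by
    rw [hy]
    refine conj _ _ _ ((X.R_mid hac hcb hab t 1).trans ?_)
    rw [mul_one]
  have eg : g * y * g⁻¹ = y * Y := by
    rw [hy]
    exact conj _ _ _ (X.R_mid hac hcb' habb t v)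
  have egW : g * W * g⁻¹ = Z * W := by
    have hgs : g = X.R (bar b) (bar C) (-v) := X.R_swap hcb'.symm v
    have := conj _ _ _ (X.R_mid hab (hcb'.symm) hac.bar_right t (-v))
    rw [← hgs, mul_neg, X.R_neg hac.bar_right] at this
    have e := congrArg (·⁻¹) this
    simp only [_root_.mul_inv_rev, inv_inv, ← mul_assoc] at e
    exact e
  have ehY : h * Y * h⁻¹ = Z * Y := by
    have hhs : h = X.R b (bar C) (-1) := X.R_swap hcb.symm 1
    have := conj _ _ _ (X.R_mid habb (by rw [bar_bar]; exact hcb.symm) hac.bar_right (t * v) (-1))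
    rw [bar_bar, ← hhs, mul_neg_one, X.R_neg hac.bar_right] at this
    have e := congrArg (·⁻¹) this
    simp only [_root_.mul_inv_rev, inv_inv, ← mul_assoc] at e
    exact e
  have hgh : X.π ⁅g, h⁆ = 1 := by
    rw [map_commutatorElement, X.π_R hcb', X.π_R hcb, commutatorElement_eq_one_iff_commute]
    have := (orels (F := F) (N := N)).comm' (bar C) (bar b) v (-1) hcb'
    rw [bar_bar] at this
    rw [show RO F (bar C) b 1 = RO F b (bar C) (-1) from (orels (F := F) (N := N)).swap _ _ 1 hcb.symm]
    exact this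
  have key : g * h * y * (g * h)⁻¹ = h * g * y * (h * g)⁻¹ := by
    have hc := X.central_of hgh (h * g * y * (h * g)⁻¹)
    calc g * h * y * (g * h)⁻¹ = ⁅g, h⁆ * (h * g * y * (h * g)⁻¹) * ⁅g, h⁆⁻¹ := by
          simp only [commutatorElement_def]; group
      _ = _ := by rw [← hc.eq, mul_inv_cancel_right]
  have cZW : Commute Z W := by
    refine X.R_comm_of hac.bar_right hab ?_ ?_ ?_ ?_ ?_ ?_ _ _
    · exact (bar_ne a).symm
    · rw [bar_bar]; exact hac.1
    · exact hab.symm.2
    · rw [bar_bar]; intro q; exact hc.2 (congrArg ix q).symm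
    · exact hac.2
    · exact hab.1.symm
  have cZY : Commute Z Y := by
    refine X.R_comm_of hac.bar_right habb ?_ ?_ ?_ ?_ ?_ ?_ _ _
    · exact (bar_ne a).symm
    · rw [bar_bar]; exact hac.1
    · exact habb.symm.2
    · rw [bar_bar]; intro q; exact hc.2 ((congrArg ix q).symm.trans (ix_bar b))
    · exact hac.2
    · exact habb.1.symm
  rw [show g * h * y * (g * h)⁻¹ = g * (h * y * h⁻¹) * g⁻¹ by group,
    show h * g * y * (h * g)⁻¹ = h * (g * y * g⁻¹) * h⁻¹ by group, eh, eg,
    show g * (y * W) * g⁻¹ = (g * y * g⁻¹) * (g * W * g⁻¹) by group,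
    show h * (y * Y) * h⁻¹ = (h * y * h⁻¹) * (h * Y * h⁻¹) by group, eh, eg, egW, ehY, mul_assoc, mul_assoc,
    mul_left_cancel_iff, ← mul_assoc, ← mul_assoc, ← cZY.eq, ← cZW.eq, mul_assoc, mul_assoc,
    mul_left_cancel_iff] at key
  exact key.symm

/-- The system of values. -/
noncomputable def drels : DRels F Γ N where
  R := X.R
  swap _ _ t h := X.R_swap h t
  add _ _ t u h := X.R_add h t u
  comm _ _ _ _ t u h h' h1 h2 h3 h4 := X.R_comm h h' h1 h2 h3 h4 t u
  comm' _ _ t u h := X.R_comm' h t u
  mid _ _ _ t u h h' h'' := X.R_mid h h' h'' t u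

end Core

end Cfsg.Agent.OrthMult
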