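/-
The orthogonal group of a frame of hyperbolic pairs inside the orthogonal group of the whole space.

* `coords`, `sumv`; `emb`: the extension by the identity; `emb_eich`; `emb_injective`.
-/
import Cfsg.Agent.Lib.OrthMult.Omega
import Cfsg.Agent.Lib.OrthBN.Basic

set_option autoImplicit false
set_option linter.unusedSectionVars false

open Matrix
open QuadraticMap (polar)

namespace Cfsg.Agent.OrthMult

open CurtisTitsA CurtisTitsD
open Cfsg.Agent.Orth hiding quadPlus
open Cfsg.Agent.OrthAct (quadPlus quadPlus_coe quadPlus_polar)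
open Cfsg.Agent.OrthBN (OFrame)

variable {F : Type*} [Field F] [Fintype F] {ι : Type} [Fintype ι] [DecidableEq ι] {N : ℕ}
  {Q : QuadraticForm F (ι → F)} (Φ : OFrame Q N)

local notation "SI" => (Fin N ⊕ Fin N)

/-- The coordinates at the frame. -/
noncomputable def coords : (ι → F) →ₗ[F] (SI → F) := LinearMap.pi fun a => Q.polarBilin (Φ.v (bar a))

/-- The vector of coordinates. -/
noncomputable def sumv : (SI → F) →ₗ[F] (ι → F) := Fintype.linearCombination F Φ.v

theorem coords_apply (x : ι → F) (a : SI) : coords Φ x a = polar ⇑Q (Φ.v (bar a)) x := rfl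

theorem sumv_apply (c : SI → F) : sumv Φ c = ∑ a, c a • Φ.v a := rfl

theorem sumv_ev (a : SI) : sumv Φ (ev F a) = Φ.v a := by
  rw [sumv_apply, Finset.sum_eq_single a (fun b _ hb => by simp [ev, hb])
    (fun h => absurd (Finset.mem_univ a) h)]
  simp [ev]

theorem pl_sumv (b : SI) (c : SI → F) : polar ⇑Q (Φ.v b) (sumv Φ c) = c (bar b) := by
  rw [sumv_apply, Φ.pl_sum]

theorem coords_sumv (c : SI → F) : coords Φ (sumv Φ c) = c :=
  funext fun a => by rw [coords_apply, pl_sumv, bar_bar]

theorem coords_v (a : SI) : coords Φ (Φ.v a) = ev F a := by rw [← sumv_ev, coords_sumv]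

theorem coords_off {x : ι → F} (h : Φ.Off x) : coords Φ x = 0 := funext fun a => h (bar a)

theorem decomp' (x : ι → F) : x = sumv Φ (coords Φ x) + Φ.proj x := Φ.decomp x

theorem proj_sumv (c : SI → F) : Φ.proj (sumv Φ c) = 0 := by
  have := decomp' Φ (sumv Φ c)
  rw [coords_sumv] at this
  exact left_eq_add.1 this

theorem polar_sumv (c d : SI → F) : polar ⇑Q (sumv Φ c) (sumv Φ d) = polar ⇑(quadPlus N F) c d := by
  rw [sumv_apply Φ c, show polar ⇑Q (∑ a, c a • Φ.v a) (sumv Φ d) =
    (∑ a, c a • Q.polarBilin (Φ.v a)) (sumv Φ d) by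
      rw [← Q.polarBilin_apply_apply, map_sum]; simp [map_smul]]
  rw [quadPlus_polar]
  simp [pl_sumv, Fintype.sum_sum_type, ← Finset.sum_add_distrib, mul_comm]

theorem Q_sumv (c : SI → F) : Q (sumv Φ c) = quadPlus N F c := by
  suffices ∀ s : Finset SI, Q (∑ a ∈ s, c a • Φ.v a) = quadPlus N F (∑ a ∈ s, c a • ev F a) by
    have e : (∑ a, c a • ev F a) = c := by
      funext x; simp [ev, Finset.sum_apply, Pi.single_apply]
    rw [sumv_apply, this, e]
  intro s
  induction s using Finset.induction_on with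
  | empty => simp
  | insert a s ha ih =>
    rw [Finset.sum_insert ha, Finset.sum_insert ha, Q_add, Q_add, ih, Q_smul, Φ.sing, Q_smul, Q_ev']
    congr 1
    rw [show (∑ b ∈ s, c b • Φ.v b) = sumv Φ (∑ b ∈ s, c b • ev F b) by simp [map_sum, map_smul, sumv_ev],
      show c a • Φ.v a = sumv Φ (c a • ev F a) by rw [map_smul, sumv_ev], polar_sumv]

theorem Q_decomp (x : ι → F) : Q x = quadPlus N F (coords Φ x) + Q (Φ.proj x) := by
  conv_lhs => rw [decomp' Φ x]
  rw [Q_add, Q_sumv, show polar ⇑Q (sumv Φ (coords Φ x)) (Φ.proj x) = 0 by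
    rw [sumv_apply, show polar ⇑Q (∑ a, coords Φ x a • Φ.v a) (Φ.proj x) =
      (∑ a, coords Φ x a • Q.polarBilin (Φ.v a)) (Φ.proj x) by
        rw [← Q.polarBilin_apply_apply, map_sum]; simp [map_smul]]
    simp [(Φ.proj_off x) _], add_zero]

/-- The extension of an isometry of the coordinates. -/
noncomputable def embLin (g : IsoGrp (quadPlus N F)) : (ι → F) →ₗ[F] (ι → F) :=
  Φ.proj + (sumv Φ).comp ((ap g).comp (coords Φ))

theorem embLin_apply (g : IsoGrp (quadPlus N F)) (x : ι → F) :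
    embLin Φ g x = Φ.proj x + sumv Φ (ap g (coords Φ x)) := rfl

theorem coords_embLin (g : IsoGrp (quadPlus N F)) (x : ι → F) :
    coords Φ (embLin Φ g x) = ap g (coords Φ x) := by
  rw [embLin_apply, map_add, coords_off Φ (Φ.proj_off x), coords_sumv, zero_add]

theorem proj_embLin (g : IsoGrp (quadPlus N F)) (x : ι → F) : Φ.proj (embLin Φ g x) = Φ.proj x := by
  have := decomp' Φ (embLin Φ g x)
  rw [coords_embLin] at this
  nth_rewrite 1 [embLin_apply] at this
  rw [add_comm] at this
  exact (add_left_cancel this).symm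

theorem embLin_mul (g h : IsoGrp (quadPlus N F)) (x : ι → F) :
    embLin Φ (g * h) x = embLin Φ g (embLin Φ h x) := by
  rw [embLin_apply Φ g, proj_embLin, coords_embLin, embLin_apply, ap_mul]

theorem embLin_one (x : ι → F) : embLin Φ 1 x = x := by
  rw [embLin_apply, ap_one, add_comm, ← decomp']

/-- The extension as an element of the isometry group. -/
noncomputable def embFun (g : IsoGrp (quadPlus N F)) : IsoGrp Q :=
  ⟨⟨LinearMap.toMatrix' (embLin Φ g), LinearMap.toMatrix' (embLin Φ g⁻¹),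
    Matrix.ext_of_mulVec_single fun i => by
      rw [← Matrix.mulVec_mulVec, LinearMap.toMatrix'_mulVec, LinearMap.toMatrix'_mulVec, ← embLin_mul,
        mul_inv_cancel, embLin_one, Matrix.one_mulVec],
    Matrix.ext_of_mulVec_single fun i => by
      rw [← Matrix.mulVec_mulVec, LinearMap.toMatrix'_mulVec, LinearMap.toMatrix'_mulVec, ← embLin_mul,
        inv_mul_cancel, embLin_one, Matrix.one_mulVec]⟩, fun x _ => by
    show Q (LinearMap.toMatrix' (embLin Φ g) *ᵥ x) = Q x
    rw [LinearMap.toMatrix'_mulVec, Q_decomp Φ, coords_embLin, proj_embLin, Q_ap, ← Q_decomp]⟩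

theorem ap_embFun (g : IsoGrp (quadPlus N F)) (x : ι → F) : ap (embFun Φ g) x = embLin Φ g x :=
  LinearMap.toMatrix'_mulVec _ _

/-- The extension by the identity. -/
noncomputable def emb : IsoGrp (quadPlus N F) →* IsoGrp Q :=
  MonoidHom.mk' (embFun Φ) fun g h => ext_ap fun x => by
    rw [ap_mul, ap_embFun, ap_embFun, ap_embFun, embLin_mul]

theorem ap_emb (g : IsoGrp (quadPlus N F)) (x : ι → F) :
    ap (emb Φ g) x = Φ.proj x + sumv Φ (ap g (coords Φ x)) := ap_embFun Φ g x

theorem ap_emb_sumv (g : IsoGrp (quadPlus N F)) (c : SI → F) :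
    ap (emb Φ g) (sumv Φ c) = sumv Φ (ap g c) := by
  rw [ap_emb, proj_sumv, coords_sumv, zero_add]

theorem ap_emb_v (g : IsoGrp (quadPlus N F)) (a : SI) :
    ap (emb Φ g) (Φ.v a) = sumv Φ (ap g (ev F a)) := by
  rw [← sumv_ev Φ a, ap_emb_sumv]

theorem ap_emb_off (g : IsoGrp (quadPlus N F)) {x : ι → F} (h : Φ.Off x) : ap (emb Φ g) x = x := by
  have := decomp' Φ x
  rw [coords_off Φ h, map_zero, zero_add] at this
  rw [ap_emb, coords_off Φ h, map_zero, map_zero, add_zero, ← this]

theorem emb_injective : Function.Injective (emb Φ) := fun g h e => ext_ap fun c => by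
  have := congrArg (coords Φ) (congrArg (fun k => ap k (sumv Φ c)) e)
  simpa [ap_emb_sumv, coords_sumv] using this

theorem emb_eich {u w : SI → F} (hu : quadPlus N F u = 0) (hw : polar ⇑(quadPlus N F) u w = 0) :
    emb Φ (eich (quadPlus N F) u w) = eich Q (sumv Φ u) (sumv Φ w) := by
  refine ext_ap fun x => ?_
  have hp : ∀ c, polar ⇑Q (sumv Φ c) x = polar ⇑(quadPlus N F) c (coords Φ x) := fun c => by
    conv_lhs => rw [decomp' Φ x]
    rw [pl_add_right, polar_sumv, pl_comm Q (sumv Φ c) (Φ.proj x), sumv_apply,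
      show polar ⇑Q (Φ.proj x) (∑ a, c a • Φ.v a) = Q.polarBilin (Φ.proj x) (∑ a, c a • Φ.v a) from rfl,
      map_sum, Finset.sum_eq_zero (fun a _ => by simp [Φ.off_pl (Φ.proj_off x)]), add_zero]
  rw [ap_emb, eich_ap hu hw, eich_ap (by rw [Q_sumv, hu]) (by rw [polar_sumv, hw]), Q_sumv, hp, hp]
  conv_rhs => rw [decomp' Φ x]
  simp only [map_add, map_sub, map_smul, coords_off Φ (Φ.proj_off x), coords_sumv, map_zero, add_zero]
  module

theorem emb_RO {a b : SI} (h : Adm a b) (t : F) :
    emb Φ (RO F a b t) = eich Q (Φ.v b) (t • Φ.v a) := by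
  rw [RO, emb_eich Φ (Q_ev' b) (by rw [pl_smul_right, polar_ev_of_adm h.symm, mul_zero]), map_smul,
    sumv_ev, sumv_ev]

theorem emb_mem_omega {g : IsoGrp (quadPlus N F)} (h : g ∈ Omega F ⇑(quadPlus N F)) :
    emb Φ g ∈ Omega F ⇑Q := by
  have : (Omega F ⇑(quadPlus N F)).map (emb Φ) ≤ Omega F ⇑Q := by
    rw [Omega, commutator_def, Subgroup.map_commutator]
    exact Subgroup.commutator_mono le_top le_top
  exact this ⟨g, h, rfl⟩

end Cfsg.Agent.OrthMult
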