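/-
The kernel of a system of values over Ω⁺, and splitting of the central extensions.

* `zz`: the product of the two involutions of two indices; `gam_kernel`: it generates the kernel.
* `splits_gam`: a model in which `zz` is nontrivial (characteristic not two) has no proper central extension.
-/
import Cfsg.Agent.Lib.OrthMult.Lifts

set_option autoImplicit false

open Matrix
open scoped commutatorElement

namespace Cfsg.Agent.OrthMult

open CurtisTitsA CurtisTitsD Cfsg.Agent.Orth
open Cfsg.Agent.OrthAct (quadPlus)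

universe u

variable {F : Type*} [Field F] {N : ℕ}

local notation "SI" => (Fin N ⊕ Fin N)
local notation "Q₀" => quadPlus N F

theorem Core.over {F : Type u} [Field F] [Fintype F] {N : ℕ} {Γ : Type u} [Group Γ] (X : Core F N Γ) :
    Over X.drels X.π :=
  fun _ _ t h => X.π_R h t

variable {G H : Type*} [Group G] [Group H]

/-- The image of a system of values. -/
def drelsMap (D : DRels F G N) (f : G →* H) : DRels F H N where
  R a b t := f (D.R a b t)
  swap a b t h := congrArg f (D.swap a b t h)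
  add a b t u h := by rw [D.add a b t u h, map_mul]
  comm a b c e t u h h' h1 h2 h3 h4 := (D.comm a b c e t u h h' h1 h2 h3 h4).map f
  comm' a b t u h := (D.comm' a b t u h).map f
  mid a b e t u h h' h'' := by rw [← map_commutatorElement, D.mid a b e t u h h' h'']

/-- The product of the two involutions of two indices. -/
noncomputable def zz (D : DRels F G N) (p r : Fin N) : G :=
  D.P (Sum.inl p) (Sum.inl r) CurtisTitsA.negOne * D.P (Sum.inl p) (Sum.inr r) CurtisTitsA.negOne

theorem zz_eq_one_of_two (h2 : (2 : F) = 0) (D : DRels F G N) (p r : Fin N) : zz D p r = 1 := by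
  have : (CurtisTitsA.negOne : Matrix.SpecialLinearGroup (Fin 2) F) = 1 := by
    apply Subtype.ext
    rw [negOne_coe]
    ext i j
    fin_cases i <;> fin_cases j <;> simp <;> linear_combination -h2
  rw [zz, this, map_one, map_one, one_mul]

theorem adm_signed {p r : Fin N} (h : p ≠ r) :
    Adm (Sum.inl p : SI) (Sum.inl r) ∧ Adm (Sum.inl p : SI) (Sum.inr r) :=
  ⟨Adm.of_idx h, Adm.of_idx h⟩

variable [Finite F] (D : DRels F G N)

theorem map_P (hN : 3 ≤ N) (f : G →* H) (D' : DRels F H N) (hf : ∀ a b t, Adm a b → f (D.R a b t) = D'.R a b t)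
    {x y : SI} (h : Adm x y) : f.comp (D.P x y) = D'.P x y :=
  D'.P_ext hN h (fun t => by rw [MonoidHom.comp_apply, (D.P_spec hN h t).1, hf _ _ _ h.bar_right])
    fun t => by rw [MonoidHom.comp_apply, (D.P_spec hN h t).2, hf _ _ _ h.symm.bar_right]

theorem map_zz (hN : 3 ≤ N) (f : G →* H) (D' : DRels F H N) (hf : ∀ a b t, Adm a b → f (D.R a b t) = D'.R a b t)
    {p r : Fin N} (h : p ≠ r) : f (zz D p r) = zz D' p r := by
  rw [zz, zz, map_mul, ← map_P D hN f D' hf (adm_signed h).1, ← map_P D hN f D' hf (adm_signed h).2]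
  rfl

theorem zz_sq (hN : 3 ≤ N) {p r : Fin N} (h : p ≠ r) : zz D p r * zz D p r = 1 := by
  unfold zz
  have hsq : ∀ φ : Matrix.SpecialLinearGroup (Fin 2) F →* G,
      φ CurtisTitsA.negOne * φ CurtisTitsA.negOne = 1 := fun φ => by
    rw [← map_mul, negOne_mul_self, map_one]
  have hc : Commute (D.P (Sum.inl p) (Sum.inr r) CurtisTitsA.negOne)
      (D.P (Sum.inl p) (Sum.inl r) CurtisTitsA.negOne) :=
    (D.P_range_commute hN (x := Sum.inl p) (y := Sum.inl r) (adm_signed h).1 _ _).symm
  rw [hc.mul_mul_mul_comm,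
    hsq, one_mul]
  exact hsq _

theorem π_zz {π : G →* IsoGrp Q₀} (hπ : Over D π) (hN : 3 ≤ N) {p r : Fin N} (h : p ≠ r) : π (zz D p r) = 1 := by
  rw [map_zz D hN π orels (fun a b t h => hπ a b t h) h]
  exact orels_zz hN h

theorem zz_mem_gam (hN : 3 ≤ N) {p r : Fin N} (h : p ≠ r) : zz D p r ∈ Gam D 0 := by
  refine mul_mem (D.P_mem hN (adm_signed h).1 (fun t => ?_) (fun t => ?_) _)
    (D.P_mem hN (adm_signed h).2 (fun t => ?_) (fun t => ?_) _)
  all_goals refine R_mem_Gam D ?_ (Nat.zero_le _) (Nat.zero_le _) _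
  · exact (adm_signed h).1.bar_right
  · exact (adm_signed h).1.symm.bar_right
  · exact (adm_signed h).2.bar_right
  · exact (adm_signed h).2.symm.bar_right

/-- The kernel on the values. -/
theorem gam_kernel {π : G →* IsoGrp Q₀} (hπ : Over D π) {p r : Fin N} (hpN : p.val + 2 = N)
    (hrN : r.val + 1 = N) (hN : 3 ≤ N) (hz : zz D p r ∈ Subgroup.center G) {g : G} (hg : g ∈ Gam D 0)
    (h1 : π g = 1) : g = 1 ∨ g = zz D p r := by
  have hne : p ≠ r := fun e => by rw [e] at hpN; omega
  set z := zz D p r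
  set K := Subgroup.zpowers z
  haveI : K.Normal := ⟨fun x hx y => by
    have hc : x ∈ Subgroup.center G := (Subgroup.zpowers_le.2 hz) hx
    rwa [Subgroup.mem_center_iff.1 hc y, mul_inv_cancel_right]⟩
  set D' := drelsMap D (QuotientGroup.mk' K)
  let π' : G ⧸ K →* IsoGrp Q₀ := QuotientGroup.lift K π
    (Subgroup.zpowers_le.2 (MonoidHom.mem_ker.2 (π_zz D hπ hN hne)))
  have hπ' : Over D' π' := fun a b t h => hπ a b t h
  have hzz : zz D' p r = 1 := by
    rw [← map_zz D hN (QuotientGroup.mk' K) D' (fun _ _ _ _ => rfl) hne]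
    exact (QuotientGroup.eq_one_iff z).2 (Subgroup.mem_zpowers z)
  have hinj := hπ'.inj hN hpN hrN hzz (N - 2) (by omega)
  rw [Nat.sub_self] at hinj
  have hmem : QuotientGroup.mk' K g ∈ Gam D' 0 := by
    have : Gam D 0 ≤ (Gam D' 0).comap (QuotientGroup.mk' K) := by
      rw [Gam, Subgroup.closure_le]
      rintro _ ⟨a, b, t, hab, -, -, rfl⟩
      exact R_mem_Gam D' hab (Nat.zero_le _) (Nat.zero_le _) t
    exact this hg
  obtain ⟨k, rfl⟩ := Subgroup.mem_zpowers_iff.1 ((QuotientGroup.eq_one_iff g).1 (hinj _ hmem h1))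
  have hsq : z ^ (2 : ℤ) = 1 := by rw [zpow_two]; exact zz_sq D hN hne
  rcases Int.even_or_odd k with ⟨m, rfl⟩ | ⟨m, rfl⟩
  · left; rw [← two_mul, _root_.zpow_mul, hsq, _root_.one_zpow]
  · right; rw [_root_.zpow_add, _root_.zpow_mul, hsq, _root_.one_zpow, one_mul, zpow_one]

theorem map_gam (hN : 3 ≤ N) {π : G →* IsoGrp Q₀} (hπ : Over D π) : (Gam D 0).map π = Omega F ⇑Q₀ := by
  rw [← gam_orels_eq (F := F) hN, Gam, Gam, MonoidHom.map_closure]
  congr 1
  ext y
  constructor
  · rintro ⟨_, ⟨a, b, t, h, ha, hb, rfl⟩, rfl⟩; exact ⟨a, b, t, h, ha, hb, hπ a b t h⟩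
  · rintro ⟨a, b, t, h, ha, hb, rfl⟩; exact ⟨_, ⟨a, b, t, h, ha, hb, rfl⟩, hπ a b t h⟩

theorem exists_mid_index (hN : 3 ≤ N) {a b : SI} (h : Adm a b) :
    ∃ c : SI, Adm a c ∧ Adm (bar c) b := by
  classical
  obtain ⟨c, hc⟩ := SLMult.exists_notMem ({ix a, ix b} : Finset (Fin N)) (by
    have := Finset.card_le_two (a := ix a) (b := ix b)
    simp; omega)
  simp only [Finset.mem_insert, Finset.mem_singleton, not_or] at hc
  exact ⟨Sum.inl c, Adm.of_idx (Ne.symm hc.1), Adm.of_idx fun q => hc.2 q⟩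

theorem gam_perfect (hN : 3 ≤ N) : commutator ↥(Gam D 0) = ⊤ := by
  have hle : Gam D 0 ≤ (commutator ↥(Gam D 0)).map (Gam D 0).subtype := by
    rw [commutator_def, Subgroup.map_commutator, ← MonoidHom.range_eq_map, Subgroup.range_subtype]
    refine (Subgroup.closure_le _).2 ?_
    rintro _ ⟨a, b, t, hab, -, -, rfl⟩
    obtain ⟨c, h1, h2⟩ := exists_mid_index hN hab
    rw [← mul_one t, ← D.mid a c b t 1 h1 h2 hab]
    exact Subgroup.commutator_mem_commutator (R_mem_Gam D h1 (Nat.zero_le _) (Nat.zero_le _) _)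
      (R_mem_Gam D h2 (Nat.zero_le _) (Nat.zero_le _) _)
  refine eq_top_iff.2 fun x _ => ?_
  obtain ⟨y, hy, e⟩ := hle x.2
  rwa [Subtype.ext e] at hy

end Cfsg.Agent.OrthMult

namespace Cfsg.Agent.OrthMult

open CurtisTitsA CurtisTitsD Cfsg.Agent.Orth
open Cfsg.Agent.OrthAct (quadPlus)

universe u

variable {F : Type u} [Field F] [Fintype F] {N : ℕ} {G : Type u} [Group G]

/-- A model in which `zz` is nontrivial unless the characteristic is two has no proper central extension. -/
theorem splits_gam (D : DRels F G N) {π : G →* IsoGrp (quadPlus N F)} (hπ : Over D π) (h4 : 4 ≤ N)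
    (hexc : ¬ (N = 4 ∧ Fintype.card F = 2)) {p r : Fin N} (hpN : p.val + 2 = N) (hrN : r.val + 1 = N)
    (hzc : zz D p r ∈ Subgroup.center G) (hzne : zz D p r = 1 → (2 : F) = 0) :
    ChevSt.Splits ↥(Gam D 0) := by
  intro L _ f hf hc
  have hN : 3 ≤ N := by omega
  have hne : p ≠ r := fun e => by rw [e] at hpN; omega
  let θ : L →* IsoGrp (quadPlus N F) := (π.comp (Gam D 0).subtype).comp f
  have hk : ∀ s : (Gam D 0), π s.1 = 1 → s ∈ Subgroup.center (Gam D 0) := fun s hs => by
    rcases gam_kernel D hπ hpN hrN hN hzc s.2 hs with e | e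
    · rw [show s = 1 from Subtype.ext e]; exact one_mem _
    · exact Subgroup.mem_center_iff.2 fun x => Subtype.ext
        (Subgroup.mem_center_iff.1 (by rw [e]; exact hzc) x.1)
  have hcen : θ.ker ≤ Subgroup.center L := by
    intro x hx
    have hfx : f x ∈ Subgroup.center (Gam D 0) := hk _ hx
    have hdiff : ∀ y, ⁅x, y⁆ ∈ f.ker := fun y => by
      rw [MonoidHom.mem_ker, map_commutatorElement, commutatorElement_eq_one_iff_commute]
      exact (Subgroup.mem_center_iff.1 hfx (f y)).symm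
    have hmul : ∀ y y', ⁅x, y * y'⁆ = ⁅x, y⁆ * ⁅x, y'⁆ := fun y y' =>
      PGroup.commutator_mul_right (Subgroup.mem_center_iff.1 (hc (hdiff y')) y)
    let χ : L →* L := MonoidHom.mk' (fun y => ⁅x, y⁆) hmul
    have h1 : ∀ y ∈ f.ker, χ y = 1 := fun y hy =>
      commutatorElement_eq_one_iff_commute.2 (Subgroup.mem_center_iff.1 (hc hy) x)
    have hcomm : commutator L ≤ χ.ker := by
      rw [commutator_def, Subgroup.commutator_le]
      intro a _ b _
      rw [MonoidHom.mem_ker, map_commutatorElement, commutatorElement_eq_one_iff_commute]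
      exact Subgroup.mem_center_iff.1 (hc (hdiff b)) _
    rw [Subgroup.mem_center_iff]
    intro y
    have hy : f y ∈ (commutator L).map f := by
      rw [commutator_def, Subgroup.map_commutator, Subgroup.map_top_of_surjective f hf, ← commutator_def,
        gam_perfect D hN]
      exact Subgroup.mem_top _
    obtain ⟨d, hd, he⟩ := hy
    have e1 : χ (d * (d⁻¹ * y)) = 1 := by
      rw [map_mul, MonoidHom.mem_ker.1 (hcomm hd), one_mul]
      exact h1 _ (by rw [MonoidHom.mem_ker, map_mul, map_inv, he, inv_mul_cancel])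
    rw [mul_inv_cancel_left] at e1
    exact (commutatorElement_eq_one_iff_commute.1 e1).symm.eq
  let X : Core F N L :=
    { π := θ
      range_eq := by
        rw [MonoidHom.range_comp, MonoidHom.range_eq_top.2 hf, ← MonoidHom.range_eq_map, MonoidHom.range_comp,
          Subgroup.range_subtype]
        exact map_gam D hN hπ
      central := hcen
      hN := hN
      ok := ⟨by simpa using hN, fun h => absurd h (by simp; omega), fun h h' => hexc ⟨by simpa using h, h'⟩⟩
      big := .inl h4 }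
  have hfR : ∀ a b t, Adm a b → (f (X.R a b t) : G) = D.R a b t := by
    intro a b t hab
    obtain ⟨c, h1, h2⟩ := exists_mid_index hN hab
    set s1 : (Gam D 0) := ⟨D.R a c t, R_mem_Gam D h1 (Nat.zero_le _) (Nat.zero_le _) _⟩
    set s2 : (Gam D 0) := ⟨D.R (bar c) b 1, R_mem_Gam D h2 (Nat.zero_le _) (Nat.zero_le _) _⟩
    have hd : ∀ (s : (Gam D 0)) (x : L), θ x = π s.1 → ∃ w ∈ Subgroup.center (Gam D 0), f x = s * w := fun s x he =>
      ⟨s⁻¹ * f x, hk _ (by
        rw [Subgroup.coe_mul, map_mul, Subgroup.coe_inv, map_inv, inv_mul_eq_one]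
        exact he.symm), (mul_inv_cancel_left _ _).symm⟩
    obtain ⟨w1, hw1, q1⟩ := hd s1 (X.R a c t) ((X.π_R h1 t).trans (hπ a c t h1).symm)
    obtain ⟨w2, hw2, q2⟩ := hd s2 (X.R (bar c) b 1) ((X.π_R h2 1).trans (hπ (bar c) b 1 h2).symm)
    have e := congrArg f (X.R_mid h1 h2 hab t 1)
    rw [map_commutatorElement, q1, q2, CentralExt.commutatorElement_mul_center hw1 hw2, mul_one] at e
    rw [← e, ← Subgroup.coe_subtype, map_commutatorElement]
    exact (D.mid a c b t 1 h1 h2 hab).trans (by rw [mul_one])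
  have hzf : (f (zz X.drels p r) : G) = zz D p r :=
    map_zz X.drels hN ((Gam D 0).subtype.comp f) D (fun a b t h => hfR a b t h) hne
  have hzc' : zz X.drels p r ∈ Subgroup.center L := hcen (π_zz X.drels X.over hN hne)
  let g : Gam X.drels 0 →* (Gam D 0) := f.comp (Gam X.drels 0).subtype
  have hinj : Function.Injective g := by
    rw [← MonoidHom.ker_eq_bot_iff, eq_bot_iff]
    intro x hx
    have hfx : f x.1 = 1 := hx
    have hθ : θ x.1 = 1 := by simp [θ, hfx]
    rcases gam_kernel X.drels X.over hpN hrN hN hzc' x.2 hθ with e | e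
    · exact Subgroup.mem_bot.2 (Subtype.ext e)
    · have h2 : (2 : F) = 0 := hzne (by rw [← hzf, ← e, hfx]; rfl)
      rw [zz_eq_one_of_two h2] at e
      exact Subgroup.mem_bot.2 (Subtype.ext e)
  have hsur : Function.Surjective g := by
    intro s
    have : (Gam D 0) ≤ ((Gam X.drels 0).map f).map (Gam D 0).subtype := by
      refine (Subgroup.closure_le _).2 ?_
      rintro _ ⟨a, b, t, hab, -, -, rfl⟩
      exact ⟨f (X.R a b t), ⟨X.R a b t, R_mem_Gam X.drels hab (Nat.zero_le _) (Nat.zero_le _) t, rfl⟩,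
        hfR a b t hab⟩
    obtain ⟨y, ⟨x, hx, rfl⟩, e⟩ := this s.2
    exact ⟨⟨x, hx⟩, Subtype.ext e⟩
  let e := MulEquiv.ofBijective g ⟨hinj, hsur⟩
  exact ⟨(Gam X.drels 0).subtype.comp e.symm.toMonoidHom, MonoidHom.ext fun s => e.apply_symm_apply s⟩

end Cfsg.Agent.OrthMult
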