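/-
Diagonal elements of a system of values over Ω⁺ and lifts of -1.

* `P_P_commute`; `exists_pairs`, `exists_flip`.
-/
import Cfsg.Agent.Lib.OrthMult.Kernel

set_option autoImplicit false

open Matrix
open scoped commutatorElement

namespace Cfsg.Agent.OrthMult

open CurtisTitsA CurtisTitsD Cfsg.Agent.Orth
open Cfsg.Agent.OrthAct (quadPlus)

variable {F : Type*} [Field F] [Finite F] {N : ℕ} {G : Type*} [Group G] {D : DRels F G N}
  {π : G →* IsoGrp (quadPlus N F)}

local notation "SI" => (Fin N ⊕ Fin N)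
local notation "SL2" => Matrix.SpecialLinearGroup (Fin 2) F

/-- Two SL_2's on disjoint indices commute. -/
theorem P_P_commute (hN : 3 ≤ N) {x y c e : SI} (h : Adm x y) (hce : Adm c e) (h1 : ix x ≠ ix c)
    (h2 : ix x ≠ ix e) (h3 : ix y ≠ ix c) (h4 : ix y ≠ ix e) (A B : SL2) :
    Commute (D.P x y A) (D.P c e B) := by
  refine (Subgroup.mem_centralizer_singleton_iff.1 (D.P_mem hN hce (H := Subgroup.centralizer {D.P x y A})
    (fun t => Subgroup.mem_centralizer_singleton_iff.2 ?_)
    (fun t => Subgroup.mem_centralizer_singleton_iff.2 ?_) B) :).symm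
  · exact (D.P_commute hN h hce.bar_right (Adm.of_idx h1) (Adm.of_idx fun q => h2 (q.trans (ix_bar e)))
      (Adm.of_idx h3) (Adm.of_idx fun q => h4 (q.trans (ix_bar e))) A t).symm.eq
  · exact (D.P_commute hN h hce.symm.bar_right (Adm.of_idx h2) (Adm.of_idx fun q => h1 (q.trans (ix_bar c)))
      (Adm.of_idx h4) (Adm.of_idx fun q => h3 (q.trans (ix_bar c))) A t).symm.eq

/-- An involution in Gam lifting -1 on the first `2k` indices. -/
theorem exists_pairs (hπ : Over D π) (hN : 3 ≤ N) : ∀ k : ℕ, 2 * k ≤ N → ∃ u ∈ Gam D 0, u * u = 1 ∧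
    (∀ z : SI, ap (π u) (ev F z) = (if (ix z).val < 2 * k then (-1 : F) else 1) • ev F z) ∧
    ∀ x y : SI, Adm x y → 2 * k ≤ (ix x).val → 2 * k ≤ (ix y).val → ∀ A, Commute u (D.P x y A) := by
  intro k
  induction k with
  | zero =>
    intro _
    exact ⟨1, one_mem _, one_mul 1, fun z => by simp, fun x y _ _ _ A => Commute.one_left _⟩
  | succ k ih =>
    intro hk
    obtain ⟨u, hu, husq, huap, hucomm⟩ := ih (by omega)
    set a : SI := Sum.inl ⟨2 * k, by omega⟩
    set b : SI := Sum.inl ⟨2 * k + 1, by omega⟩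
    have hab : Adm a b := Adm.of_idx (by simp [a, b, Fin.ext_iff])
    set p := D.P a b (dg (-1))
    have hp : p ∈ Gam D 0 := D.P_mem hN hab
      (fun t => R_mem_Gam D hab.bar_right (Nat.zero_le _) (Nat.zero_le _) t)
      (fun t => R_mem_Gam D hab.symm.bar_right (Nat.zero_le _) (Nat.zero_le _) t) _
    have hpsq : p * p = 1 := by
      simp only [p]; rw [← map_mul, ← map_mul, neg_mul_neg, one_mul, map_one, map_one]
    have hup : Commute u p := hucomm a b hab (by simp [a]) (by simp [b]) _
    refine ⟨u * p, mul_mem hu hp, ?_, fun z => ?_, fun x y hxy hx hy A => ?_⟩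
    · rw [(hup.symm).mul_mul_mul_comm, husq, hpsq, one_mul]
    · have key : (dgScalar a b (-1 : Fˣ) z : F) =
          if (ix z).val = 2 * k ∨ (ix z).val = 2 * k + 1 then -1 else 1 := by
        rcases z with i | i <;> simp [dgScalar, a, b, Fin.ext_iff] <;> split_ifs <;> simp_all <;> omega
      rw [map_mul, ap_mul, dg_apply hπ hN hab, map_smul, huap, smul_smul, key]
      congr 1
      split_ifs <;> first | omega | simp
    · exact (hucomm x y hxy (by omega) (by omega) A).mul_left
        (P_P_commute hN hab hxy (fun q => by have := congrArg Fin.val q; simp [a] at this; omega)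
          (fun q => by have := congrArg Fin.val q; simp [a] at this; omega)
          (fun q => by have := congrArg Fin.val q; simp [b] at this; omega)
          (fun q => by have := congrArg Fin.val q; simp [b] at this; omega) _ A)

/-- A lift of -1 at one index, squaring to `zz`, when -1 is a square. -/
theorem exists_flip (hπ : Over D π) (hN : 3 ≤ N) {p r : Fin N} (hpr : p ≠ r) {c : Fˣ} (hc : c * c = -1) :
    ∃ v ∈ Gam D 0, v * v = zz D p r ∧
      ∀ z : SI, ap (π v) (ev F z) = (if ix z = p then (-1 : F) else 1) • ev F z := by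
  obtain ⟨h1, h2⟩ := adm_signed hpr
  have hm : ∀ {x y : SI}, Adm x y → ∀ A, D.P x y A ∈ Gam D 0 := fun h A => D.P_mem hN h
    (fun t => R_mem_Gam D h.bar_right (Nat.zero_le _) (Nat.zero_le _) t)
    (fun t => R_mem_Gam D h.symm.bar_right (Nat.zero_le _) (Nat.zero_le _) t) _
  refine ⟨D.P (Sum.inl p) (Sum.inl r) (dg c) * D.P (Sum.inl p) (Sum.inr r) (dg c), mul_mem (hm h1 _) (hm h2 _),
    ?_, fun z => ?_⟩
  · have hcm : Commute (D.P (Sum.inl p) (Sum.inr r) (dg c)) (D.P (Sum.inl p) (Sum.inl r) (dg c)) :=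
      (D.P_range_commute hN (x := Sum.inl p) (y := Sum.inl r) h1 _ _).symm
    have hn : (dg c : SL2) * dg c = CurtisTitsA.negOne := by
      rw [← map_mul, hc]
      apply sl2_ext <;> simp [negOne_coe, dg_coe]
    have q : ∀ φ : SL2 →* G, φ (dg c) * φ (dg c) = φ CurtisTitsA.negOne := fun φ => by rw [← hn, map_mul]
    rw [hcm.mul_mul_mul_comm, q, q]
    rfl
  · have key : ((dgScalar (Sum.inl p) (Sum.inr r) c z : Fˣ) : F) * (dgScalar (Sum.inl p) (Sum.inl r) c z : Fˣ) =
        if ix z = p then -1 else 1 := by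
      have hinv : c⁻¹ * c⁻¹ = (-1 : Fˣ) := by rw [← _root_.mul_inv_rev, hc, inv_neg, inv_one]
      rw [← Units.val_mul]
      rcases z with i | i <;> rcases eq_or_ne i p with rfl | ne <;>
        [skip; rcases eq_or_ne i r with rfl | ne'; skip; rcases eq_or_ne i r with rfl | ne'] <;>
        simp [dgScalar, hc, hinv, *, hpr.symm]
    rw [map_mul, ap_mul, dg_apply hπ hN h2, map_smul, dg_apply hπ hN h1, smul_smul, key]

end Cfsg.Agent.OrthMult
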