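/-
Central extensions of orthogonal groups with a frame: the canonical lifts of the root values.

* `Ext`: the extension; `Ext.D`: the long values through the extension of the plus type part.
* `Mono`: monomial isometries; `Ext.S`: the short values; `R_mono`, `S_mono`, `S_conj_S`, `S_add`, `R_conj_S`.
-/
import Cfsg.Agent.Lib.OrthMult.Frame
import Cfsg.Agent.Lib.OrthMult.Kernel
import Cfsg.Agent.Lib.OrthMult.Torus

set_option autoImplicit false
set_option linter.unusedSectionVars false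

open Matrix
open QuadraticMap (polar)
open scoped commutatorElement

namespace Cfsg.Agent.OrthMult

open CurtisTitsA CurtisTitsD
open Cfsg.Agent.Orth hiding quadPlus
open Cfsg.Agent.OrthAct (quadPlus)
open Cfsg.Agent.OrthBN (OFrame)

universe u

section Algebra

variable {F : Type*} [Field F] {ι : Type} [Fintype ι] [DecidableEq ι] {Q : QuadraticForm F (ι → F)}

theorem eich_ap_fix {u w x : ι → F} (hu : Q u = 0) (hw : polar ⇑Q u w = 0) (h1 : polar ⇑Q u x = 0)
    (h2 : polar ⇑Q w x = 0) : ap (eich Q u w) x = x := by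
  rw [eich_ap hu hw, h1, h2]; simp

/-- An Eichler transformation at a sum of two orthogonal singular vectors. -/
theorem eich_sum {e f w : ι → F} (he : Q e = 0) (hf : Q f = 0) (hef : polar ⇑Q e f = 0)
    (hew : polar ⇑Q e w = 0) (hfw : polar ⇑Q f w = 0) (t : F) :
    eich Q (e + t • f) w = eich Q e w * eich Q f (t • w) * eich Q f ((t * Q w) • e) := by
  have hee : polar ⇑Q e e = 0 := by rw [pl_self, he, mul_zero]
  refine ext_ap fun x => ?_
  rw [ap_mul, ap_mul,
    eich_ap (u := e + t • f) (by rw [Q_add, Q_smul, pl_smul_right, he, hf, hef]; ring)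
      (by rw [pl_add_left, pl_smul_left, hew, hfw]; ring),
    eich_ap hf (w := (t * Q w) • e) (by rw [pl_smul_right, pl_comm Q f e, hef, mul_zero]),
    eich_ap hf (w := t • w) (by rw [pl_smul_right, hfw, mul_zero]), eich_ap he hew]
  simp only [pl_add_left, pl_add_right, pl_sub_right, pl_smul_left, pl_smul_right, Q_smul, he, hf, hef, hew, hfw,
    pl_comm Q f e, pl_self]
  simp only [pl_comm Q w e, pl_comm Q w f, hew, hfw, pl_self, hf, he]
  module

/-- A conjugate of an Eichler transformation, multiplied by the inverse. -/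
theorem eich_bracket {g : IsoGrp Q} {e f w : ι → F} (he : Q e = 0) (hf : Q f = 0) (hef : polar ⇑Q e f = 0)
    (hew : polar ⇑Q e w = 0) (hfw : polar ⇑Q f w = 0) (t : F) (h1 : ap g e = e + t • f) (h2 : ap g w = w) :
    ⁅g, eich Q e w⁆ = eich Q f (-((t * Q w) • e)) * eich Q f (t • w) := by
  have hwe : ap (eich Q e w) e = e := eich_ap_fix he hew (by rw [pl_self, he, mul_zero]) (by rw [pl_comm Q, hew])
  have hwf : ap (eich Q e w) f = f := eich_ap_fix he hew hef (by rw [pl_comm Q, hfw])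
  have hww : ap (eich Q e w) w = w - (2 * Q w) • e := by rw [eich_ap he hew, hew, pl_self]; module
  have hfe : polar ⇑Q f e = 0 := by rw [pl_comm Q, hef]
  rw [commutatorElement_def, conj_eich, h1, h2, eich_sum he hf hef hew hfw, mul_assoc (eich Q e w),
    eich_add hf (by rw [pl_smul_right, hfw, mul_zero]) (by rw [pl_smul_right, hfe, mul_zero]), conj_eich, hwf,
    map_add, map_smul, map_smul, hwe, hww,
    eich_add hf (by rw [pl_neg_right, pl_smul_right, hfe, mul_zero, neg_zero])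
      (by rw [pl_smul_right, hfw, mul_zero])]
  congr 1
  module

end Algebra

variable {F : Type u} [Field F] [Fintype F] {ι : Type} [Fintype ι] [DecidableEq ι] {N : ℕ}
  {Q : QuadraticForm F (ι → F)} {Φ : OFrame Q N}

local notation "SI" => (Fin N ⊕ Fin N)

theorem exists_ix (s : Finset (Fin N)) (h : s.card < N) : ∃ c : SI, ix c ∉ s := by
  obtain ⟨m, hm⟩ := SLMult.exists_notMem s (by simpa using h)
  exact ⟨Sum.inl m, hm⟩

theorem exists_ix2 (hN : 3 ≤ N) (a b : SI) : ∃ c : SI, ix c ≠ ix a ∧ ix c ≠ ix b := by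
  classical
  obtain ⟨c, hc⟩ := exists_ix ({ix a, ix b} : Finset (Fin N)) (by
    have := Finset.card_le_two (a := ix a) (b := ix b); omega)
  simp only [Finset.mem_insert, Finset.mem_singleton, not_or] at hc
  exact ⟨c, hc⟩

theorem adm_pl {a b : SI} (h : Adm a b) : polar ⇑Q (Φ.v a) (Φ.v b) = 0 :=
  Φ.pl_eq_zero fun e => h.2 (by rw [e]; exact (Sum.swap_swap a).symm)

theorem adm_pl' {a b : SI} (h : Adm a b) (t : F) : polar ⇑Q (Φ.v b) (t • Φ.v a) = 0 := by
  rw [pl_smul_right, adm_pl h.symm, mul_zero]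

theorem pl_vbar (a : SI) : polar ⇑Q (Φ.v a) (Φ.v (bar a)) = 1 := by rw [Φ.pl, if_pos rfl]

theorem pl_vbar' (a : SI) : polar ⇑Q (Φ.v (bar a)) (Φ.v a) = 1 := by rw [pl_comm Q, pl_vbar]

theorem pl_v_self (a : SI) : polar ⇑Q (Φ.v a) (Φ.v a) = 0 := by rw [pl_self, Φ.sing, mul_zero]

theorem off_smul {w : ι → F} (h : Φ.Off w) (c : F) : Φ.Off (c • w) := fun a => by
  rw [pl_smul_right, h a, mul_zero]

theorem off_add {w w' : ι → F} (h : Φ.Off w) (h' : Φ.Off w') : Φ.Off (w + w') := fun a => by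
  rw [pl_add_right, h a, h' a, add_zero]

theorem off_neg {w : ι → F} (h : Φ.Off w) : Φ.Off (-w) := fun a => by rw [pl_neg_right, h a, neg_zero]

theorem v_inj {a b : SI} {c : F} (h : Φ.v a = c • Φ.v b) : a = b := by
  by_contra hne
  have := congrArg (coords Φ) h
  rw [map_smul, coords_v, coords_v] at this
  have := congrFun this a
  simp [ev, hne] at this

/-- A monomial isometry. -/
structure Mono (Φ : OFrame Q N) (g : IsoGrp Q) (σ : SI → SI) (α : SI → F) : Prop where
  act : ∀ a, ap g (Φ.v a) = α a • Φ.v (σ a)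

namespace Mono

variable {g : IsoGrp Q} {σ : Fin N ⊕ Fin N → Fin N ⊕ Fin N} {α : Fin N ⊕ Fin N → F} (M : Mono Φ g σ α)
include M

theorem ne_zero (a : SI) : α a ≠ 0 := fun h => Φ.v_ne_zero a (ap_inj g (by rw [M.act, h, zero_smul, map_zero]))

theorem inj : Function.Injective σ := fun a b h => by
  refine v_inj (Φ := Φ) (c := α a / α b) (ap_inj g ?_)
  rw [map_smul, M.act, M.act, h, smul_smul, div_mul_cancel₀ _ (M.ne_zero b)]

theorem surj : Function.Surjective σ := Finite.injective_iff_surjective.1 M.inj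

theorem pair (a : SI) : σ (bar a) = bar (σ a) ∧ α a * α (bar a) = 1 := by
  have h := polar_ap g (Φ.v a) (Φ.v (bar a))
  rw [M.act, M.act, pl_smul_left, pl_smul_right, pl_vbar, Φ.pl] at h
  split_ifs at h with e
  · exact ⟨e, by rwa [mul_one] at h⟩
  · simp at h

theorem map_bar (a : SI) : σ (bar a) = bar (σ a) := (M.pair a).1

theorem adm {a b : SI} (h : Adm a b) : Adm (σ a) (σ b) :=
  ⟨fun e => h.1 (M.inj e), fun e => h.2 (M.inj (by rw [e, M.map_bar]))⟩

theorem off {w : ι → F} (h : Φ.Off w) : Φ.Off (ap g w) := fun a => by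
  obtain ⟨b, rfl⟩ := M.surj a
  have := polar_ap g (Φ.v b) w
  rw [M.act, pl_smul_left, h b] at this
  exact (mul_eq_zero.1 this).resolve_left (M.ne_zero b)

end Mono

/-- A central extension of Ω of a form with a frame, before any relations. -/
structure Base {F : Type u} [Field F] [Fintype F] {ι : Type} [Fintype ι] [DecidableEq ι] {N : ℕ}
    {Q : QuadraticForm F (ι → F)} (Φ : OFrame Q N) (Γ : Type u) [Group Γ] where
  /-- the projection -/
  π : Γ →* IsoGrp Q
  range_eq : π.range = Omega F ⇑Q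
  central : π.ker ≤ Subgroup.center Γ
  hN : 3 ≤ N
  eich_mem : eichGen Q ≤ Omega F ⇑Q

namespace Base

variable {Γ : Type u} [Group Γ] (X : Base Φ Γ)

theorem comm_congr {a a' b b' : Γ} (ha : X.π a = X.π a') (hb : X.π b = X.π b') : ⁅a, b⁆ = ⁅a', b'⁆ :=
  comm_congr' X.central ha hb

/-- The preimage of the plus type part. -/
noncomputable def sub : Subgroup Γ := ((Omega F ⇑(quadPlus N F)).map (emb Φ)).comap X.π

/-- The projection of the preimage. -/
noncomputable def π₀ : X.sub →* IsoGrp (quadPlus N F) :=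
  (Omega F ⇑(quadPlus N F)).subtype.comp
    ((((Omega F ⇑(quadPlus N F)).equivMapOfInjective (emb Φ) (emb_injective Φ)).symm.toMonoidHom).comp
      ((X.π.comp X.sub.subtype).codRestrict _ fun x => x.2))

theorem emb_π₀ (x : X.sub) : emb Φ (X.π₀ x) = X.π x := by
  have := (Omega F ⇑(quadPlus N F)).equivMapOfInjective (emb Φ) (emb_injective Φ) |>.apply_symm_apply
    ((X.π.comp X.sub.subtype).codRestrict _ (fun x => x.2) x)
  exact congrArg Subtype.val this

/-- The extension of the plus type part. -/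
noncomputable def core (ok : SLMult.Ok (Fin N) F) (big : 4 ≤ N ∨ 3 ≤ Fintype.card F) : Core F N X.sub where
  π := X.π₀
  range_eq := by
    apply le_antisymm
    · rintro _ ⟨x, rfl⟩
      exact Subtype.prop _
    · intro y hy
      have : emb Φ y ∈ X.π.range := by rw [X.range_eq]; exact emb_mem_omega Φ hy
      obtain ⟨g, hg⟩ := this
      refine ⟨⟨g, ⟨y, hy, hg.symm⟩⟩, emb_injective Φ ?_⟩
      rw [X.emb_π₀]
      exact hg
  central x hx := by
    have h : X.π x.1 = 1 := by rw [← X.emb_π₀, MonoidHom.mem_ker.1 hx, map_one]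
    exact Subgroup.mem_center_iff.2 fun y => Subtype.ext (Subgroup.mem_center_iff.1 (X.central h) y.1)
  hN := X.hN
  ok := ok
  big := big

open Classical in
/-- Some lift of an Eichler transformation. -/
noncomputable def L (u w : ι → F) : Γ :=
  (show ∃ g, X.π g = eich Q u w by
    rw [← MonoidHom.mem_range, X.range_eq]; exact X.eich_mem (eich_mem_eichGen u w)).choose

theorem π_L (u w : ι → F) : X.π (X.L u w) = eich Q u w :=
  (show ∃ g, X.π g = eich Q u w by
    rw [← MonoidHom.mem_range, X.range_eq]; exact X.eich_mem (eich_mem_eichGen u w)).choose_spec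

/-- The values have the images of the root values, and lifts of short ones commute with them when the images do. -/
def IsRels (D : DRels F Γ N) : Prop :=
  (∀ (a b : SI) (t : F), Adm a b → X.π (D.R a b t) = eich Q (Φ.v b) (t • Φ.v a)) ∧
  ∀ (a x y : SI) (w : ι → F), Φ.Off w → Adm x y → a ≠ bar x → a ≠ bar y →
    ∀ g : Γ, X.π g = eich Q (Φ.v a) w → ∀ t : F, Commute g (D.R x y t)

end Base

/-- Every central extension of Ω has a system of values. -/
def Rels {F : Type u} [Field F] [Fintype F] {ι : Type} [Fintype ι] [DecidableEq ι] {N : ℕ}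
    {Q : QuadraticForm F (ι → F)} (Φ : OFrame Q N) : Prop :=
  ∀ (Γ : Type u) [Group Γ] (X : Base Φ Γ), ∃ D : DRels F Γ N, X.IsRels D

/-- Lifts of a short value and of a long value at the two other indices commute. -/
def ThirdCommute {F : Type u} [Field F] [Fintype F] {ι : Type} [Fintype ι] [DecidableEq ι] {N : ℕ}
    {Q : QuadraticForm F (ι → F)} (Φ : OFrame Q N) {Γ : Type u} [Group Γ] (π : Γ →* IsoGrp Q) : Prop :=
  ∀ (a x y : Fin N ⊕ Fin N) (w : ι → F), Φ.Off w → ix a ≠ ix x → ix a ≠ ix y → ix x ≠ ix y →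
    ∀ (t : F) (g h : Γ), π g = eich Q (Φ.v a) w → π h = eich Q (Φ.v y) (t • Φ.v x) → Commute g h

/-- What gives the values over a field with three elements or more, for one extension. -/
def OfThird {F : Type u} [Field F] [Fintype F] {ι : Type} [Fintype ι] [DecidableEq ι] {N : ℕ}
    {Q : QuadraticForm F (ι → F)} (Φ : OFrame Q N) {Γ : Type u} [Group Γ] (π : Γ →* IsoGrp Q) : Prop :=
  SLMult.Ok (Fin N) F ∧ 3 ≤ Fintype.card F ∧ ThirdCommute Φ π

/-- A central extension of Ω of a form with a frame, in the presence of the relations. -/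
structure Ext {F : Type u} [Field F] [Fintype F] {ι : Type} [Fintype ι] [DecidableEq ι] {N : ℕ}
    {Q : QuadraticForm F (ι → F)} (Φ : OFrame Q N) (Γ : Type u) [Group Γ] extends Base Φ Γ where
  rels : Rels Φ ∨ OfThird Φ π

/-- The values of one extension from the lifts of the SL_N of the choices of signs. -/
theorem Base.exists_rels_of {Γ : Type u} [Group Γ] (X : Base Φ Γ) (ok : SLMult.Ok (Fin N) F)
    (big₃ : 4 ≤ N ∨ 3 ≤ Fintype.card F) (big : (4 ≤ N ∨ 4 ≤ Fintype.card F) ∨ ThirdCommute Φ X.π) :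
    ∃ D : DRels F Γ N, X.IsRels D := by
  set C := X.core ok big₃
  set D := drelsMap C.drels X.sub.subtype
  have π_R : ∀ (a b : SI) (t : F), Adm a b → X.π (D.R a b t) = eich Q (Φ.v b) (t • Φ.v a) := by
    intro a b t h
    have := X.emb_π₀ (C.R a b t)
    rw [show X.π₀ (C.R a b t) = RO F a b t from C.π_R h t, emb_RO Φ h] at this
    exact this.symm
  refine ⟨D, π_R, fun a x y w hw hxy hx hy g hg t => ?_⟩

  classical
  have img : ∀ {x y : SI} (_ : Adm x y), a ≠ bar x → a ≠ bar y → ∀ r : F,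
      X.π (g * D.R x y r * g⁻¹) = X.π (D.R x y r) := fun {x y} hxy hx hy r => by
    have fix' : ∀ z : SI, a ≠ bar z → ap (eich Q (Φ.v a) w) (Φ.v z) = Φ.v z := fun z hz =>
      eich_ap_fix (Φ.sing a) (hw a) (Φ.pl_eq_zero fun e => hz (by rw [e]; exact (Sum.swap_swap a).symm))
        (Φ.off_pl hw z)
    rw [map_mul, map_mul, map_inv, π_R _ _ _ hxy, hg, conj_eich, map_smul, fix' y hy, fix' x hx]
  have ofc : ∀ c : SI, ix c ≠ ix x → ix c ≠ ix y → a ≠ bar c → a ≠ c → Commute g (D.R x y t) := by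
    intro c h1 h2 h3 h4
    have p1 : Adm x c := Adm.of_idx (Ne.symm h1)
    have p2 : Adm (bar c) y := Adm.of_idx fun q => h2 ((ix_bar c).symm.trans q)
    have e := D.mid x c y t 1 p1 p2 hxy
    rw [mul_one] at e
    show Commute g (D.R x y t)
    rw [← e]
    refine mul_inv_eq_iff_eq_mul.1 ?_
    rw [conjugate_commutatorElement]
    exact X.comm_congr (img p1 hx h3 t) (img p2 (by rw [bar_bar]; exact h4) hy 1)
  by_cases hix : ix a = ix x ∨ ix a = ix y
  · obtain ⟨c, h1, h2⟩ := exists_ix2 X.hN x y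
    refine ofc c h1 h2 (fun e => ?_) (fun e => ?_) <;>
      · subst e
        rcases hix with q | q
        · first | exact h1 q | exact h1 ((ix_bar c).symm.trans q)
        · first | exact h2 q | exact h2 ((ix_bar c).symm.trans q)
  push Not at hix
  rcases big with (hN | hq) | hdev
  · obtain ⟨c, hc⟩ := exists_ix ({ix x, ix y, ix a} : Finset (Fin N)) (by
      have := Finset.card_le_three (a := ix x) (b := ix y) (c := ix a); omega)
    simp only [Finset.mem_insert, Finset.mem_singleton, not_or] at hc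
    exact ofc c hc.1 hc.2.1 (fun e => hc.2.2 (by rw [e]; exact (ix_bar c).symm)) fun e => hc.2.2 (by rw [e])
  · -- the SL_2 of the pair is perfect
    set P := D.P x (bar y) with hP
    have hb : Adm x (bar y) := hxy.bar_right
    have hne : ∀ {z : SI}, ix a ≠ ix z → a ≠ z := fun h e => h (by rw [e])
    have q1 : Adm (bar y) (bar x) := hxy.symm.bars
    have key : (MulAut.conj g).toMonoidHom.comp P = P := by
      refine hom_eq_of_perfect X.central (commutator_sl2_eq_top hq) (hom_ext2 (fun r => ?_) fun r => ?_) <;>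
        simp only [MonoidHom.comp_apply, MulEquiv.coe_toMonoidHom, MulAut.conj_apply, hP]
      · rw [(D.P_spec X.hN hb r).1, bar_bar]
        exact img hxy hx hy r
      · rw [(D.P_spec X.hN hb r).2]
        exact img q1 (by rw [bar_bar]; exact hne hix.2) (by rw [bar_bar]; exact hne hix.1) r
    have := DFunLike.congr_fun key (tv zero_ne_one2 t)
    simp only [MonoidHom.comp_apply, MulEquiv.coe_toMonoidHom, MulAut.conj_apply, hP, (D.P_spec X.hN hb t).1,
      bar_bar] at this
    exact mul_inv_eq_iff_eq_mul.1 this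
  · exact hdev a x y w hw hix.1 hix.2 hxy.idx t g _ hg (π_R _ _ _ hxy)

/-- The relations from the lifts of the SL_N of the choices of signs. -/
theorem rels_of_ok (ok : SLMult.Ok (Fin N) F) (big : 4 ≤ N ∨ 4 ≤ Fintype.card F) : Rels Φ :=
  fun _ _ X => X.exists_rels_of ok (big.imp id fun h => le_trans (by norm_num) h) (.inl big)

namespace Ext

variable {Γ : Type u} [Group Γ] (X : Ext Φ Γ)

theorem comm_congr {a a' b b' : Γ} (ha : X.π a = X.π a') (hb : X.π b = X.π b') : ⁅a, b⁆ = ⁅a', b'⁆ :=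
  X.toBase.comm_congr ha hb

theorem exists_rels : ∃ D : DRels F Γ N, X.toBase.IsRels D :=
  X.rels.elim (fun h => h Γ X.toBase) fun h => X.toBase.exists_rels_of h.1 (.inr h.2.1) (.inr h.2.2)

/-- The long values. -/
noncomputable def D : DRels F Γ N := X.exists_rels.choose

/-- A long value. -/
noncomputable abbrev R (a b : SI) (t : F) : Γ := X.D.R a b t

theorem π_R {a b : SI} (h : Adm a b) (t : F) : X.π (X.R a b t) = eich Q (Φ.v b) (t • Φ.v a) :=
  X.exists_rels.choose_spec.1 a b t h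

/-- Some lift of an Eichler transformation. -/
noncomputable abbrev L (u w : ι → F) : Γ := X.toBase.L u w

theorem π_L (u w : ι → F) : X.π (X.L u w) = eich Q u w := X.toBase.π_L u w

theorem comm_R {a x y : SI} {w : ι → F} (hw : Φ.Off w) (hxy : Adm x y) (hx : a ≠ bar x) (hy : a ≠ bar y)
    {g : Γ} (hg : X.π g = eich Q (Φ.v a) w) (t : F) : Commute g (X.R x y t) :=
  X.exists_rels.choose_spec.2 a x y w hw hxy hx hy g hg t

/-- The preimage of the plus type part. -/
noncomputable abbrev sub : Subgroup Γ := X.toBase.sub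

theorem R_mem_sub {a b : SI} (h : Adm a b) (t : F) : X.R a b t ∈ X.sub :=
  ⟨RO F a b t, orels_mem_omega X.hN h t, (emb_RO Φ h t).trans (X.π_R h t).symm⟩

open Classical in
/-- The long values in the preimage of the plus type part. -/
noncomputable def drels₀ : DRels F X.sub N where
  R a b t := if h : Adm a b then ⟨X.R a b t, X.R_mem_sub h t⟩ else 1
  swap a b t h := Subtype.ext (by simp only [h, h.symm, dif_pos]; exact X.D.swap a b t h)
  add a b t u h := Subtype.ext (by simp only [h, dif_pos, Subgroup.coe_mul]; exact X.D.add a b t u h)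
  comm a b c e t u h h' h1 h2 h3 h4 := by
    simp only [h, h', dif_pos]
    exact Subtype.ext (X.D.comm a b c e t u h h' h1 h2 h3 h4)
  comm' a b t u h := by
    simp only [h, h.bar_right.symm, dif_pos]
    exact Subtype.ext (X.D.comm' a b t u h)
  mid a b e t u h h' h'' := Subtype.ext (by
    simp only [h, h', h'', dif_pos]
    exact X.D.mid a b e t u h h' h'')

theorem over₀ : Over X.drels₀ X.toBase.π₀ := fun a b t h => emb_injective Φ (by
  show emb Φ (X.toBase.π₀ (X.drels₀.R a b t)) = _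
  rw [X.toBase.emb_π₀, emb_RO Φ h]
  simp only [drels₀, h, dif_pos]
  exact X.π_R h t)

theorem R_zero {a b : SI} (h : Adm a b) : X.R a b 0 = 1 := X.D.zero h

theorem R_neg {a b : SI} (h : Adm a b) (t : F) : X.R a b (-t) = (X.R a b t)⁻¹ := X.D.neg h t

theorem R_add {a b : SI} (h : Adm a b) (t u : F) : X.R a b (t + u) = X.R a b t * X.R a b u :=
  X.D.add a b t u h

theorem R_swap {a b : SI} (h : Adm a b) (t : F) : X.R b a t = X.R a b (-t) := X.D.swap a b t h

theorem π_P {x y : SI} (h : Adm x y) (A : Matrix.SpecialLinearGroup (Fin 2) F) :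
    X.π (X.D.P x y A) = emb Φ ((orels (F := F) (N := N)).P x y A) := by
  refine DFunLike.congr_fun (hom_ext2 (φ := X.π.comp (X.D.P x y))
    (ψ := (emb Φ).comp ((orels (F := F) (N := N)).P x y)) (fun t => ?_) fun t => ?_) A <;>
    simp only [MonoidHom.comp_apply]
  · rw [(X.D.P_spec X.hN h t).1, ((orels (F := F) (N := N)).P_spec X.hN h t).1]
    exact (X.π_R h.bar_right t).trans (emb_RO Φ h.bar_right t).symm
  · rw [(X.D.P_spec X.hN h t).2, ((orels (F := F) (N := N)).P_spec X.hN h t).2]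
    exact (X.π_R h.symm.bar_right t).trans (emb_RO Φ h.symm.bar_right t).symm

theorem ap_P {x y : SI} (h : Adm x y) (A : Matrix.SpecialLinearGroup (Fin 2) F) :
    ap (X.π (X.D.P x y A)) (Φ.v x) = A.1 0 0 • Φ.v x + A.1 1 0 • Φ.v y ∧
      ap (X.π (X.D.P x y A)) (Φ.v y) = A.1 0 1 • Φ.v x + A.1 1 1 • Φ.v y := by
  obtain ⟨e1, e2⟩ := (orels_over (F := F) (N := N)).ap_P X.hN h A
  simp only [MonoidHom.id_apply] at e1 e2
  constructor
  · rw [X.π_P h, ap_emb_v, e1, map_add, map_smul, map_smul, sumv_ev, sumv_ev]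
  · rw [X.π_P h, ap_emb_v, e2, map_add, map_smul, map_smul, sumv_ev, sumv_ev]

theorem ap_P_fix {x y z : SI} (h : Adm x y) (h1 : ix z ≠ ix x) (h2 : ix z ≠ ix y)
    (A : Matrix.SpecialLinearGroup (Fin 2) F) : ap (X.π (X.D.P x y A)) (Φ.v z) = Φ.v z := by
  have := (orels_over (F := F) (N := N)).ap_fix X.hN h (z := z) (Adm.of_idx (Ne.symm h1))
    (Adm.of_idx (Ne.symm h2)) A
  simp only [MonoidHom.id_apply] at this
  rw [X.π_P h, ap_emb_v, this, sumv_ev]

theorem ap_P_off {x y : SI} (h : Adm x y) (A : Matrix.SpecialLinearGroup (Fin 2) F) {w : ι → F}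
    (hw : Φ.Off w) : ap (X.π (X.D.P x y A)) w = w := by
  rw [X.π_P h, ap_emb_off Φ _ hw]

theorem mono_dg {x y : SI} (h : Adm x y) (c : Fˣ) :
    Mono Φ (X.π (X.D.P x y (dg c))) id fun z => (dgScalar x y c z : F) := ⟨fun z => by
  have := dg_apply (orels_over (F := F) (N := N)) X.hN h c z
  simp only [MonoidHom.id_apply] at this
  rw [X.π_P h, ap_emb_v, this, map_smul, sumv_ev, id]⟩

/-- The permutation of the Weyl element of a pair. -/
def wσ (x y : SI) (z : SI) : SI :=
  if z = x then y else if z = y then x else if z = bar x then bar y else if z = bar y then bar x else z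

/-- The signs of the Weyl element of a pair. -/
def wα (x y : SI) (z : SI) : F := if z = y ∨ z = bar y then -1 else 1

theorem mono_w2 {x y : SI} (h : Adm x y) :
    Mono Φ (X.π (X.D.P x y w2)) (wσ x y) (wα x y) := ⟨fun z => by
  obtain ⟨e1, e2⟩ := X.ap_P h w2
  have hb : X.D.P (bar x) (bar y) w2 = X.D.P x y w2 := by
    rw [X.D.P_bar X.hN h, CurtisTitsD.τ_w2]
  obtain ⟨e3, e4⟩ := X.ap_P h.bars w2
  rw [hb] at e3 e4
  simp only [w2_coe] at e1 e2 e3 e4
  simp at e1 e2 e3 e4
  rcases eq_or_ne z x with rfl | n1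
  · rw [e1, wσ, if_pos rfl, wα, if_neg (not_or.2 ⟨h.1, h.2⟩), one_smul]
  rcases eq_or_ne z y with rfl | n2
  · rw [e2, wσ, if_neg n1, if_pos rfl, wα, if_pos (Or.inl rfl), neg_one_smul]
  rcases eq_or_ne z (bar x) with rfl | n3
  · rw [e3, wσ, if_neg n1, if_neg n2, if_pos rfl, wα,
      if_neg (not_or.2 ⟨n2, fun e => h.1 (bar_inj e)⟩), one_smul]
  rcases eq_or_ne z (bar y) with rfl | n4
  · rw [e4, wσ, if_neg n1, if_neg n2, if_neg n3, if_pos rfl, wα, if_pos (Or.inr rfl), neg_one_smul]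
  have hne : ∀ {a : SI}, z ≠ a → z ≠ bar a → ix z ≠ ix a := fun {a} p q e => by
    rcases z with i | i <;> rcases a with j | j <;> simp_all [bar]
  rw [X.ap_P_fix h (hne n1 n3) (hne n2 n4), wσ, if_neg n1, if_neg n2, if_neg n3, if_neg n4, wα,
    if_neg (not_or.2 ⟨n2, n4⟩), one_smul]⟩

theorem R_mono {g : Γ} {σ : SI → SI} {α : SI → F} (hg : Mono Φ (X.π g) σ α) {a b : SI} (h : Adm a b) (t : F) :
    g * X.R a b t * g⁻¹ = X.R (σ a) (σ b) (α a * α b * t) := by
  obtain ⟨c, hc1, hc2⟩ := exists_ix2 X.hN a b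
  have h1 : Adm a c := Adm.of_idx (Ne.symm hc1)
  have h2 : Adm (bar c) b := Adm.of_idx fun q => hc2 ((ix_bar c).symm.trans q)
  have img : ∀ {x y : SI} (_ : Adm x y) (r : F),
      X.π (g * X.R x y r * g⁻¹) = X.π (X.R (σ x) (σ y) (α x * α y * r)) := fun {x y} hxy r => by
    rw [map_mul, map_mul, map_inv, X.π_R hxy, conj_eich, map_smul, hg.act, hg.act, eich_smul_left,
      smul_smul, smul_smul, X.π_R (hg.adm hxy)]
    congr 2; ring
  have e := X.D.mid a c b t 1 h1 h2 h
  rw [mul_one] at e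
  show g * X.D.R a b t * g⁻¹ = _
  rw [← e, conjugate_commutatorElement, X.comm_congr (img h1 t) (img h2 1), hg.map_bar]
  have h2' : Adm (bar (σ c)) (σ b) := by have := hg.adm h2; rwa [hg.map_bar] at this
  refine (X.D.mid _ _ _ _ _ (hg.adm h1) h2' (hg.adm h)).trans ?_
  congr 1
  linear_combination α a * α b * t * (hg.pair c).2

theorem comm_P {b x y : SI} {w : ι → F} (hw : Φ.Off w) (hxy : Adm x y) (h1 : ix b ≠ ix x) (h2 : ix b ≠ ix y)
    {g : Γ} (hg : X.π g = eich Q (Φ.v b) w) (A : Matrix.SpecialLinearGroup (Fin 2) F) :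
    Commute (X.D.P x y A) g := by
  have hne : ∀ {z : SI}, ix b ≠ ix z → b ≠ z ∧ b ≠ bar z := fun h =>
    ⟨fun e => h (by rw [e]), fun e => h (by rw [e, ix_bar])⟩
  exact Subgroup.mem_centralizer_singleton_iff.1 (X.D.P_mem X.hN hxy (H := Subgroup.centralizer {g})
    (fun t => Subgroup.mem_centralizer_singleton_iff.2
      (X.comm_R hw hxy.bar_right (hne h1).2 (by rw [bar_bar]; exact (hne h2).1) hg t).symm.eq)
    (fun t => Subgroup.mem_centralizer_singleton_iff.2
      (X.comm_R hw hxy.symm.bar_right (hne h2).2 (by rw [bar_bar]; exact (hne h1).1) hg t).symm.eq) A)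

/-- The short value from an auxiliary index. -/
noncomputable def S₀ (a b : SI) (w : ι → F) : Γ :=
  X.R a b (Q w) * ⁅X.R b (bar a) 1, X.L (Φ.v a) w⁆

theorem π_bracket {a b : SI} (h : Adm a b) {w : ι → F} (hw : Φ.Off w) (s : F) :
    X.π ⁅X.R b (bar a) s, X.L (Φ.v a) w⁆ =
      eich Q (Φ.v b) (-((s * Q w) • Φ.v a)) * eich Q (Φ.v b) (s • w) := by
  have hba : Adm b (bar a) := h.symm.bar_right
  rw [map_commutatorElement, X.π_R hba, X.π_L]
  refine eich_bracket (Φ.sing a) (Φ.sing b) (adm_pl h) (hw a) (hw b) s ?_ ?_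
  · rw [eich_ap (Φ.sing _) (adm_pl' hba s), pl_vbar' a, pl_smul_left, adm_pl h.symm, Q_smul, Φ.sing]
    module
  · exact eich_ap_fix (Φ.sing _) (adm_pl' hba s) (hw _) (by rw [pl_smul_left, hw b, mul_zero])

theorem π_S₀ {a b : SI} (h : Adm a b) {w : ι → F} (hw : Φ.Off w) :
    X.π (X.S₀ a b w) = eich Q (Φ.v b) w := by
  rw [S₀, map_mul, X.π_bracket h hw, X.π_R h, one_mul, one_smul, ← eich_inv, mul_inv_cancel_left]

theorem conj_S₀ {g : Γ} {σ : SI → SI} {α : SI → F} (hg : Mono Φ (X.π g) σ α) {a b : SI} (h : Adm a b)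
    {w : ι → F} (hw : Φ.Off w) :
    g * X.S₀ a b w * g⁻¹ = X.R (σ a) (σ b) (α a * α b * Q w) *
      ⁅X.R (σ b) (bar (σ a)) (α b * α (bar a)), X.L (Φ.v (σ a)) (α a • ap (X.π g) w)⁆ := by
  have h' : Adm b (bar a) := h.symm.bar_right
  rw [S₀, show ∀ u v : Γ, g * (u * v) * g⁻¹ = g * u * g⁻¹ * (g * v * g⁻¹) from fun u v => by group,
    X.R_mono hg h, conjugate_commutatorElement, X.R_mono hg h', hg.map_bar, mul_one]
  congr 1
  refine X.comm_congr rfl ?_
  rw [map_mul, map_mul, map_inv, X.π_L, X.π_L, conj_eich, hg.act, eich_smul_left]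

theorem S₀_step {a a' b : SI} (h : Adm a b) (h' : Adm a' b) (hne : ix a ≠ ix a') {w : ι → F}
    (hw : Φ.Off w) : X.S₀ a' b w = X.S₀ a b w := by
  have hp : Adm a a' := Adm.of_idx hne
  have hc := X.comm_P hw hp (Ne.symm h.idx) (Ne.symm h'.idx) (X.π_S₀ h hw) w2
  have e := X.conj_S₀ (X.mono_w2 hp) h hw
  rw [hc.eq, mul_inv_cancel_right] at e
  have b1 : b ≠ a := h.1.symm
  have b2 : b ≠ a' := h'.1.symm
  have b3 : b ≠ bar a := fun q => h.2 (by rw [q, bar_bar])
  have b4 : b ≠ bar a' := fun q => h'.2 (by rw [q, bar_bar])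
  have n1 : bar a ≠ a' := fun q => hne (by rw [← q, ix_bar])
  have σb : wσ a a' b = b := by simp [wσ, b1, b2, b3, b4]
  have σa : wσ a a' a = a' := by simp [wσ]
  have αa : wα (F := F) a a' a = 1 := by simp [wα, hp.1, hp.2]
  have αb : wα (F := F) a a' b = 1 := by simp [wα, b2, b4]
  have n0 : bar a ≠ bar a' := fun q => hp.1 (bar_inj q)
  have αa' : wα (F := F) a a' (bar a) = 1 := by simp [wα, n1, n0]
  rw [σb, σa, αa, αb, αa', X.ap_P_off hp _ hw, one_smul, one_mul, one_mul] at e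
  exact e.symm

theorem S₀_eq {a a' b : SI} (h : Adm a b) (h' : Adm a' b) {w : ι → F} (hw : Φ.Off w) :
    X.S₀ a' b w = X.S₀ a b w := by
  by_cases hne : ix a = ix a'
  · obtain ⟨c, hc1, hc2⟩ := exists_ix2 X.hN a b
    have hcb : Adm c b := Adm.of_idx hc2
    rw [X.S₀_step hcb h' (hne ▸ hc1) hw, X.S₀_step h hcb (Ne.symm hc1) hw]
  · exact X.S₀_step h h' hne hw

open Classical in
/-- The short values. -/
noncomputable def S (b : SI) (w : ι → F) : Γ :=
  if h : ∃ a, Adm a b then X.S₀ h.choose b w else 1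

theorem S_eq {a b : SI} (h : Adm a b) {w : ι → F} (hw : Φ.Off w) : X.S b w = X.S₀ a b w := by
  have h' : ∃ a, Adm a b := ⟨a, h⟩
  rw [S, dif_pos h', X.S₀_eq h h'.choose_spec hw]

theorem exists_adm (b : SI) (X : Ext Φ Γ) : ∃ a, Adm a b := by
  obtain ⟨a, ha, -⟩ := exists_ix2 X.hN b b
  exact ⟨a, Adm.of_idx ha⟩

theorem π_S {b : SI} {w : ι → F} (hw : Φ.Off w) : X.π (X.S b w) = eich Q (Φ.v b) w := by
  obtain ⟨a, ha⟩ := exists_adm b X
  rw [X.S_eq ha hw, X.π_S₀ ha hw]

theorem S_comm_R {b x y : SI} {w : ι → F} (hw : Φ.Off w) (hxy : Adm x y) (hx : b ≠ bar x) (hy : b ≠ bar y)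
    (t : F) : Commute (X.S b w) (X.R x y t) := X.comm_R hw hxy hx hy (X.π_S hw) t

theorem bracket_eq {a b : SI} (h : Adm a b) {w : ι → F} (hw : Φ.Off w) (s : F) :
    ⁅X.R b (bar a) s, X.L (Φ.v a) w⁆ = X.R a b (-(s * Q w)) * X.S b (s • w) := by
  rcases eq_or_ne s 0 with rfl | hs
  · rw [X.R_zero h.symm.bar_right, commutatorElement_one_left, zero_mul, neg_zero, zero_smul,
      X.R_zero h, one_mul, X.S_eq h (fun a => pl_zero_right Q _), S₀, X.comm_congr rfl
      (show X.π (X.L (Φ.v a) 0) = X.π 1 by rw [X.π_L, eich_zero, map_one]), commutatorElement_one_right,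
      map_zero, X.R_zero h, one_mul]
  obtain ⟨c, hc1, hc2⟩ := exists_ix2 X.hN a b
  have hac : Adm a c := Adm.of_idx (Ne.symm hc1)
  set u : Fˣ := (Units.mk0 s hs)⁻¹
  have hws := off_smul hw s
  have hc := X.comm_P hws hac (Ne.symm h.idx) (Ne.symm hc2) (X.π_S₀ h hws) (dg u)
  have e := X.conj_S₀ (X.mono_dg hac u) h hws
  rw [hc.eq, mul_inv_cancel_right] at e
  have b1 : b ≠ a := h.1.symm
  have b2 : b ≠ bar a := fun q => h.2 (by rw [q, bar_bar])
  have b3 : b ≠ c := fun q => hc2 (by rw [q])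
  have b4 : b ≠ bar c := fun q => hc2 (by rw [q, ix_bar])
  have d1 : (dgScalar a c u a : F) = s⁻¹ := by simp [dgScalar, u]
  have d2 : (dgScalar a c u b : F) = 1 := by simp [dgScalar, b1, b2, b3, b4]
  have n1 : bar a ≠ bar c := fun q => hac.1 (bar_inj q)
  have d3 : (dgScalar a c u (bar a) : F) = s := by simp [dgScalar, u, bar_ne a, n1]
  simp only [id, d1, d2, d3, mul_one, one_mul, X.ap_P_off hac _ hws, smul_smul, inv_mul_cancel₀ hs, one_smul,
    Q_smul] at e
  rw [← X.S_eq h hws, show s⁻¹ * (s * s * Q w) = s * Q w by field_simp] at e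
  rw [e, X.R_neg h, inv_mul_cancel_left]

/-- The transport of the short values by monomial elements. -/
theorem S_mono {g : Γ} {σ : SI → SI} {α : SI → F} (hg : Mono Φ (X.π g) σ α) {b : SI} {w : ι → F}
    (hw : Φ.Off w) : g * X.S b w * g⁻¹ = X.S (σ b) (α b • ap (X.π g) w) := by
  obtain ⟨a, ha⟩ := exists_adm b X
  rw [X.S_eq ha hw, X.conj_S₀ hg ha hw, X.bracket_eq (hg.adm ha) (off_smul (hg.off hw) _), smul_smul,
    ← mul_assoc, ← X.R_add (hg.adm ha), Q_smul, Q_ap]
  have hp := (hg.pair a).2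
  have e1 : α b * α (bar a) * α a = α b := by rw [mul_assoc, mul_comm (α (bar a)), hp, mul_one]
  rw [show α a * α b * Q w + -(α b * α (bar a) * (α a * α a * Q w)) = 0 by
    linear_combination -(α a * α b * Q w) * hp, X.R_zero (hg.adm ha), one_mul, e1]

/-- Conjugation of a short value by a short value at another index. -/
theorem S_conj_S {a b : SI} (h : Adm a b) {w w' : ι → F} (hw : Φ.Off w) (hw' : Φ.Off w') {g : Γ}
    (hg : X.π g = eich Q (Φ.v a) w) :
    g * X.S b w' * g⁻¹ = X.R a b (-polar ⇑Q w w') * X.S b w' := by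
  obtain ⟨c, hc1, hc2⟩ := exists_ix2 X.hN a b
  have hcb : Adm c b := Adm.of_idx hc2
  have hac : Adm a c := Adm.of_idx (Ne.symm hc1)
  have hbc : Adm b (bar c) := hcb.symm.bar_right
  have a1 : a ≠ bar b := h.2
  have a2 : a ≠ bar c := hac.2
  have a3 : a ≠ bar (bar c) := by rw [bar_bar]; exact hac.1
  set s := -polar ⇑Q w w'
  have hL : X.π (g * X.L (Φ.v c) w' * g⁻¹) = X.π (X.R a c s * X.L (Φ.v c) w') := by
    rw [map_mul, map_mul, map_inv, X.π_L, hg, conj_eich, map_mul, X.π_R hac, X.π_L,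
      eich_ap_fix (Φ.sing a) (hw a) (adm_pl hac) (Φ.off_pl hw c),
      eich_ap (Φ.sing a) (hw a), hw' a, eich_add (Φ.sing c) (adm_pl' hac s) (hw' c)]
    congr 1
    simp only [s]
    module
  have e : g * X.S b w' * g⁻¹ = X.R c b (Q w') * (⁅X.R b (bar c) 1, X.R a c s * X.L (Φ.v c) w'⁆) := by
    rw [X.S_eq hcb hw', S₀, show ∀ u v : Γ, g * (u * v) * g⁻¹ = g * u * g⁻¹ * (g * v * g⁻¹) from
      fun u v => by group, conjugate_commutatorElement,
      show g * X.R c b (Q w') * g⁻¹ = X.R c b (Q w') from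
        mul_inv_eq_iff_eq_mul.2 (X.comm_R hw hcb a2 a1 hg _).eq,
      show g * X.R b (bar c) 1 * g⁻¹ = X.R b (bar c) 1 from
        mul_inv_eq_iff_eq_mul.2 (X.comm_R hw hbc a1 a3 hg _).eq, X.comm_congr rfl hL]
  have hm : ⁅X.R b (bar c) 1, X.R a c s⁆ = X.R a b s := by
    have := X.D.mid a c b s (-1) hac (by simpa using hbc.symm) h
    rw [← commutatorElement_inv, show X.R b (bar c) 1 = X.R (bar c) b (-1) from X.D.swap (bar c) b 1 hbc.symm,
      this, mul_neg_one, X.D.neg h, inv_inv]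
  have hsplit : ∀ r y z : Γ, ⁅r, y * z⁆ = ⁅r, y⁆ * (y * ⁅r, z⁆ * y⁻¹) := fun r y z => by
    simp only [commutatorElement_def]; group
  have hcR : Commute (X.R a c s) (⁅X.R b (bar c) 1, X.L (Φ.v c) w'⁆) := by
    rw [X.bracket_eq hcb hw' 1]
    refine Commute.mul_right (X.D.comm a c c b _ _ hac hcb ?_ ?_ ?_ ?_) (X.S_comm_R (off_smul hw' 1) hac ?_ ?_ _).symm
    · exact hac.symm.2
    · exact (bar_ne c).symm
    · exact h.symm.2
    · exact hcb.symm.2
    · exact h.symm.2
    · exact hcb.symm.2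
  rw [e, hsplit, hm, hcR.eq, mul_inv_cancel_right, X.bracket_eq hcb hw' 1, one_smul, one_mul,
    ← mul_assoc (X.R a b s), (X.D.comm a b c b s (-Q w') h hcb hac.symm.2 ?_ h.symm.2 (bar_ne b).symm).eq,
    mul_assoc (X.R c b _), ← mul_assoc, ← X.R_add hcb, add_neg_cancel, X.R_zero hcb, one_mul]
  exact hcb.2

theorem S_add (b : SI) {w w' : ι → F} (hw : Φ.Off w) (hw' : Φ.Off w') :
    X.S b (w + w') = X.S b w * X.S b w' := by
  obtain ⟨a, ha⟩ := exists_adm b X
  set x := X.L (Φ.v a) w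
  set y := X.L (Φ.v a) w'
  have hxy : X.π (X.L (Φ.v a) (w + w')) = X.π (x * y) := by
    rw [map_mul, X.π_L, X.π_L, X.π_L, eich_add (Φ.sing a) (hw a) (hw' a)]
  have hsplit : ∀ r y z : Γ, ⁅r, y * z⁆ = ⁅r, y⁆ * (y * ⁅r, z⁆ * y⁻¹) := fun r y z => by
    simp only [commutatorElement_def]; group
  have hy : x * (X.R a b (-Q w') * X.S b w') * x⁻¹ =
      X.R a b (-Q w') * (X.R a b (-polar ⇑Q w w') * X.S b w') := by
    rw [show ∀ u v : Γ, x * (u * v) * x⁻¹ = x * u * x⁻¹ * (x * v * x⁻¹) from fun u v => by group,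
      X.S_conj_S ha hw hw' (X.π_L _ _), mul_inv_eq_iff_eq_mul.2
        (X.comm_R hw ha (bar_ne a).symm ha.2 (X.π_L _ _) _).eq]
  have hS : ∀ r : F, Commute (X.S b w) (X.R a b r) := fun r => X.S_comm_R hw ha ha.symm.2 (bar_ne b).symm r
  rw [X.S_eq ha (off_add hw hw'), S₀, X.comm_congr rfl hxy, hsplit, X.bracket_eq ha hw, X.bracket_eq ha hw',
    one_smul, one_smul, one_mul, one_mul, hy, mul_assoc (X.R a b (-Q w)), ← mul_assoc (X.S b w),
    (hS _).eq, mul_assoc (X.R a b (-Q w')), ← mul_assoc (X.S b w), (hS _).eq, mul_assoc]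
  simp only [← mul_assoc, ← X.R_add ha]
  rw [show Q (w + w') + (-Q w + (-Q w' + -polar ⇑Q w w')) = 0 by rw [Q_add]; ring, X.R_zero ha, one_mul]

theorem S_zero (b : SI) : X.S b 0 = 1 := by
  have h0 : Φ.Off (0 : ι → F) := fun a => pl_zero_right Q _
  have := X.S_add b h0 h0
  rw [add_zero] at this
  exact left_eq_mul.1 this

theorem S_neg (b : SI) {w : ι → F} (hw : Φ.Off w) : X.S b (-w) = (X.S b w)⁻¹ :=
  eq_inv_of_mul_eq_one_left (by rw [← X.S_add b (off_neg hw) hw, neg_add_cancel, X.S_zero])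

/-- Conjugation of a short value by a long one. -/
theorem R_conj_S {a b : SI} (h : Adm a b) {w : ι → F} (hw : Φ.Off w) (s : F) :
    X.R b (bar a) s * X.S a w * (X.R b (bar a) s)⁻¹ = X.R a b (-(s * Q w)) * X.S b (s • w) * X.S a w := by
  rw [← X.bracket_eq h hw, X.comm_congr rfl ((X.π_L _ _).trans (X.π_S hw).symm), commutatorElement_def,
    inv_mul_cancel_right]

end Ext

end Cfsg.Agent.OrthMult
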