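/-
Central extensions of orthogonal groups with a frame: the kernel on the root values.

* `Ext.GS`: the values from an index on; `Ext.Qs`: the radical; `Ext.Tor`, `Ext.nS`: the last torus and Weyl element.
* `Ext.step`: the kernel goes down one index; `Ext.base`; `Ext.kernel`: it is inside `{1, zz}`.
-/
import Cfsg.Agent.Lib.OrthMult.Ext

set_option autoImplicit false
set_option linter.unusedSectionVars false

open Matrix
open QuadraticMap (polar)
open scoped commutatorElement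

namespace Cfsg.Agent.OrthMult

open CurtisTitsA CurtisTitsD
open Cfsg.Agent.Orth hiding quadPlus
open Cfsg.Agent.OrthAct (quadPlus)
open Cfsg.Agent.OrthBN (OFrame)

universe u

variable {F : Type u} [Field F] [Fintype F] {ι : Type} [Fintype ι] [DecidableEq ι] {N : ℕ}
  {Q : QuadraticForm F (ι → F)} {Φ : OFrame Q N}

local notation "SI" => (Fin N ⊕ Fin N)
local notation "SL2" => Matrix.SpecialLinearGroup (Fin 2) F

theorem Mono.mul {g h : IsoGrp Q} {σ τ' : Fin N ⊕ Fin N → Fin N ⊕ Fin N} {α β : Fin N ⊕ Fin N → F}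
    (Mg : Mono Φ g σ α) (Mh : Mono Φ h τ' β) : Mono Φ (g * h) (σ ∘ τ') fun z => β z * α (τ' z) := ⟨fun z => by
  rw [ap_mul, Mh.act, map_smul, Mg.act, smul_smul]; rfl⟩

theorem sl2_cases' (A : Matrix.SpecialLinearGroup (Fin 2) F) :
    ∃ (x : F) (W : Matrix.SpecialLinearGroup (Fin 2) F) (c : Fˣ) (y : F),
      (W = 1 ∨ W = w2) ∧ A = tv zero_ne_one2 x * W * (dg c * tv zero_ne_one2 y) := by
  rcases sl2_cases A with ⟨x, c, rfl⟩ | ⟨x, y, c, rfl⟩
  · exact ⟨x, 1, c, 0, .inl rfl, by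
      rw [mul_one, tv, tv, Matrix.SpecialLinearGroup.transvection_coeff_zero, mul_one]⟩
  · exact ⟨x, w2, c, y, .inr rfl, by simp only [mul_assoc]⟩

namespace Ext

variable {Γ : Type u} [Group Γ] (X : Ext Φ Γ)

/-- The values on the indices from `j` on. -/
noncomputable def GS (j : ℕ) : Subgroup Γ :=
  Subgroup.closure ({g | ∃ (a b : SI) (t : F), Adm a b ∧ j ≤ (ix a).val ∧ j ≤ (ix b).val ∧ g = X.R a b t} ∪
    {g | ∃ (a : SI) (w : ι → F), Φ.Off w ∧ j ≤ (ix a).val ∧ g = X.S a w})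

theorem R_mem_GS {j : ℕ} {a b : SI} (h : Adm a b) (ha : j ≤ (ix a).val) (hb : j ≤ (ix b).val) (t : F) :
    X.R a b t ∈ X.GS j := Subgroup.subset_closure (Or.inl ⟨a, b, t, h, ha, hb, rfl⟩)

theorem S_mem_GS {j : ℕ} {a : SI} {w : ι → F} (hw : Φ.Off w) (ha : j ≤ (ix a).val) :
    X.S a w ∈ X.GS j := Subgroup.subset_closure (Or.inr ⟨a, w, hw, ha, rfl⟩)

theorem GS_le {j : ℕ} {H : Subgroup Γ}
    (hR : ∀ (a b : SI) (t : F), Adm a b → j ≤ (ix a).val → j ≤ (ix b).val → X.R a b t ∈ H)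
    (hS : ∀ (a : SI) (w : ι → F), Φ.Off w → j ≤ (ix a).val → X.S a w ∈ H) : X.GS j ≤ H := by
  refine (Subgroup.closure_le _).2 ?_
  rintro _ (⟨a, b, t, h, ha, hb, rfl⟩ | ⟨a, w, hw, ha, rfl⟩)
  · exact hR a b t h ha hb
  · exact hS a w hw ha

theorem GS_fix {j : ℕ} {g : Γ} (hg : g ∈ X.GS j) {z : SI} (hz : (ix z).val < j) :
    ap (X.π g) (Φ.v z) = Φ.v z := by
  induction hg using Subgroup.closure_induction with
  | one => simp
  | mul a b _ _ ha hb => rw [map_mul, ap_mul, hb, ha]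
  | inv a _ ha => rw [map_inv]; nth_rewrite 1 [← ha]; rw [ap_inv_ap]
  | mem a ha =>
    have hne : ∀ {c : SI}, j ≤ (ix c).val → z ≠ bar c := fun {c} hc e => by
      rw [e, show ix (bar c) = ix c from ix_bar c] at hz; omega
    rcases ha with ⟨a, b, t, h, h1, h2, rfl⟩ | ⟨a, w, hw, h1, rfl⟩
    · rw [X.π_R h]
      refine eich_ap_fix (Φ.sing b) (adm_pl' h t) (Φ.pl_eq_zero (hne h2)) ?_
      rw [pl_smul_left, Φ.pl_eq_zero (hne h1), mul_zero]
    · rw [X.π_S hw]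
      exact eich_ap_fix (Φ.sing a) (hw a) (Φ.pl_eq_zero (hne h1)) (Φ.off_pl hw z)

theorem mono_conj_GS {g : Γ} {σ : SI → SI} {α : SI → F} (hg : Mono Φ (X.π g) σ α) {j k : ℕ}
    (hσ : ∀ z, j ≤ (ix z).val → k ≤ (ix (σ z)).val) {x : Γ} (hx : x ∈ X.GS j) : g * x * g⁻¹ ∈ X.GS k := by
  suffices X.GS j ≤ (X.GS k).comap (MulAut.conj g).toMonoidHom from this hx
  refine X.GS_le (fun a b t h ha hb => ?_) fun a w hw ha => ?_
  · show g * X.R a b t * g⁻¹ ∈ X.GS k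
    rw [X.R_mono hg h]; exact X.R_mem_GS (hg.adm h) (hσ a ha) (hσ b hb) _
  · show g * X.S a w * g⁻¹ ∈ X.GS k
    rw [X.S_mono hg hw]; exact X.S_mem_GS (off_smul (hg.off hw) _) (hσ a ha)

/-! ### The radical -/

variable (p : Fin N)

theorem qv_comm_S (v : SI → F) {w : ι → F} (hw : Φ.Off w) :
    Commute (qv X.D p v) (X.S (Sum.inl p) w) := by
  refine Subgroup.mem_centralizer_singleton_iff.1 ((Q_le (D := X.D) p (H := Subgroup.centralizer {_}) ?_)
    (qv_mem p v))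
  intro b hb t
  exact Subgroup.mem_centralizer_singleton_iff.2 (X.S_comm_R hw hb.adm hb.adm.symm.2 (bar_ne _).symm t).symm.eq

/-- The radical at an index. -/
noncomputable def Qs : Subgroup Γ where
  carrier := {g | ∃ (v : SI → F) (w : ι → F), Φ.Off w ∧ g = qv X.D p v * X.S (Sum.inl p) w}
  one_mem' := ⟨0, 0, fun a => pl_zero_right Q _, by rw [qv_zero, X.S_zero, one_mul]⟩
  mul_mem' := by
    rintro _ _ ⟨v, w, hw, rfl⟩ ⟨v', w', hw', rfl⟩
    refine ⟨v + v', w + w', off_add hw hw', ?_⟩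
    rw [qv_add, X.S_add _ hw hw', (X.qv_comm_S p v' hw).symm.mul_mul_mul_comm]
  inv_mem' := by
    rintro _ ⟨v, w, hw, rfl⟩
    refine ⟨-v, -w, off_neg hw, inv_eq_of_mul_eq_one_right ?_⟩
    rw [(X.qv_comm_S p (-v) hw).symm.mul_mul_mul_comm, ← qv_add, ← X.S_add _ hw (off_neg hw), add_neg_cancel,
      add_neg_cancel, qv_zero, X.S_zero, one_mul]

theorem R_mem_Qs {b : SI} (h : InW p b) (t : F) : X.R b (Sum.inl p) t ∈ X.Qs p :=
  ⟨Pi.single b t, 0, fun a => pl_zero_right Q _, by rw [X.S_zero, mul_one, qv_single p h]⟩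

theorem R_mem_Qs' {b : SI} (h : InW p b) (t : F) : X.R (Sum.inl p) b t ∈ X.Qs p := by
  rw [X.R_swap h.adm]; exact X.R_mem_Qs p h _

theorem S_mem_Qs {w : ι → F} (hw : Φ.Off w) : X.S (Sum.inl p) w ∈ X.Qs p :=
  ⟨0, w, hw, by rw [qv_zero, one_mul]⟩

theorem Qs_le {H : Subgroup Γ} (hR : ∀ b, InW p b → ∀ t, X.R b (Sum.inl p) t ∈ H)
    (hS : ∀ w, Φ.Off w → X.S (Sum.inl p) w ∈ H) : X.Qs p ≤ H := by
  rintro _ ⟨v, w, hw, rfl⟩
  exact mul_mem ((Q_le (D := X.D) p hR) (qv_mem p v)) (hS w hw)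

theorem π_qv (v : SI → F) :
    X.π (qv X.D p v) = eich Q (Φ.v (Sum.inl p)) (sumv Φ (res p v)) := by
  have key : ∀ u, X.π (qh X.D p u) = emb Φ (qh (orels (F := F) (N := N)) p u) := fun u => by
    refine qh_induction (P := fun u => X.π (qh X.D p u) = emb Φ (qh (orels (F := F) (N := N)) p u)) ?_ ?_ ?_ u
    · simp
    · intro a b ha hb; simp [ha, hb]
    · intro b t
      rw [qh_single, qh_single]
      by_cases h : InW p b
      · rw [qphi_apply p h, qphi_apply p h]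
        exact (X.π_R h.adm _).trans (emb_RO Φ h.adm _).symm
      · rw [qphi_off p h, qphi_off p h, map_one, map_one]
  have e := (orels_over (F := F) (N := N)).π_qv p v
  rw [MonoidHom.id_apply] at e
  rw [qv, key, show qh (orels (F := F) (N := N)) p (fun b => Multiplicative.ofAdd (v b)) = qv orels p v from rfl,
    e, emb_eich Φ (Q_ev' _) (polar_res p v), sumv_ev]

theorem π_Qs (v : SI → F) {w : ι → F} (hw : Φ.Off w) :
    X.π (qv X.D p v * X.S (Sum.inl p) w) = eich Q (Φ.v (Sum.inl p)) (sumv Φ (res p v) + w) := by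
  rw [map_mul, X.π_qv, X.π_S hw, eich_add (Φ.sing _) ?_ (hw _)]
  rw [pl_sumv]; exact if_neg (not_InW_p p).2

theorem Qs_inj' {g : Γ} (hg : g ∈ X.Qs p)
    (h : ap (X.π g) (Φ.v (bar (Sum.inl p))) = Φ.v (bar (Sum.inl p))) : g = 1 := by
  obtain ⟨v, w, hw, rfl⟩ := hg
  rw [X.π_Qs p v hw] at h
  set u := sumv Φ (res p v) + w with hu
  have heu : polar ⇑Q (Φ.v (Sum.inl p)) u = 0 := by
    rw [hu, pl_add_right, hw, add_zero, pl_sumv]; exact if_neg (not_InW_p p).2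
  have hfu : polar ⇑Q u (Φ.v (bar (Sum.inl p))) = 0 := by
    rw [pl_comm Q, hu, pl_add_right, hw, add_zero, pl_sumv, bar_bar]; exact if_neg (not_InW_p p).1
  have hf := h
  rw [eich_ap (Φ.sing _) heu, pl_vbar, hfu, one_smul, zero_add, mul_one, add_sub_assoc,
    add_eq_left, sub_eq_zero] at hf
  have hc := congrArg (coords Φ) hf
  rw [hu, map_smul, coords_v, map_add, coords_sumv, coords_off Φ hw, add_zero] at hc
  have hQ : Q u = 0 := by
    have := congrFun hc (Sum.inl p)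
    simp [res, ev, not_InW_p p, ← hu] at this
    exact this.symm
  rw [hQ, zero_smul] at hf
  rw [← hu, hQ, zero_smul] at hc
  have hw0 : w = 0 := by rw [hu, hc, map_zero, zero_add] at hf; exact hf
  have hv : qv X.D p v = 1 := qh_eq_one p fun b hb => by
    have := congrFun hc b
    rw [res, if_pos hb] at this
    rw [this]; rfl
  rw [hv, hw0, X.S_zero, one_mul]

theorem Qs_inj {g : Γ} (hg : g ∈ X.Qs p) (h : X.π g = 1) : g = 1 :=
  X.Qs_inj' p hg (by rw [h, ap_one])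

theorem Qs_eq {g h : Γ} (hg : g ∈ X.Qs p) (hh : h ∈ X.Qs p) (e : X.π g = X.π h) : g = h :=
  mul_inv_eq_one.1 (X.Qs_inj p (mul_mem hg (inv_mem hh)) (by rw [map_mul, map_inv, e, mul_inv_cancel]))

variable [Finite Γ]

theorem GS_norm_Qs : X.GS (p.val + 1) ≤ Subgroup.normalizer (X.Qs p : Set Γ) := by
  refine X.GS_le (fun c d s hcd hc hd => ?_) fun c w hw hc => ?_ <;>
    refine mem_normalizer_of (isOfFinOrder_of_finite _) fun q hq => ?_
  · suffices X.Qs p ≤ (X.Qs p).comap (MulAut.conj (X.R c d s)).toMonoidHom from this hq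
    refine X.Qs_le p (fun b hb t => ?_) fun w hw => ?_
    · show X.R c d s * X.R b (Sum.inl p) t * (X.R c d s)⁻¹ ∈ X.Qs p
      have h := (Subgroup.mem_normalizer_iff.1 (Gam_le_normalizer p
        (R_mem_Gam X.D hcd hc hd s)) _).1 (CurtisTitsD.R_mem_Q (D := X.D) p hb t)
      obtain ⟨v, hv⟩ := exists_qv p h
      exact ⟨v, 0, fun a => pl_zero_right Q _, by rw [X.S_zero, mul_one]; exact hv⟩
    · show X.R c d s * X.S (Sum.inl p) w * (X.R c d s)⁻¹ ∈ X.Qs p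
      have hne : ∀ z : SI, p.val + 1 ≤ (ix z).val → (Sum.inl p : SI) ≠ bar z := fun z hz e => by
        have := congrArg (fun y : SI => (ix y).val) e
        simp only [ix_bar, Sum.elim_inl, id_eq] at this
        omega
      rw [mul_inv_eq_iff_eq_mul.2 (X.S_comm_R hw hcd (hne c hc) (hne d hd) s).symm.eq]
      exact X.S_mem_Qs p hw
  · suffices X.Qs p ≤ (X.Qs p).comap (MulAut.conj (X.S c w)).toMonoidHom from this hq
    have hcp : Adm c (Sum.inl p) := Adm.of_idx fun e => by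
      have : (ix c).val = p.val := congrArg Fin.val e
      omega
    refine X.Qs_le p (fun b hb t => ?_) fun w' hw' => ?_
    · show X.S c w * X.R b (Sum.inl p) t * (X.S c w)⁻¹ ∈ X.Qs p
      by_cases hcb : c = bar b
      · obtain rfl : b = bar c := by rw [hcb, bar_bar]
        have e := X.R_conj_S hcp hw t
        set A := X.R (Sum.inl p) (bar c) t
        set Z := X.R c (Sum.inl p) (-(t * Q w)) * X.S (Sum.inl p) (t • w)
        have hb' : X.R (bar c) (Sum.inl p) t = A⁻¹ := by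
          rw [X.R_swap hb.adm.symm, X.R_neg hb.adm.symm]
        have e' : X.S c w * A⁻¹ * (X.S c w)⁻¹ = A⁻¹ * Z := by
          rw [mul_inv_eq_iff_eq_mul, show A⁻¹ * Z * X.S c w = A⁻¹ * (Z * X.S c w) from mul_assoc _ _ _, ← e]
          group
        rw [hb', e', ← hb']
        refine mul_mem (X.R_mem_Qs p hb t) (mul_mem (X.R_mem_Qs p hc _) (X.S_mem_Qs p (off_smul hw t)))
      · rw [mul_inv_eq_iff_eq_mul.2 (X.S_comm_R hw hb.adm hcb hcp.2 t).eq]
        exact X.R_mem_Qs p hb t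
    · show X.S c w * X.S (Sum.inl p) w' * (X.S c w)⁻¹ ∈ X.Qs p
      rw [X.S_conj_S hcp hw hw' (X.π_S hw)]
      exact mul_mem (X.R_mem_Qs p hc _) (X.S_mem_Qs p hw')

theorem Qs_conj {m q : Γ} (hm : m ∈ X.GS (p.val + 1)) (hq : q ∈ X.Qs p) : m * q * m⁻¹ ∈ X.Qs p :=
  (Subgroup.mem_normalizer_iff.1 (X.GS_norm_Qs p hm) q).1 hq

theorem Qs_conj' {m q : Γ} (hm : m ∈ X.GS (p.val + 1)) (hq : q ∈ X.Qs p) : m⁻¹ * q * m ∈ X.Qs p := by
  simpa using X.Qs_conj p (inv_mem hm) hq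

/-- The stabiliser. -/
noncomputable def ST : Subgroup Γ := X.Qs p ⊔ X.GS (p.val + 1)

theorem exists_of_ST {g : Γ} (hg : g ∈ X.ST p) :
    ∃ q ∈ X.Qs p, ∃ m ∈ X.GS (p.val + 1), g = q * m := by
  rw [ST, Subgroup.sup_eq_closure] at hg
  induction hg using Subgroup.closure_induction with
  | mem x hx =>
    rcases hx with hx | hx
    · exact ⟨x, hx, 1, one_mem _, (mul_one x).symm⟩
    · exact ⟨1, one_mem _, x, hx, (one_mul x).symm⟩
  | one => exact ⟨1, one_mem _, 1, one_mem _, (one_mul 1).symm⟩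
  | mul a b _ _ ha hb =>
    obtain ⟨q, hq, m, hm, rfl⟩ := ha
    obtain ⟨q', hq', m', hm', rfl⟩ := hb
    exact ⟨q * (m * q' * m⁻¹), mul_mem hq (X.Qs_conj p hm hq'), m * m', mul_mem hm hm', by group⟩
  | inv a _ ha =>
    obtain ⟨q, hq, m, hm, rfl⟩ := ha
    exact ⟨m⁻¹ * q⁻¹ * (m⁻¹)⁻¹, X.Qs_conj p (inv_mem hm) (inv_mem hq), m⁻¹, inv_mem hm, by group⟩

theorem mono_conj_ST {g : Γ} {α : SI → F} (hg : Mono Φ (X.π g) id α) {s : Γ} (hs : s ∈ X.ST p) :
    g * s * g⁻¹ ∈ X.ST p := by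
  suffices X.ST p ≤ (X.ST p).comap (MulAut.conj g).toMonoidHom from this hs
  refine sup_le (X.Qs_le p (fun b hb t => ?_) fun w hw => ?_) fun x hx => ?_
  · show g * X.R b (Sum.inl p) t * g⁻¹ ∈ X.ST p
    rw [X.R_mono hg hb.adm]; exact Subgroup.mem_sup_left (X.R_mem_Qs p hb _)
  · show g * X.S (Sum.inl p) w * g⁻¹ ∈ X.ST p
    rw [X.S_mono hg hw]; exact Subgroup.mem_sup_left (X.S_mem_Qs p (off_smul (hg.off hw) _))
  · exact Subgroup.mem_sup_right (X.mono_conj_GS hg (fun z hz => hz) hx)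

/-! ### The short Weyl element and the last torus -/

/-- The Weyl element of a short root. -/
noncomputable def nS (r : Fin N) (w : ι → F) : Γ :=
  X.S (Sum.inl r) w * X.S (Sum.inr r) ((Q w)⁻¹ • w) * X.S (Sum.inl r) w

/-- The torus element of a short root. -/
noncomputable def Tor (p r : Fin N) (c : Fˣ) : Γ :=
  X.D.P (Sum.inl p) (Sum.inl r) (dg c⁻¹) * X.D.P (Sum.inl p) (Sum.inr r) (dg c)

variable {p} {r : Fin N} (hpr : p ≠ r)

omit [Finite Γ] in
theorem nS_mem {w : ι → F} (hw : Φ.Off w) {j : ℕ} (hj : j ≤ r.val) : X.nS r w ∈ X.GS j :=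
  mul_mem (mul_mem (X.S_mem_GS hw hj) (X.S_mem_GS (off_smul hw _) hj)) (X.S_mem_GS hw hj)

omit [Finite Γ] in
theorem nS_neg {w : ι → F} (hw : Φ.Off w) : X.nS r (-w) = (X.nS r w)⁻¹ := by
  rw [nS, nS, QuadraticMap.map_neg, smul_neg, X.S_neg _ hw, X.S_neg _ (off_smul hw _)]
  group

/-- The permutation of the short Weyl element. -/
def nσ (r : Fin N) (z : SI) : SI := if ix z = r then bar z else z

/-- The scalars of the short Weyl element. -/
def nα (r : Fin N) (k : F) (z : SI) : F :=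
  if z = Sum.inl r then -k⁻¹ else if z = Sum.inr r then -k else 1

omit [Finite Γ] in
theorem mono_nS {w : ι → F} (hw : Φ.Off w) (hQ : Q w ≠ 0) :
    Mono Φ (X.π (X.nS r w)) (nσ r) (nα r (Q w)) := ⟨fun z => by
  set s := (Q w)⁻¹
  have hws := off_smul hw s
  have hsQ : s * Q w = 1 := inv_mul_cancel₀ hQ
  have hef : polar ⇑Q (Φ.v (Sum.inl r)) (Φ.v (Sum.inr r)) = 1 := pl_vbar (Sum.inl r)
  have hfe : polar ⇑Q (Φ.v (Sum.inr r)) (Φ.v (Sum.inl r)) = 1 := by rw [pl_comm Q, hef]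
  have hee : polar ⇑Q (Φ.v (Sum.inl r)) (Φ.v (Sum.inl r)) = 0 := pl_v_self _
  have hff : polar ⇑Q (Φ.v (Sum.inr r)) (Φ.v (Sum.inr r)) = 0 := pl_v_self _
  have hew : polar ⇑Q (Φ.v (Sum.inl r)) w = 0 := hw _
  have hfw : polar ⇑Q (Φ.v (Sum.inr r)) w = 0 := hw _
  have hwe : polar ⇑Q w (Φ.v (Sum.inl r)) = 0 := Φ.off_pl hw _
  have hwf : polar ⇑Q w (Φ.v (Sum.inr r)) = 0 := Φ.off_pl hw _
  have hA := fun x => eich_ap (Φ.sing (Sum.inl r)) (hw (Sum.inl r)) x
  have hM := fun x => eich_ap (Φ.sing (Sum.inr r)) (hws (Sum.inr r)) x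
  rw [nS, map_mul, map_mul, X.π_S hw, X.π_S hws, ap_mul, ap_mul]
  by_cases hzr : ix z = r
  · rcases eq_inl_or_inr z with ez | ez <;>
      · simp only [ix] at hzr
        rw [hzr] at ez
        subst ez
        simp only [hA, hM, nσ, nα, ix, Sum.elim_inl, Sum.elim_inr, id_eq, if_true, bar, Sum.swap_inl, Sum.swap_inr,
          pl_add_right, pl_sub_right, pl_smul_right, pl_smul_left, Q_smul, pl_self, hef, hfe, hee, hff, hew, hfw,
          hwe, hwf, map_add, map_sub, map_smul, reduceCtorEq, if_false]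
        match_scalars <;> simp only [s, Φ.sing] <;> field_simp <;> ring
  · have hfix : ∀ (a : SI) (_ : ix a = r) (u : ι → F), Φ.Off u → ap (eich Q (Φ.v a) u) (Φ.v z) = Φ.v z :=
      fun a ha u hu => eich_ap_fix (Φ.sing a) (hu a)
        (Φ.pl_eq_zero fun e' => hzr (by rw [e']; exact (ix_bar a).trans ha)) (Φ.off_pl hu z)
    rw [hfix _ rfl _ hw, hfix _ rfl _ hws, hfix _ rfl _ hw, nσ, if_neg hzr, nα,
      if_neg (fun e' => hzr (by rw [e']; rfl)), if_neg (fun e' => hzr (by rw [e']; rfl)), one_smul]⟩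

include hpr

omit [Finite Γ] in
theorem nS_conj {w : ι → F} (hw : Φ.Off w) (hQ : Q w ≠ 0) (c : Fˣ) :
    X.nS r w * X.D.P (Sum.inl p) (Sum.inl r) (dg c) * (X.nS r w)⁻¹ = X.D.P (Sum.inl p) (Sum.inr r) (dg c) ∧
    X.nS r w * X.D.P (Sum.inl p) (Sum.inr r) (dg c) * (X.nS r w)⁻¹ = X.D.P (Sum.inl p) (Sum.inl r) (dg c) := by
  have hM := X.mono_nS (r := r) hw hQ
  have hsc : ∀ (k : Fˣ) (d : Fˣ), sc k (dg d : SL2) = dg d := fun k d => by
    apply sl2_ext <;> simp [sc_coe, dg_coe]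
  have hu : ∀ (k : Fˣ) (t : F), sc k (tv zero_ne_one2 t : SL2) = tv zero_ne_one2 (((k⁻¹ : Fˣ) : F) * t) :=
    fun k t => by apply sl2_ext <;> simp [sc_coe, tv_coe, Matrix.single_apply, Matrix.one_apply, mul_comm]
  have hl : ∀ (k : Fˣ) (t : F), sc k (tv zero_ne_one2.symm t : SL2) = tv zero_ne_one2.symm ((k : F) * t) :=
    fun k t => by apply sl2_ext <;> simp [sc_coe, tv_coe, Matrix.single_apply, Matrix.one_apply, mul_comm]
  obtain ⟨a1, a2⟩ := adm_signed hpr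
  constructor
  · let k : Fˣ := Units.mk0 (-(Q w)⁻¹) (by simp [hQ])
    conv_rhs => rw [← hsc k c]
    refine X.D.conj_P X.hN a1 _ ((X.D.P (Sum.inl p) (Sum.inr r)).comp (sc k)) (fun t => ?_) (fun t => ?_) (dg c)
    · rw [MonoidHom.comp_apply, hu, (X.D.P_spec X.hN a2 _).1]
      refine (X.R_mono hM a1.bar_right t).trans ?_
      simp [nσ, nα, bar, hpr, k]
    · rw [MonoidHom.comp_apply, hl, (X.D.P_spec X.hN a2 _).2]
      refine (X.R_mono hM a1.symm.bar_right t).trans ?_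
      simp [nσ, nα, bar, hpr, k]
  · let k : Fˣ := Units.mk0 (-Q w) (by simp [hQ])
    conv_rhs => rw [← hsc k c]
    refine X.D.conj_P X.hN a2 _ ((X.D.P (Sum.inl p) (Sum.inl r)).comp (sc k)) (fun t => ?_) (fun t => ?_) (dg c)
    · rw [MonoidHom.comp_apply, hu, (X.D.P_spec X.hN a1 _).1]
      refine (X.R_mono hM a2.bar_right t).trans ?_
      simp [nσ, nα, bar, hpr, k]
    · rw [MonoidHom.comp_apply, hl, (X.D.P_spec X.hN a1 _).2]
      refine (X.R_mono hM a2.symm.bar_right t).trans ?_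
      simp [nσ, nα, bar, hpr, k]

omit [Finite Γ] in
theorem nS_smul {w : ι → F} (hw : Φ.Off w) (hQ : Q w ≠ 0) (c : Fˣ) :
    X.nS r ((c : F) • w) = X.Tor p r c * X.nS r w := by
  obtain ⟨a1, -⟩ := adm_signed hpr
  set h := X.D.P (Sum.inl p) (Sum.inl r) (dg c⁻¹) with hh
  have hM := X.mono_dg a1 c⁻¹
  have e1 : (dgScalar (Sum.inl p) (Sum.inl r) c⁻¹ (Sum.inl r) : F) = (c : F) := by
    simp [dgScalar, hpr.symm]
  have e2 : (dgScalar (Sum.inl p) (Sum.inl r) c⁻¹ (Sum.inr r) : F) = ((c⁻¹ : Fˣ) : F) := by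
    simp [dgScalar, bar]
  have hc : h * X.nS r w * h⁻¹ = X.nS r ((c : F) • w) := by
    rw [nS, show ∀ a b : Γ, h * (a * b * a) * h⁻¹ = h * a * h⁻¹ * (h * b * h⁻¹) * (h * a * h⁻¹) from
      fun a b => by group, X.S_mono hM hw, X.S_mono hM (off_smul hw _), id, id, X.ap_P_off a1 _ hw,
      X.ap_P_off a1 _ (off_smul hw _), e1, e2, nS, Q_smul, smul_smul, smul_smul]
    congr 3
    rw [Units.val_inv_eq_inv_val]
    field_simp
  have hn := (X.nS_conj hpr hw hQ c).1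
  rw [← hc, Tor, ← hn, ← hh, show X.D.P (Sum.inl p) (Sum.inl r) (dg c) = h⁻¹ by
    rw [hh, ← map_inv, ← map_inv, inv_inv]]
  group

omit [Finite Γ] in
theorem Tor_mem {w : ι → F} (hw : Φ.Off w) (hQ : Q w ≠ 0) {j : ℕ} (hj : j ≤ r.val) (c : Fˣ) :
    X.Tor p r c ∈ X.GS j := by
  rw [show X.Tor p r c = X.nS r ((c : F) • w) * (X.nS r w)⁻¹ by rw [X.nS_smul hpr hw hQ, mul_inv_cancel_right]]
  exact mul_mem (X.nS_mem (off_smul hw _) hj) (inv_mem (X.nS_mem hw hj))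

omit [Finite Γ] in
theorem P_comm' (A B : SL2) :
    Commute (X.D.P (Sum.inl p) (Sum.inl r) A) (X.D.P (Sum.inl p) (Sum.inr r) B) :=
  X.D.P_range_commute X.hN (x := Sum.inl p) (y := Sum.inl r) (adm_signed hpr).1 A B

omit [Finite Γ] in
theorem Δ_mul' (A B A' B' : SL2) :
    Δ X.D p r A B * Δ X.D p r A' B' = Δ X.D p r (A * A') (B * B') := by
  rw [Δ, Δ, Δ, map_mul, map_mul, (X.P_comm' hpr A' B).symm.mul_mul_mul_comm]

omit [Finite Γ] in
theorem Δ_u (x y : F) :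
    Δ X.D p r (tv zero_ne_one2 x) (tv zero_ne_one2 y) =
      X.R (Sum.inl p) (Sum.inr r) x * X.R (Sum.inl p) (Sum.inl r) y := by
  obtain ⟨a1, a2⟩ := adm_signed hpr
  rw [Δ, (X.D.P_spec X.hN a1 _).1, (X.D.P_spec X.hN a2 _).1]
  rfl

omit [Finite Γ] in
theorem Δ_dg_mono (a b : Fˣ) : ∃ α, Mono Φ (X.π (Δ X.D p r (dg a) (dg b))) id α := by
  obtain ⟨a1, a2⟩ := adm_signed hpr
  exact ⟨_, by rw [Δ, map_mul]; exact (X.mono_dg a1 a).mul (X.mono_dg a2 b)⟩

end Ext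

end Cfsg.Agent.OrthMult
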