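/-
Central extensions of orthogonal groups with a frame: going down one index, and the kernel.

* `Ext.exists_reduce`, `Ext.Qs_reduce`, `Ext.Qs_split`: the radical; `Ext.cell`: the cosets, closed under the generators.
* `Ext.step`, `Ext.base`, `Ext.kernel`.
-/
import Cfsg.Agent.Lib.OrthMult.Cells

set_option autoImplicit false
set_option linter.unusedSectionVars false

open Matrix
open QuadraticMap (polar)
open scoped commutatorElement

namespace Cfsg.Agent.OrthMult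

open CurtisTitsA CurtisTitsD
open Cfsg.Agent.Orth hiding quadPlus
open Cfsg.Agent.OrthAct (quadPlus)
open Cfsg.Agent.OrthBN (OFrame)

universe u

variable {F : Type u} [Field F] [Fintype F] {ι : Type} [Fintype ι] [DecidableEq ι] {N : ℕ}
  {Q : QuadraticForm F (ι → F)} {Φ : OFrame Q N}

local notation "SI" => (Fin N ⊕ Fin N)
local notation "SL2" => Matrix.SpecialLinearGroup (Fin 2) F

theorem pl_sumv_left (c : SI → F) (x : ι → F) :
    polar ⇑Q (sumv Φ c) x = ∑ a, c a * polar ⇑Q (Φ.v a) x := by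
  rw [sumv_apply, show polar ⇑Q (∑ a, c a • Φ.v a) x = (∑ a, c a • Q.polarBilin (Φ.v a)) x by
    rw [← Q.polarBilin_apply_apply, map_sum]; simp [map_smul]]
  simp

namespace Ext

variable {Γ : Type u} [Group Γ] [Finite Γ] (X : Ext Φ Γ) {p r : Fin N}

omit [Finite Γ] in
theorem eich_mem_map {j : ℕ} {a : SI} (ha : j ≤ (ix a).val) {u : ι → F}
    (hu : ∀ z : SI, (ix z).val < j ∨ ix z = ix a → coords Φ u z = 0) :
    eich Q (Φ.v a) u ∈ (X.GS j).map X.π := by
  let P : (ι → F) → Prop := fun u => polar ⇑Q (Φ.v a) u = 0 ∧ eich Q (Φ.v a) u ∈ (X.GS j).map X.π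
  have hadd : ∀ u u', P u → P u' → P (u + u') := fun u u' h h' =>
    ⟨by rw [pl_add_right, h.1, h'.1, add_zero], by
      rw [← eich_add (Φ.sing a) h.1 h'.1]; exact mul_mem h.2 h'.2⟩
  have h0 : P 0 := ⟨pl_zero_right Q _, by rw [eich_zero]; exact one_mem _⟩
  suffices P u from this.2
  rw [decomp' Φ u]
  refine hadd _ _ ?_ ⟨Φ.proj_off u a, X.S a (Φ.proj u), X.S_mem_GS (Φ.proj_off u) ha, X.π_S (Φ.proj_off u)⟩
  rw [sumv_apply]
  refine Finset.sum_induction _ P hadd h0 fun z _ => ?_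
  by_cases hz : (ix z).val < j ∨ ix z = ix a
  · rw [hu z hz, zero_smul]; exact h0
  · push Not at hz
    have hza : Adm z a := Adm.of_idx hz.2
    exact ⟨adm_pl' hza _, X.R z a (coords Φ u z), X.R_mem_GS hza hz.1 ha _, X.π_R hza _⟩

omit [Finite Γ] in
theorem exists_reduce (hr : r.val = p.val + 1) {u : ι → F}
    (hu : ∀ z : SI, (ix z).val ≤ p.val → coords Φ u z = 0) :
    ∃ m ∈ X.GS (p.val + 1), ∃ c d : F, ap (X.π m) u = c • Φ.v (Sum.inl r) + d • Φ.v (Sum.inr r) := by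
  classical
  have one : ∀ u : ι → F, (∀ z : SI, (ix z).val ≤ p.val → coords Φ u z = 0) →
      ∀ a : SI, ix a = r → coords Φ u (bar a) ≠ 0 →
      ∃ m ∈ X.GS (p.val + 1), ∃ c d : F, ap (X.π m) u = c • Φ.v (Sum.inl r) + d • Φ.v (Sum.inr r) := by
    intro u hu a ha hβ
    set β := coords Φ u (bar a) with hβd
    set y := u - coords Φ u a • Φ.v a - β • Φ.v (bar a) with hy
    have hyc : coords Φ y = coords Φ u - coords Φ u a • ev F a - β • ev F (bar a) := by
      rw [hy, map_sub, map_sub, map_smul, map_smul, coords_v, coords_v]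
    have hu' : ∀ z : SI, (ix z).val < p.val + 1 ∨ ix z = ix a → coords Φ ((-β⁻¹) • y) z = 0 := by
      intro z hz
      rw [map_smul, hyc]
      rcases hz with hz | hz
      · have h1 : z ≠ a := fun e => by subst e; rw [ha] at hz; omega
        have h2 : z ≠ bar a := fun e => by subst e; rw [show ix (bar a) = ix a from ix_bar a, ha] at hz; omega
        simp [ev, h1, h2, hu z (by omega)]
      · have : z = a ∨ z = bar a := by rcases z with i | i <;> rcases a with j | j <;> simp_all [bar]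
        rcases this with rfl | rfl
        · simp [ev, (bar_ne z).symm, bar_ne z]
        · simp [ev, bar_ne a, hβd]
    have hb : polar ⇑Q (Φ.v a) ((-β⁻¹) • y) = 0 := by
      have h := hu' (bar a) (Or.inr (ix_bar a))
      rwa [coords_apply, bar_bar] at h
    obtain ⟨m, hm, em⟩ := X.eich_mem_map (j := p.val + 1) (a := a) (by rw [ha]; omega) hu'
    refine ⟨m, hm, ?_⟩
    have hau : polar ⇑Q (Φ.v a) u = β := by rw [hβd, coords_apply, bar_bar]
    obtain ⟨k, hk⟩ : ∃ k, ap (X.π m) u = k • Φ.v a + β • Φ.v (bar a) := by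
      refine ⟨coords Φ u a - (polar ⇑Q ((-β⁻¹) • y) u + Q ((-β⁻¹) • y) * β), ?_⟩
      rw [em, eich_ap (Φ.sing a) hb, hau, smul_smul, show β * -β⁻¹ = -1 by field_simp, neg_one_smul, hy]
      module
    rcases eq_inl_or_inr a with e | e <;> rw [show Sum.elim id id a = r from ha] at e <;> rw [e] at hk
    · exact ⟨k, β, hk⟩
    · exact ⟨β, k, hk.trans (add_comm _ _)⟩
  by_cases h : ∃ a : SI, ix a = r ∧ coords Φ u (bar a) ≠ 0
  · obtain ⟨a, ha, hβ⟩ := h
    exact one u hu a ha hβ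
  push Not at h
  have hr0 : ∀ z : SI, ix z = r → coords Φ u z = 0 := fun z hz => by
    simpa using h (bar z) ((ix_bar z).trans hz)
  by_cases hu0 : u = 0
  · exact ⟨1, one_mem _, 0, 0, by simp [hu0]⟩
  obtain ⟨y', hy'⟩ := exists_polar_ne Φ.nd hu0
  set c' : SI → F := fun z => if (ix z).val < p.val + 1 ∨ ix z = r then 0 else coords Φ y' z
  set y := sumv Φ c' + Φ.proj y'
  have hyc : ∀ z : SI, (ix z).val < p.val + 1 ∨ ix z = ix (Sum.inl r : SI) → coords Φ y z = 0 := fun z hz => by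
    rw [map_add, coords_sumv, coords_off Φ (Φ.proj_off y'), add_zero]
    exact if_pos hz
  have hyu : polar ⇑Q y u ≠ 0 := by
    rw [show polar ⇑Q y u = polar ⇑Q y' u from ?_, pl_comm Q]
    · exact hy'
    conv_rhs => rw [decomp' Φ y']
    rw [pl_add_left, pl_add_left, pl_sumv_left, pl_sumv_left]
    congr 1
    refine Finset.sum_congr rfl fun z _ => ?_
    simp only [c']
    split_ifs with hz
    · have : polar ⇑Q (Φ.v z) u = 0 := by
        have e : coords Φ u (bar z) = 0 := by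
          rcases hz with hz | hz
          · exact hu _ (by rw [show ix (bar z) = ix z from ix_bar z]; omega)
          · exact hr0 _ ((ix_bar z).trans hz)
        rwa [coords_apply, bar_bar] at e
      rw [this, zero_mul, mul_zero]
    · rfl
  have hb : polar ⇑Q (Φ.v (Sum.inl r)) y = 0 := by
    have h := hyc (bar (Sum.inl r)) (Or.inr (ix_bar _))
    rwa [coords_apply, bar_bar] at h
  obtain ⟨m, hm, em⟩ := X.eich_mem_map (j := p.val + 1) (a := Sum.inl r) (by simp; omega) hyc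
  have hu1 : ap (X.π m) u = u - polar ⇑Q y u • Φ.v (Sum.inl r) := by
    have e : polar ⇑Q (Φ.v (Sum.inl r)) u = 0 := by
      have h := hr0 (bar (Sum.inl r)) (ix_bar _)
      rwa [coords_apply, bar_bar] at h
    rw [em, eich_ap (Φ.sing _) hb, e]
    module
  obtain ⟨m', hm', c, d, e⟩ := one (ap (X.π m) u) (fun z hz => by
      have hz' : z ≠ Sum.inl r := fun e => by subst e; simp at hz; omega
      rw [hu1, map_sub, map_smul, coords_v]
      simp [ev, hz', hu z hz]) (Sum.inr r) rfl (by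
      rw [hu1, map_sub, map_smul, coords_v]
      simp [ev, bar, hr0 (Sum.inl r) rfl, hyu])
  exact ⟨m' * m, mul_mem hm' hm, c, d, by rw [map_mul, ap_mul, e]⟩

theorem Δ_u_mem' (hpr : p ≠ r) (hr : r.val = p.val + 1) (x y : F) :
    Δ X.D p r (tv zero_ne_one2 x) (tv zero_ne_one2 y) ∈ X.Qs p := by
  rw [X.Δ_u hpr]
  exact mul_mem (X.R_mem_Qs' p (by simp [InW, sx, hr]) x) (X.R_mem_Qs' p (by simp [InW, sx, hr]) y)

theorem Qs_reduce (hpr : p ≠ r) (hr : r.val = p.val + 1) {q : Γ} (hq : q ∈ X.Qs p) :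
    ∃ m ∈ X.GS (p.val + 1), ∃ x y : F,
      q = m * Δ X.D p r (tv zero_ne_one2 x) (tv zero_ne_one2 y) * m⁻¹ := by
  have hq' := hq
  obtain ⟨v, w, hw, rfl⟩ := hq'
  set u := sumv Φ (res p v) + w
  obtain ⟨m, hm, c, d, e⟩ := X.exists_reduce (r := r) hr (u := u) fun z hz => by
    rw [map_add, coords_sumv, coords_off Φ hw, add_zero]
    exact if_neg (by simp only [InW, not_lt]; exact hz)
  refine ⟨m⁻¹, inv_mem hm, -d, -c, ?_⟩
  have key : m * (qv X.D p v * X.S (Sum.inl p) w) * m⁻¹ =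
      Δ X.D p r (tv zero_ne_one2 (-d)) (tv zero_ne_one2 (-c)) := by
    refine X.Qs_eq p (X.Qs_conj p hm hq) (X.Δ_u_mem' hpr hr _ _) ?_
    obtain ⟨a1, a2⟩ := adm_signed hpr
    have a3 : Adm (Sum.inr r : SI) (Sum.inl p) := a2.symm
    have a4 : Adm (Sum.inl r : SI) (Sum.inl p) := a1.symm
    rw [map_mul, map_mul, map_inv, X.π_Qs p v hw, conj_eich, X.GS_fix hm (by simp), e, X.Δ_u hpr,
      X.R_swap a3, X.R_swap a4, neg_neg, neg_neg, map_mul, X.π_R a3, X.π_R a4,
      eich_add (Φ.sing _) (adm_pl' a3 d) (adm_pl' a4 c), add_comm]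
  rw [← key]
  group

omit [Finite Γ] in
theorem Qs_split (hpr : p ≠ r) (hr : r.val = p.val + 1) {q : Γ} (hq : q ∈ X.Qs p) :
    ∃ (x y : F) (v : SI → F) (w : ι → F), Φ.Off w ∧ v (Sum.inl r) = 0 ∧ v (Sum.inr r) = 0 ∧
      q = Δ X.D p r (tv zero_ne_one2 x) (tv zero_ne_one2 y) * (qv X.D p v * X.S (Sum.inl p) w) := by
  obtain ⟨v, w, hw, rfl⟩ := hq
  set a := v (Sum.inl r)
  set b := v (Sum.inr r)
  refine ⟨-b, -a, v - Pi.single (Sum.inr r) b - Pi.single (Sum.inl r) a, w, hw, by simp [a],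
    by simp [b], ?_⟩
  obtain ⟨a1, a2⟩ := adm_signed hpr
  have h1 : InW p (Sum.inr r : SI) := by simp [InW, sx, hr]
  have h2 : InW p (Sum.inl r : SI) := by simp [InW, sx, hr]
  rw [X.Δ_u hpr, X.R_swap a2.symm, X.R_swap a1.symm, neg_neg, neg_neg]
  show _ = X.D.R (Sum.inr r) (Sum.inl p) b * X.D.R (Sum.inl r) (Sum.inl p) a * _
  rw [← qv_single p h1, ← qv_single p h2, ← qv_add, ← mul_assoc, ← qv_add]
  congr 2
  abel

omit [Finite Γ] in
theorem conj_rest {g : Γ} {σ : SI → SI} {α : SI → F} (hg : Mono Φ (X.π g) σ α) (hr : r.val = p.val + 1)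
    (hp : (ix (σ (Sum.inl p))).val = r.val) (hσ : ∀ b : SI, r.val < (ix b).val → σ b = b)
    {v : SI → F} {w : ι → F} (hw : Φ.Off w) (hl : v (Sum.inl r) = 0) (hr' : v (Sum.inr r) = 0) :
    g * (qv X.D p v * X.S (Sum.inl p) w) * g⁻¹ ∈ X.GS (p.val + 1) := by
  rw [show ∀ a b : Γ, g * (a * b) * g⁻¹ = g * a * g⁻¹ * (g * b * g⁻¹) from fun a b => by group]
  refine mul_mem ?_ ?_
  · rw [← Finset.univ_sum_single v]
    refine Finset.sum_induction _ (fun v => g * qv X.D p v * g⁻¹ ∈ X.GS (p.val + 1))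
      (fun a b ha hb => by
        rw [qv_add, show g * (qv X.D p a * qv X.D p b) * g⁻¹ =
          g * qv X.D p a * g⁻¹ * (g * qv X.D p b * g⁻¹) by group]
        exact mul_mem ha hb)
      (by rw [qv_zero, mul_one, mul_inv_cancel]; exact one_mem _) fun b _ => ?_
    have h0 : v b = 0 → g * qv X.D p (Pi.single b (v b)) * g⁻¹ ∈ X.GS (p.val + 1) := fun h => by
      rw [h, Pi.single_zero, qv_zero, mul_one, mul_inv_cancel]; exact one_mem _
    by_cases hb : InW p b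
    · by_cases hbr : ix b = r
      · refine h0 ?_
        rcases eq_inl_or_inr b with e | e <;> rw [show Sum.elim id id b = r from hbr] at e <;> rw [e]
        · exact hl
        · exact hr'
      · have hb' : r.val < (ix b).val := by
          have e1 : (ix b).val ≠ r.val := fun e => hbr (Fin.ext e)
          have e2 : p.val < (ix b).val := hb
          omega
        rw [qv_single p hb, show X.D.R b (Sum.inl p) (v b) = X.R b (Sum.inl p) (v b) from rfl, X.R_mono hg hb.adm]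
        exact X.R_mem_GS (hg.adm hb.adm) (by rw [hσ b hb']; omega) (by omega) _
    · have : qv X.D p (Pi.single b (v b)) = 1 := qh_eq_one p fun c hc => by
        rw [Pi.single_eq_of_ne (fun e => hb (by rwa [e] at hc))]; rfl
      rw [this, mul_one, mul_inv_cancel]; exact one_mem _
  · rw [X.S_mono hg hw]
    exact X.S_mem_GS (off_smul (hg.off hw) _) (by omega)

/-- The cosets. -/
def cell (p r : Fin N) : Set Γ :=
  {g | ∃ m ∈ X.GS (p.val + 1), ∃ A B : SL2, ∃ s ∈ X.ST p, g = m * Δ X.D p r A B * s}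

section Cell

variable (hpr : p ≠ r) (hr : r.val = p.val + 1)

omit [Finite Γ] in
theorem M_cell {m g : Γ} (hm : m ∈ X.GS (p.val + 1)) (hg : g ∈ X.cell p r) : m * g ∈ X.cell p r := by
  obtain ⟨m', hm', A, B, s, hs, rfl⟩ := hg
  exact ⟨m * m', mul_mem hm hm', A, B, s, hs, by group⟩

omit [Finite Γ] in
theorem cell_S {g s : Γ} (hg : g ∈ X.cell p r) (hs : s ∈ X.ST p) : g * s ∈ X.cell p r := by
  obtain ⟨m, hm, A, B, s', hs', rfl⟩ := hg
  exact ⟨m, hm, A, B, s' * s, mul_mem hs' hs, by group⟩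

include hpr hr

theorem cell_T {g : Γ} (hg : g ∈ X.cell p r) (a b : Fˣ) (y y' : F) :
    g * Δ X.D p r (dg a * tv zero_ne_one2 y) (dg b * tv zero_ne_one2 y') ∈ X.cell p r := by
  obtain ⟨m, hm, A, B, s, hs, rfl⟩ := hg
  obtain ⟨α, hα⟩ := X.Δ_dg_mono hpr a⁻¹ b⁻¹
  have h := X.mono_conj_ST p hα hs
  have hinv : (Δ X.D p r (dg a⁻¹) (dg b⁻¹))⁻¹ = Δ X.D p r (dg a) (dg b) := by
    refine inv_eq_of_mul_eq_one_right ?_
    rw [X.Δ_mul' hpr, ← map_mul, ← map_mul, inv_mul_cancel, inv_mul_cancel, map_one]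
    simp [Δ]
  rw [hinv] at h
  set T := Δ X.D p r (dg a) (dg b)
  refine ⟨m, hm, A * dg a, B * dg b, _, mul_mem h (Subgroup.mem_sup_left (X.Δ_u_mem' hpr hr y y')), ?_⟩
  rw [← X.Δ_mul' hpr (dg a) (dg b), ← X.Δ_mul' hpr A B]
  have hTT : T * Δ X.D p r (dg a⁻¹) (dg b⁻¹) = 1 := by rw [← hinv, inv_mul_cancel]
  calc _ = m * Δ X.D p r A B * s * T * Δ X.D p r (tv zero_ne_one2 y) (tv zero_ne_one2 y') := by simp only [T, mul_assoc]
    _ = m * Δ X.D p r A B * (T * Δ X.D p r (dg a⁻¹) (dg b⁻¹)) * s * T *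
        Δ X.D p r (tv zero_ne_one2 y) (tv zero_ne_one2 y') := by rw [hTT, mul_one]
    _ = _ := by simp only [T, mul_assoc]

theorem nn_mono : ∃ (σ : SI → SI) (α : SI → F), Mono Φ (X.π (nn X.D p r)) σ α ∧
    σ (Sum.inl p) = Sum.inr p ∧ ∀ z, ix (σ z) = ix z := by
  obtain ⟨a1, a2⟩ := adm_signed hpr
  refine ⟨_, _, by rw [nn, Δ, map_mul]; exact (X.mono_w2 a1).mul (X.mono_w2 a2), ?_, fun z => ?_⟩
  · simp [wσ, hpr, hpr.symm]
  · by_cases h1 : ix z = p
    · rcases eq_inl_or_inr z with e | e <;> rw [show Sum.elim id id z = p from h1] at e <;> subst e <;>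
        simp [wσ, bar, hpr, hpr.symm]
    by_cases h2 : ix z = r
    · rcases eq_inl_or_inr z with e | e <;> rw [show Sum.elim id id z = r from h2] at e <;> subst e <;>
        simp [wσ, bar, hpr, hpr.symm]
    have n1 : ∀ a : SI, ix a = p ∨ ix a = r → z ≠ a := fun a ha q => by
      subst q; rcases ha with ha | ha; exacts [h1 ha, h2 ha]
    simp [wσ, bar, n1 (Sum.inl p) (.inl rfl), n1 (Sum.inr p) (.inl rfl), n1 (Sum.inl r) (.inr rfl),
      n1 (Sum.inr r) (.inr rfl)]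

theorem nn_norm : nn X.D p r ∈ Subgroup.normalizer (X.GS (p.val + 1) : Set Γ) := by
  obtain ⟨σ, α, hM, -, hσ⟩ := X.nn_mono hpr hr
  exact mem_normalizer_of (isOfFinOrder_of_finite _) fun x hx =>
    X.mono_conj_GS hM (fun z hz => by rw [hσ z]; exact hz) hx

theorem Q_core {q : Γ} (hq : q ∈ X.Qs p) (A B : SL2) : q * Δ X.D p r A B ∈ X.cell p r := by
  obtain ⟨x, W, c, y, hW, rfl⟩ := sl2_cases' A
  obtain ⟨x', W', c', y', hW', rfl⟩ := sl2_cases' B
  rw [← X.Δ_mul' hpr, ← X.Δ_mul' hpr, ← mul_assoc, ← mul_assoc]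
  refine X.cell_T hpr hr ?_ c c' y y'
  set q₁ := q * Δ X.D p r (tv zero_ne_one2 x) (tv zero_ne_one2 x') with hq1d
  have hq1 : q₁ ∈ X.Qs p := mul_mem hq (X.Δ_u_mem' hpr hr x x')
  obtain ⟨a1, a2⟩ := adm_signed hpr
  have hinv : (w2 : SL2)⁻¹ = dg (-1) * w2 := by
    refine inv_eq_of_mul_eq_one_left ?_
    rw [mul_assoc, w2_mul_self, ← map_mul, neg_mul_neg, one_mul, map_one]
  have half : ∀ (y0 : SI) (a : Adm (Sum.inl p : SI) y0) (W W' : SL2), ix y0 = r →
      (Δ X.D p r W W')⁻¹ = X.D.P (Sum.inl p) y0 w2⁻¹ → q₁ * Δ X.D p r W W' ∈ X.cell p r := by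
    intro y0 a W W' hy e
    obtain ⟨u, u', v, w, hw, hl, hr', eq⟩ := X.Qs_split hpr hr hq1
    obtain ⟨α, hM⟩ : ∃ α, Mono Φ (X.π (Δ X.D p r W W')⁻¹) (id ∘ wσ (Sum.inl p) y0) α :=
      ⟨_, by rw [e, hinv, map_mul, map_mul]; exact (X.mono_dg a (-1)).mul (X.mono_w2 a)⟩
    have h := X.conj_rest (r := r) hM hr (by simp [wσ, hy]) (fun b hb => ?_) hw hl hr'
    · refine ⟨1, one_mem _, tv zero_ne_one2 u * W, tv zero_ne_one2 u' * W', _, Subgroup.mem_sup_right h, ?_⟩
      rw [eq, ← X.Δ_mul' hpr]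
      group
    · have n1 : ∀ z : SI, (ix z).val ≤ r.val → b ≠ z ∧ b ≠ bar z := fun z hz =>
        ⟨fun q => by subst q; omega, fun q => by subst q; rw [show ix (bar z) = ix z from ix_bar z] at hb; omega⟩
      obtain ⟨m1, m2⟩ := n1 (Sum.inl p) (by simp; omega)
      obtain ⟨m3, m4⟩ := n1 y0 (by rw [hy])
      simp only [Function.comp_apply, id, wσ, if_neg m1, if_neg m2, if_neg m3, if_neg m4]
  have hΔinv : ∀ W W' : SL2, (Δ X.D p r W W')⁻¹ = Δ X.D p r W⁻¹ W'⁻¹ := fun W W' => by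
    refine inv_eq_of_mul_eq_one_right ?_
    rw [X.Δ_mul' hpr, mul_inv_cancel, mul_inv_cancel]; simp [Δ]
  rcases hW with rfl | rfl <;> rcases hW' with rfl | rfl
  · exact ⟨1, one_mem _, 1, 1, q₁, Subgroup.mem_sup_left hq1, by simp [Δ]⟩
  · exact half _ a2 1 w2 rfl (by rw [hΔinv]; simp [Δ])
  · exact half _ a1 w2 1 rfl (by rw [hΔinv]; simp [Δ])
  · obtain ⟨m, hm, u, u', e⟩ := X.Qs_reduce hpr hr hq1
    refine ⟨m, hm, tv zero_ne_one2 u * w2, tv zero_ne_one2 u' * w2, (nn X.D p r)⁻¹ * m⁻¹ * nn X.D p r,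
      Subgroup.mem_sup_right ((Subgroup.mem_normalizer_iff''.1 (X.nn_norm hpr hr) _).1 (inv_mem hm)), ?_⟩
    rw [e, ← X.Δ_mul' hpr, ← nn]
    group

theorem Q_cell {q g : Γ} (hq : q ∈ X.Qs p) (hg : g ∈ X.cell p r) : q * g ∈ X.cell p r := by
  obtain ⟨m, hm, A, B, s, hs, rfl⟩ := hg
  have e : q * (m * Δ X.D p r A B * s) = m * ((m⁻¹ * q * m) * Δ X.D p r A B) * s := by group
  rw [e]
  exact X.cell_S (X.M_cell hm (X.Q_core hpr hr (X.Qs_conj' p hm hq) A B)) hs

theorem nn_cell {g : Γ} (hg : g ∈ X.cell p r) : nn X.D p r * g ∈ X.cell p r := by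
  obtain ⟨m, hm, A, B, s, hs, rfl⟩ := hg
  refine ⟨nn X.D p r * m * (nn X.D p r)⁻¹, (Subgroup.mem_normalizer_iff.1 (X.nn_norm hpr hr) m).1 hm,
    w2 * A, w2 * B, s, hs, ?_⟩
  rw [← X.Δ_mul' hpr, ← nn]
  group

theorem GS_cell {x : Γ} (hx : x ∈ X.GS p.val) : ∀ g ∈ X.cell p r, x * g ∈ X.cell p r := by
  let L : Submonoid Γ :=
    { carrier := {x | ∀ g ∈ X.cell p r, x * g ∈ X.cell p r}
      one_mem' := fun g hg => by rwa [one_mul]
      mul_mem' := fun {a b} ha hb g hg => by rw [mul_assoc]; exact ha _ (hb g hg) }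
  have inv_L : ∀ {y : Γ}, y ∈ L → y⁻¹ ∈ L := fun {y} hy => by
    rw [inv_eq_of_mul_eq_one_right (b := y ^ (orderOf y - 1))
      (by rw [← pow_succ', Nat.sub_add_cancel (orderOf_pos y), pow_orderOf_eq_one])]
    exact pow_mem hy _
  let L' : Subgroup Γ := { L with inv_mem' := inv_L }
  suffices hle : X.GS p.val ≤ L' from hle hx
  have hM : ∀ y ∈ X.GS (p.val + 1), y ∈ L' := fun y hy g hg => X.M_cell hy hg
  have hQ : ∀ y ∈ X.Qs p, y ∈ L' := fun y hy g hg => X.Q_cell hpr hr hy hg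
  have hn : nn X.D p r ∈ L' := fun g hg => X.nn_cell hpr hr hg
  obtain ⟨σ, α, hM', hσp, hσix⟩ := X.nn_mono hpr hr
  refine X.GS_le (fun a b t hab ha hb => ?_) fun a w hw ha => ?_
  · have main : ∀ (a b : SI) (t : F), Adm a b → p.val ≤ (ix b).val → ix a = p → X.R a b t ∈ L' := by
      intro a b t hab hb hap
      have hne : (ix b).val ≠ p.val := fun e => hab.idx (show ix a = ix b by rw [hap]; exact (Fin.ext e).symm)
      rcases eq_inl_or_inr a with e | e <;> rw [show Sum.elim id id a = p from hap] at e <;> subst e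
      · refine hQ _ (X.R_mem_Qs' p ?_ t)
        simp [InW, sx, ix] at hne ⊢ hb; omega
      · obtain ⟨z, rfl⟩ := hM'.surj b
        rw [hσix z] at hb hne
        have hz : InW p z := by simp [InW, sx, ix] at hne ⊢ hb; omega
        have e := X.R_mono hM' hz.adm (-(t / (α z * α (Sum.inl p))))
        rw [hσp, mul_neg, mul_div_cancel₀ _ (mul_ne_zero (hM'.ne_zero _) (hM'.ne_zero _))] at e
        rw [X.R_swap hab.symm, ← e]
        exact mul_mem (mul_mem hn (hQ _ (X.R_mem_Qs p hz _))) (inv_mem hn)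
    by_cases h1 : ix a = p
    · exact main a b t hab hb h1
    by_cases h2 : ix b = p
    · rw [X.R_swap hab.symm]; exact main b a _ hab.symm ha h2
    have e1 : (ix a).val ≠ p.val := fun e => h1 (Fin.ext e)
    have e2 : (ix b).val ≠ p.val := fun e => h2 (Fin.ext e)
    exact hM _ (X.R_mem_GS hab (by omega) (by omega) t)
  · by_cases h1 : ix a = p
    · rcases eq_inl_or_inr a with e | e <;> rw [show Sum.elim id id a = p from h1] at e <;> subst e
      · exact hQ _ (X.S_mem_Qs p hw)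
      · have e := X.S_mono hM' (b := Sum.inl p) (hM'.off hw)
        have hsurj : ∃ w', Φ.Off w' ∧ α (Sum.inl p) • ap (X.π (nn X.D p r)) w' = w := by
          refine ⟨(α (Sum.inl p))⁻¹ • w, off_smul hw _, ?_⟩
          obtain ⟨a1, a2⟩ := adm_signed hpr
          rw [nn, Δ, map_mul, ap_mul, X.ap_P_off a2 _ (off_smul hw _), X.ap_P_off a1 _ (off_smul hw _),
            smul_smul, mul_inv_cancel₀ (hM'.ne_zero _), one_smul]
        obtain ⟨w', hw', ew⟩ := hsurj
        have e := X.S_mono hM' (b := Sum.inl p) hw'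
        rw [hσp, ew] at e
        rw [← e]
        exact mul_mem (mul_mem hn (hQ _ (X.S_mem_Qs p hw'))) (inv_mem hn)
    · have e1 : (ix a).val ≠ p.val := fun e => h1 (Fin.ext e)
      exact hM _ (X.S_mem_GS hw (by omega))

/-- The kernel goes down one index. -/
theorem step {w₀ : ι → F} (hw₀ : Φ.Off w₀) (hQ₀ : Q w₀ ≠ 0) (zc : Γ)
    (ih : ∀ g ∈ X.GS (p.val + 1), X.π g = 1 → g = 1 ∨ g = zc) {g : Γ} (hg : g ∈ X.GS p.val)
    (h1 : X.π g = 1) : g = 1 ∨ g = zc := by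
  have hone : (1 : Γ) ∈ X.cell p r := ⟨1, one_mem _, 1, 1, 1, one_mem _, by simp [Δ]⟩
  have hgc : g ∈ X.cell p r := by simpa using X.GS_cell hpr hr hg 1 hone
  obtain ⟨m, hm, A, B, s, hs, hgd⟩ := hgc
  obtain ⟨a1, a2⟩ := adm_signed hpr
  set e := Φ.v (Sum.inl p) with hed
  have hse : ap (X.π s) e = e := by
    obtain ⟨q, hq, m', hm', rfl⟩ := X.exists_of_ST p hs
    obtain ⟨v, w, hw, rfl⟩ := hq
    rw [map_mul, ap_mul, X.GS_fix hm' (by simp), X.π_Qs p v hw]
    have h : polar ⇑Q (Φ.v (Sum.inl p)) (sumv Φ (res p v) + w) = 0 := by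
      rw [pl_add_right, hw, add_zero, pl_sumv]; exact if_neg (not_InW_p p).2
    exact eich_ap_fix (Φ.sing _) h (pl_v_self _) (by rw [pl_comm Q, h])
  have hΔ : ap (X.π (Δ X.D p r A B)) e = e := by
    have : ap (X.π (m * Δ X.D p r A B * s)) e = e := by rw [← hgd, h1, ap_one]
    rw [map_mul, map_mul, ap_mul, hse, ap_mul] at this
    exact ap_inj (X.π m) (this.trans (X.GS_fix hm (by simp)).symm)
  have hb2 : X.D.P (Sum.inl p) (Sum.inl r) A = X.D.P (bar (Sum.inl p)) (bar (Sum.inl r)) (τ A) := by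
    have := X.D.P_bar X.hN a1 (τ A)
    rw [τ_τ] at this
    exact this.symm
  have hc := congrArg (coords Φ) hΔ
  rw [Δ, map_mul, ap_mul, hed, (X.ap_P a2 B).1, map_add, map_smul, map_smul, (X.ap_P a1 A).1, hb2,
    show (Sum.inr r : SI) = bar (Sum.inl r) from rfl, (X.ap_P a1.bars (τ A)).2, τ_two_coe] at hc
  simp only [map_add, map_smul, coords_v, bar, Sum.swap_inl] at hc
  have p1 := congrFun hc (Sum.inl p)
  have p2 := congrFun hc (Sum.inl r)
  have p3 := congrFun hc (Sum.inr r)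
  simp [ev, hpr, hpr.symm] at p1 p2 p3
  have hB00 : B.1 0 0 ≠ 0 := left_ne_zero_of_mul_eq_one p1
  have hA00 : A.1 0 0 ≠ 0 := right_ne_zero_of_mul_eq_one p1
  have a10 : A.1 1 0 = 0 := p2.resolve_left hB00
  have b10 : B.1 1 0 = 0 := p3.resolve_right hA00
  have hdA := A.2
  have hdB := B.2
  rw [Matrix.det_fin_two] at hdA hdB
  set a : Fˣ := Units.mk0 (A.1 0 0) hA00
  have eA : A = dg a * tv zero_ne_one2 (A.1 0 1 / A.1 0 0) := by
    apply sl2_ext <;>
      simp [a, Matrix.SpecialLinearGroup.coe_mul, dg_coe, tv_coe, Matrix.mul_apply, Fin.sum_univ_two,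
        Matrix.single_apply, a10] <;>
      grind
  have eB : B = dg a⁻¹ * tv zero_ne_one2 (B.1 0 1 / B.1 0 0) := by
    apply sl2_ext <;>
      simp [a, Matrix.SpecialLinearGroup.coe_mul, dg_coe, tv_coe, Matrix.mul_apply, Fin.sum_univ_two,
        Matrix.single_apply, b10] <;>
      grind
  have hΔS : Δ X.D p r A B ∈ X.ST p := by
    rw [eA, eB, ← X.Δ_mul' hpr]
    refine mul_mem (Subgroup.mem_sup_right ?_) (Subgroup.mem_sup_left (X.Δ_u_mem' hpr hr _ _))
    have := X.Tor_mem hpr hw₀ hQ₀ (j := p.val + 1) (by omega) a⁻¹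
    rwa [Tor, inv_inv] at this
  have hgS : g ∈ X.ST p := hgd ▸ mul_mem (mul_mem (Subgroup.mem_sup_right hm) hΔS) hs
  obtain ⟨q, hq, m', hm', rfl⟩ := X.exists_of_ST p hgS
  have hq1 : q = 1 := X.Qs_inj' p hq (by
    have : ap (X.π (q * m')) (Φ.v (bar (Sum.inl p))) = Φ.v (bar (Sum.inl p)) := by rw [h1, ap_one]
    rwa [map_mul, ap_mul, X.GS_fix hm' (by simp [bar])] at this)
  rw [hq1, one_mul] at h1 ⊢
  exact ih m' hm' h1

end Cell

/-! ### The last index -/

omit [Finite Γ] in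
theorem Tor_mul (hpr : p ≠ r) (c d : Fˣ) : X.Tor p r c * X.Tor p r d = X.Tor p r (c * d) := by
  rw [Tor, Tor, Tor, (X.P_comm' hpr _ _).symm.mul_mul_mul_comm, ← map_mul, ← map_mul, ← map_mul, ← map_mul,
    _root_.mul_inv_rev, mul_comm d⁻¹]

omit [Finite Γ] in
theorem Tor_mono (hpr : p ≠ r) (c : Fˣ) :
    ∃ α : SI → F, Mono Φ (X.π (X.Tor p r c)) id α ∧ α (Sum.inl r) = (c : F) * c ∧ α (Sum.inl p) = 1 := by
  obtain ⟨a1, a2⟩ := adm_signed hpr
  refine ⟨_, by rw [Tor, map_mul]; exact (X.mono_dg a1 c⁻¹).mul (X.mono_dg a2 c), ?_, ?_⟩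
  · simp [dgScalar, bar, hpr.symm]
  · simp [dgScalar]

omit [Finite Γ] in
theorem π_zz_one_of (hpr : p ≠ r) : X.π (zz X.D p r) = 1 := by
  rw [zz, map_mul, X.π_P (adm_signed hpr).1, X.π_P (adm_signed hpr).2, ← map_mul, orels_zz X.hN hpr, map_one]

/-- The kernel at the last index. -/
theorem base (hrN : r.val + 1 = N) (hpr : p ≠ r) {w₀ : ι → F} (hw₀ : Φ.Off w₀) (hQ₀ : Q w₀ ≠ 0)
    (hline : ∀ w, Φ.Off w → ∃ c : F, w = c • w₀) {g : Γ} (hg : g ∈ X.GS r.val) (h1 : X.π g = 1) :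
    g = 1 ∨ g = zz X.D p r := by
  set n := X.nS r w₀
  set T := X.Tor p r
  set Sl := fun w => X.S (Sum.inl r : SI) w
  let Y : Set Γ := {g | (∃ x c, Φ.Off x ∧ g = Sl x * T c) ∨
    ∃ x y c, Φ.Off x ∧ Φ.Off y ∧ g = Sl x * n * Sl y * T c}
  have h0 : Φ.Off (0 : ι → F) := fun a => pl_zero_right Q _
  have hTm : ∀ c d, T c * T d = T (c * d) := X.Tor_mul hpr
  have hT1 : T 1 = 1 := by simp [T, Tor]
  have hTinv : ∀ c, (T c)⁻¹ = T c⁻¹ := fun c =>
    inv_eq_of_mul_eq_one_right (by rw [hTm, mul_inv_cancel]; exact hT1)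
  have hTS : ∀ c y, Φ.Off y → ∃ y', Φ.Off y' ∧ T c * Sl y = Sl y' * T c := fun c y hy => by
    obtain ⟨α, hα, -, -⟩ := X.Tor_mono hpr c
    exact ⟨_, off_smul (hα.off hy) _, by
      show T c * X.S (Sum.inl r) y = _
      rw [← mul_inv_eq_iff_eq_mul]
      exact X.S_mono hα hy⟩
  have hnT : ∀ c, n * T c = T c⁻¹ * n := fun c => by
    rw [← mul_inv_eq_iff_eq_mul]
    show n * (X.D.P _ _ (dg c⁻¹) * X.D.P _ _ (dg c)) * n⁻¹ = T c⁻¹
    rw [show ∀ a b : Γ, n * (a * b) * n⁻¹ = n * a * n⁻¹ * (n * b * n⁻¹) from fun a b => by group,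
      (X.nS_conj hpr hw₀ hQ₀ c⁻¹).1, (X.nS_conj hpr hw₀ hQ₀ c).2]
    simp only [T, Tor, inv_inv]
    exact (X.P_comm' hpr _ _).symm.eq
  have hn2 : n * n = T (-1) := by
    have e := X.nS_smul hpr hw₀ hQ₀ (-1)
    rw [Units.val_neg, Units.val_one, neg_one_smul, X.nS_neg hw₀] at e
    have e' : n * n = (T (-1))⁻¹ := by
      rw [eq_inv_iff_mul_eq_one, mul_assoc]
      calc n * (n * T (-1)) = n * (T (-1)⁻¹ * n) := by rw [hnT]
        _ = 1 := by rw [inv_neg, inv_one, show T (-1) * n = n⁻¹ from e.symm, mul_inv_cancel]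
    rw [e', hTinv, inv_neg, inv_one]
  have hsurj : ∀ z, Φ.Off z → z ≠ 0 → ∃ (a : ι → F) (c : Fˣ), Φ.Off a ∧
      X.S (Sum.inr r) z = Sl a * T c * n * Sl a := fun z hz hz0 => by
    have hQz : Q z ≠ 0 := fun h => hz0 (Φ.aniso z hz h)
    set u := (Q z)⁻¹ • z
    have hu : Φ.Off u := off_smul hz _
    obtain ⟨c, hc⟩ := hline u hu
    have hc0 : c ≠ 0 := fun h => hz0 (by simpa [u, h, hQz] using hc)
    refine ⟨-u, Units.mk0 c hc0, off_neg hu, ?_⟩
    have e : (Q u)⁻¹ • u = z := by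
      simp only [u, Q_smul, smul_smul]
      rw [show ((Q z)⁻¹ * (Q z)⁻¹ * Q z)⁻¹ * (Q z)⁻¹ = 1 by field_simp, one_smul]
    have e2 : T (Units.mk0 c hc0) * n = X.nS r u := by
      rw [hc]; exact (X.nS_smul hpr hw₀ hQ₀ (Units.mk0 c hc0)).symm
    simp only [Sl, X.S_neg _ hu, mul_assoc _ (T _) n, e2, nS, e]
    group
  have hSY : ∀ a, Φ.Off a → ∀ g ∈ Y, Sl a * g ∈ Y := by
    intro a ha g hg
    rcases hg with ⟨x, c, hx, rfl⟩ | ⟨x, y, c, hx, hy, rfl⟩
    · exact .inl ⟨a + x, c, off_add ha hx, by simp only [Sl, X.S_add _ ha hx]; group⟩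
    · exact .inr ⟨a + x, y, c, off_add ha hx, hy, by simp only [Sl, X.S_add _ ha hx]; group⟩
  have hTY : ∀ d, ∀ g ∈ Y, T d * g ∈ Y := by
    intro d g hg
    rcases hg with ⟨x, c, hx, rfl⟩ | ⟨x, y, c, hx, hy, rfl⟩
    · obtain ⟨x', hx', e⟩ := hTS d x hx
      exact .inl ⟨x', d * c, hx', by rw [← hTm, ← mul_assoc, e, mul_assoc]⟩
    · obtain ⟨x', hx', e⟩ := hTS d x hx
      obtain ⟨y', hy', e'⟩ := hTS d⁻¹ y hy
      refine .inr ⟨x', y', d⁻¹ * c, hx', hy', ?_⟩
      calc T d * (Sl x * n * Sl y * T c) = (T d * Sl x) * n * Sl y * T c := by group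
        _ = Sl x' * (T d * n) * Sl y * T c := by rw [e]; group
        _ = Sl x' * (n * T d⁻¹) * Sl y * T c := by rw [hnT, inv_inv]
        _ = Sl x' * n * (T d⁻¹ * Sl y) * T c := by group
        _ = Sl x' * n * Sl y' * (T d⁻¹ * T c) := by rw [e']; group
        _ = _ := by rw [hTm]
  have hnY : ∀ g ∈ Y, n * g ∈ Y := by
    intro g hg
    rcases hg with ⟨x, c, hx, rfl⟩ | ⟨x, y, c, hx, hy, rfl⟩
    · exact .inr ⟨0, x, c, h0, hx, by simp only [Sl, X.S_zero]; group⟩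
    by_cases hx0 : x = 0
    · subst hx0
      simp only [Sl, X.S_zero, one_mul]
      rw [show n * (n * X.S (Sum.inl r) y * T c) = n * n * (X.S (Sum.inl r) y * T c) by group, hn2]
      exact hTY _ _ (.inl ⟨y, c, hy, rfl⟩)
    have hM := X.mono_nS (r := r) hw₀ hQ₀
    have e := X.S_mono hM (b := Sum.inl r) hx
    rw [show nσ r (Sum.inl r : SI) = Sum.inr r by simp [nσ, bar]] at e
    set z := nα r (Q w₀) (Sum.inl r) • ap (X.π (X.nS r w₀)) x
    have hz0 : z ≠ 0 := fun h => hx0 (by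
      rcases smul_eq_zero.1 h with h | h
      · exact absurd h (hM.ne_zero _)
      · exact ap_inj _ (h.trans (map_zero _).symm))
    obtain ⟨a, d, ha, ea⟩ := hsurj z (off_smul (hM.off hx) _) hz0
    obtain ⟨a', ha', e'⟩ := hTS (-1) y hy
    have hmem : T d * (Sl 0 * n * Sl (a + a') * T (-1 * c)) ∈ Y :=
      hTY _ _ (.inr ⟨0, a + a', -1 * c, h0, off_add ha ha', rfl⟩)
    have := hSY a ha _ hmem
    refine (show n * (Sl x * n * Sl y * T c) = _ from ?_) ▸ this
    calc n * (Sl x * n * Sl y * T c) = (n * Sl x * n⁻¹) * (n * n) * Sl y * T c := by group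
      _ = (Sl a * T d * n * Sl a) * (T (-1) * Sl y) * T c := by
        rw [show n * Sl x * n⁻¹ = Sl a * T d * n * Sl a from e.trans ea, hn2]; group
      _ = Sl a * (T d * (n * (Sl a * Sl a') * (T (-1) * T c))) := by rw [e']; group
      _ = _ := by rw [hTm]; simp only [Sl, ← X.S_add _ ha ha', X.S_zero]; group
  let L : Submonoid Γ :=
    { carrier := {x | ∀ g ∈ Y, x * g ∈ Y}
      one_mem' := fun g hg => by rwa [one_mul]
      mul_mem' := fun {a b} ha hb g hg => by rw [mul_assoc]; exact ha _ (hb g hg) }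
  have inv_L : ∀ {y : Γ}, y ∈ L → y⁻¹ ∈ L := fun {y} hy => by
    rw [inv_eq_of_mul_eq_one_right (b := y ^ (orderOf y - 1))
      (by rw [← pow_succ', Nat.sub_add_cancel (orderOf_pos y), pow_orderOf_eq_one])]
    exact pow_mem hy _
  let L' : Subgroup Γ := { L with inv_mem' := inv_L }
  have hle : X.GS r.val ≤ L' := by
    have hS : ∀ a, Φ.Off a → Sl a ∈ L' := fun a ha g hg => hSY a ha g hg
    have hcase : ∀ a : SI, r.val ≤ (ix a).val → ix a = r := fun a ha => Fin.ext (by have := (ix a).2; omega)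
    refine X.GS_le (fun a b t hab ha hb => absurd ((hcase a ha).trans (hcase b hb).symm) hab.idx)
      fun a w hw ha => ?_
    rcases eq_inl_or_inr a with e | e <;> rw [show Sum.elim id id a = r from hcase a ha] at e <;> subst e
    · exact hS w hw
    · rcases eq_or_ne w 0 with rfl | hw0
      · rw [X.S_zero]; exact one_mem _
      obtain ⟨a, c, ha', e⟩ := hsurj w hw hw0
      rw [e]
      exact mul_mem (mul_mem (mul_mem (hS a ha') (fun g hg => hTY c g hg)) (fun g hg => hnY g hg)) (hS a ha')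
  have hgY : g ∈ Y := by
    have := hle hg 1 (.inl ⟨0, 1, h0, by simp [Sl, X.S_zero, hT1]⟩)
    rwa [mul_one] at this
  have hg1 : ∀ x, ap (X.π g) x = x := fun x => by rw [h1, ap_one]
  have hee : ∀ w, Φ.Off w → ap (X.π (Sl w)) (Φ.v (Sum.inl r)) = Φ.v (Sum.inl r) := fun w hw => by
    rw [X.π_S hw]; exact eich_ap_fix (Φ.sing _) (hw _) (pl_v_self _) (Φ.off_pl hw _)
  have hTe : ∀ c, ap (X.π (T c)) (Φ.v (Sum.inl r)) = ((c : F) * c) • Φ.v (Sum.inl r) := fun c => by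
    obtain ⟨α, hα, e, -⟩ := X.Tor_mono hpr c
    rw [hα.act, e]; rfl
  have he := hg1 (Φ.v (Sum.inl r))
  rcases hgY with ⟨x, c, hx, rfl⟩ | ⟨x, y, c, hx, hy, rfl⟩
  · rw [map_mul, ap_mul, hTe, map_smul, hee x hx] at he
    have hc : (c : F) * c = 1 := by
      have := congrFun (congrArg (coords Φ) he) (Sum.inl r)
      simpa [coords_v, ev] using this
    have hc' : c = 1 ∨ c = -1 := by
      rcases mul_self_eq_one_iff.1 hc with h | h
      · exact .inl (Units.ext h)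
      · exact .inr (Units.ext h)
    have hzz : T (-1) = zz X.D p r := by
      simp only [T, Tor, zz, negOne_eq_dg, inv_neg, inv_one]
    have hT : X.π (T c) = 1 := by
      rcases hc' with rfl | rfl
      · rw [hT1, map_one]
      · rw [hzz, X.π_zz_one_of hpr]
    have hx1 : x = 0 := by
      rw [map_mul, hT, mul_one, X.π_S hx] at h1
      have hf := congrArg (fun k => ap k (Φ.v (Sum.inr r))) h1
      rw [eich_ap (Φ.sing _) (hx _), ap_one, show polar ⇑Q (Φ.v (Sum.inl r)) (Φ.v (Sum.inr r)) = 1 from pl_vbar _,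
        Φ.off_pl hx, one_smul, zero_add, mul_one] at hf
      have h := congrArg Φ.proj hf
      have pv : ∀ a : SI, Φ.proj (Φ.v a) = 0 := fun a => by rw [← sumv_ev, proj_sumv]
      have px : Φ.proj x = x := by
        have := decomp' Φ x
        rw [coords_off Φ hx, map_zero, zero_add] at this
        exact this.symm
      simpa [map_sub, map_add, map_smul, pv, px] using h
    subst hx1
    simp only [Sl, X.S_zero, one_mul]
    rcases hc' with rfl | rfl
    · exact .inl hT1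
    · exact .inr hzz
  · exfalso
    rw [map_mul, map_mul, map_mul, ap_mul, ap_mul, ap_mul, hTe, map_smul, hee y hy, map_smul,
      (X.mono_nS (r := r) hw₀ hQ₀).act, map_smul, map_smul,
      show nσ r (Sum.inl r : SI) = Sum.inr r by simp [nσ, bar], X.π_S hx] at he
    have h := congrFun (congrArg (coords Φ) he) (Sum.inr r)
    rw [eich_ap (Φ.sing _) (hx _)] at h
    simp [coords_v, coords_off Φ hx, ev, nα, hQ₀] at h

/-- The kernel on the values, from the kernel at the last index. -/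
theorem kernel_of_base {w₀ : ι → F} (hw₀ : Φ.Off w₀) (hQ₀ : Q w₀ ≠ 0) {r₀ : Fin N} (hrN : r₀.val + 1 = N)
    {zc : Γ} (hbase : ∀ g ∈ X.GS r₀.val, X.π g = 1 → g = 1 ∨ g = zc) :
    ∀ g ∈ X.GS 0, X.π g = 1 → g = 1 ∨ g = zc := by
  have key : ∀ i, i + 1 ≤ N → ∀ g ∈ X.GS (N - 1 - i), X.π g = 1 → g = 1 ∨ g = zc := by
    intro i
    induction i with
    | zero =>
      intro _ g hg h1
      rw [show N - 1 - 0 = r₀.val by omega] at hg
      exact hbase g hg h1
    | succ i ih =>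
      intro hi g hg h1
      let p : Fin N := ⟨N - 1 - (i + 1), by omega⟩
      let r : Fin N := ⟨N - 1 - i, by omega⟩
      have hr : r.val = p.val + 1 := by simp [p, r]; omega
      refine X.step (p := p) (r := r) (fun e => by rw [e] at hr; omega) hr hw₀ hQ₀ _
        (fun g hg h1 => ih (by omega) g ?_ h1) hg h1
      rwa [show N - 1 - i = p.val + 1 by simp [p]; omega]
  have := X.hN
  have h := key (N - 1) (by omega)
  rwa [Nat.sub_self] at h

/-- The kernel on the values. -/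
theorem kernel {w₀ : ι → F} (hw₀ : Φ.Off w₀) (hQ₀ : Q w₀ ≠ 0)
    (hline : ∀ w, Φ.Off w → ∃ c : F, w = c • w₀) {p₀ r₀ : Fin N} (hpN : p₀.val + 2 = N) (hrN : r₀.val + 1 = N) :
    ∀ g ∈ X.GS 0, X.π g = 1 → g = 1 ∨ g = zz X.D p₀ r₀ :=
  X.kernel_of_base hw₀ hQ₀ hrN fun _ hg h1 =>
    X.base hrN (fun e => by rw [e] at hpN; omega) hw₀ hQ₀ hline hg h1

end Ext

end Cfsg.Agent.OrthMult
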