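/-
Schur multipliers from a split cover, with the group of the kernel given.

* `hasMultiplier_of_lifts`; `preimage_center_le`: a central extension of a perfect group keeps centres central.
-/
import Cfsg.Agent.Lib.ChevSt.Multiplier
import Cfsg.Agent.Lib.PGroup.Power
import Cfsg.Agent.Lib.CentralExt.Basic

set_option autoImplicit false

open scoped commutatorElement

universe u v

namespace Cfsg.Agent.OrthMult

theorem hasMultiplier_of_lifts {Δ G : Type u} [Group Δ] [Group G] [Finite Δ] {A : Type v} [CommGroup A]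
    (θ : Δ →* G) (hθ : Function.Surjective θ) (hc : θ.ker ≤ Subgroup.center Δ) (hperf : commutator Δ = ⊤)
    (hsplit : ChevSt.Splits Δ) (e : A ≃* θ.ker) : HasSchurMultiplier G A := by
  refine ⟨⟨Δ, inferInstance, inferInstance, θ, ⟨hθ, hc, by rw [hperf]; exact le_top⟩, ⟨e.symm⟩⟩, ?_⟩
  rintro Γ _ _ σ ⟨hσ, hcσ, hσc⟩
  obtain ⟨f, hf⟩ := ChevSt.lift_of_split hsplit θ σ hσ hcσ
  have hle : commutator Γ ≤ f.range := by
    refine (CentralExt.commutator_le_of_mul_center (K := f.range) fun g => ?_).trans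
      (Subgroup.commutator_le.2 fun a ha b hb => by
        rw [commutatorElement_def]; exact mul_mem (mul_mem (mul_mem ha hb) (inv_mem ha)) (inv_mem hb))
    obtain ⟨d, hd⟩ := hθ (σ g)
    exact ⟨f d, ⟨d, rfl⟩, hcσ (by
      rw [MonoidHom.mem_ker, map_mul, map_inv, ← MonoidHom.comp_apply, hf, hd, inv_mul_cancel])⟩
  let g : θ.ker →* σ.ker := (f.comp θ.ker.subtype).codRestrict σ.ker fun k => by
    rw [MonoidHom.mem_ker, ← MonoidHom.comp_apply, ← MonoidHom.comp_assoc, hf]
    exact k.2
  refine ⟨g.comp e.toMonoidHom, fun z => ?_⟩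
  obtain ⟨d, hd⟩ := hle (hσc z.2)
  have hdk : d ∈ θ.ker := by rw [MonoidHom.mem_ker, ← hf, MonoidHom.comp_apply, hd]; exact z.2
  refine ⟨e.symm ⟨d, hdk⟩, ?_⟩
  rw [MonoidHom.comp_apply, MulEquiv.coe_toMonoidHom, e.apply_symm_apply]
  exact Subtype.ext hd

variable {L G : Type*} [Group L] [Group G]

theorem preimage_center_le {f : L →* G} (hc : f.ker ≤ Subgroup.center L) (hperf : commutator L = ⊤) {x : L}
    (hx : ∀ y, Commute (f x) (f y)) : x ∈ Subgroup.center L := by
  have hdiff : ∀ y, ⁅x, y⁆ ∈ f.ker := fun y => by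
    rw [MonoidHom.mem_ker, map_commutatorElement, commutatorElement_eq_one_iff_commute]
    exact hx y
  let χ : L →* L := MonoidHom.mk' (fun y => ⁅x, y⁆) fun y y' =>
    PGroup.commutator_mul_right (Subgroup.mem_center_iff.1 (hc (hdiff y')) y)
  have hcomm : commutator L ≤ χ.ker := by
    rw [commutator_def, Subgroup.commutator_le]
    intro a _ b _
    rw [MonoidHom.mem_ker, map_commutatorElement, commutatorElement_eq_one_iff_commute]
    exact Subgroup.mem_center_iff.1 (hc (hdiff b)) _
  rw [hperf] at hcomm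
  exact Subgroup.mem_center_iff.2 fun y =>
    (commutatorElement_eq_one_iff_commute.1 (hcomm (Subgroup.mem_top y))).symm.eq

end Cfsg.Agent.OrthMult
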