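/-
Maps of central extensions of orthogonal groups with a frame.

* `Ext.map_R`, `Ext.map_S`; `Ext.omega_le_map`: the values generate Ω below; `Ext.derived`: the derived group.
* `Ext.splits`: with the kernel bound and `zz ≠ 1` (or characteristic two) a perfect extension has no proper central extension.
-/
import Cfsg.Agent.Lib.OrthMult.CellStep
import Cfsg.Agent.Lib.OrthMult.Cover

set_option autoImplicit false
set_option linter.unusedSectionVars false

open Matrix
open QuadraticMap (polar)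
open scoped commutatorElement

namespace Cfsg.Agent.OrthMult

open CurtisTitsA CurtisTitsD
open Cfsg.Agent.Orth hiding quadPlus
open Cfsg.Agent.OrthAct (quadPlus)
open Cfsg.Agent.OrthBN (OFrame)

universe u

variable {F : Type u} [Field F] [Fintype F] {ι : Type} [Fintype ι] [DecidableEq ι] {N : ℕ}
  {Q : QuadraticForm F (ι → F)} {Φ : OFrame Q N}

local notation "SI" => (Fin N ⊕ Fin N)

theorem two_mul_le_card (Φ : OFrame Q N) : 2 * N ≤ Fintype.card ι := by
  have := LinearMap.finrank_le_finrank_of_injective (f := sumv Φ)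
    (fun c d e => by rw [← coords_sumv Φ c, ← coords_sumv Φ d, e])
  simp at this
  omega

namespace Ext

variable {Γ Γ' : Type u} [Group Γ] [Group Γ'] (X : Ext Φ Γ) (Y : Ext Φ Γ') (f : Γ' →* Γ)

theorem map_R (hf : ∀ g, X.π (f g) = Y.π g) {a b : SI} (h : Adm a b) (t : F) : f (Y.R a b t) = X.R a b t := by
  obtain ⟨c, hc1, hc2⟩ := exists_ix2 X.hN a b
  have h1 : Adm a c := Adm.of_idx (Ne.symm hc1)
  have h2 : Adm (bar c) b := Adm.of_idx fun q => hc2 ((ix_bar c).symm.trans q)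
  have eX := X.D.mid a c b t 1 h1 h2 h
  have eY := Y.D.mid a c b t 1 h1 h2 h
  rw [mul_one] at eX eY
  show f (Y.D.R a b t) = X.D.R a b t
  rw [← eX, ← eY, map_commutatorElement]
  exact X.comm_congr (by rw [hf]; exact (Y.π_R h1 t).trans (X.π_R h1 t).symm)
    (by rw [hf]; exact (Y.π_R h2 1).trans (X.π_R h2 1).symm)

theorem map_S (hf : ∀ g, X.π (f g) = Y.π g) (b : SI) {w : ι → F} (hw : Φ.Off w) : f (Y.S b w) = X.S b w := by
  obtain ⟨a, ha⟩ := exists_adm b X
  rw [X.S_eq ha hw, Y.S_eq ha hw, S₀, S₀, map_mul, map_commutatorElement, map_R X Y f hf ha,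
    map_R X Y f hf ha.symm.bar_right]
  congr 1
  exact X.comm_congr rfl (by rw [hf, Y.π_L, X.π_L])

theorem GS_le_map (hf : ∀ g, X.π (f g) = Y.π g) (j : ℕ) : X.GS j ≤ (Y.GS j).map f :=
  X.GS_le (fun _ _ t h ha hb => ⟨_, Y.R_mem_GS h ha hb t, map_R X Y f hf h t⟩)
    fun a _ hw ha => ⟨_, Y.S_mem_GS hw ha, map_S X Y f hf a hw⟩

theorem map_zz' (hf : ∀ g, X.π (f g) = Y.π g) {p r : Fin N} (h : p ≠ r) : f (zz Y.D p r) = zz X.D p r :=
  map_zz Y.D X.hN f X.D (fun _ _ t h => map_R X Y f hf h t) h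

theorem omega_le_map : Omega F ⇑Q ≤ (X.GS 0).map X.π := by
  have hN := X.hN
  let i0 : Fin N := ⟨0, by omega⟩
  let i1 : Fin N := ⟨1, by omega⟩
  have hp : ∀ i : Fin N, HPair Q (Φ.v (Sum.inl i)) (Φ.v (Sum.inr i)) := fun i =>
    ⟨Φ.sing _, Φ.sing _, pl_vbar _⟩
  have hperp : ∀ a : SI, ix a = i1 → Φ.v a ∈ perp Q (Φ.v (Sum.inl i0)) (Φ.v (Sum.inr i0)) := by
    intro a ha
    have : ∀ c : SI, ix c = i0 → Adm c a := fun c hc =>
      Adm.of_idx (by show ix c ≠ ix a; rw [hc, ha]; simp [i0, i1])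
    exact mem_perp.2 ⟨adm_pl (this _ rfl), adm_pl (this _ rfl)⟩
  have hG : Orth.Good Q := ⟨Φ.nd, Or.inr (by have := two_mul_le_card Φ; omega)⟩
  refine (ChevOrth.omega_le_eichPair hG (hp i0) (hp i1) (hperp _ rfl) (hperp _ rfl) (by
    have := two_mul_le_card Φ; omega)).trans ?_
  rw [eichPair, Subgroup.closure_le]
  rintro _ ⟨w, hw, rfl | rfl⟩ <;>
  · obtain ⟨w1, w2⟩ := mem_perp.1 hw
    refine X.eich_mem_map (Nat.zero_le _) fun z hz => ?_
    rcases hz with hz | hz
    · simp at hz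
    rw [coords_apply]
    rcases z with z | z <;> simp only [Sum.elim_inl, Sum.elim_inr, id_eq] at hz <;> subst hz <;> assumption

theorem map_commutator_π (hperf : Omega F ⇑Q ≤ ⁅Omega F ⇑Q, Omega F ⇑Q⁆) :
    (commutator Γ).map X.π = Omega F ⇑Q := by
  rw [commutator_def, Subgroup.map_commutator, ← MonoidHom.range_eq_map, X.range_eq]
  exact le_antisymm (Subgroup.commutator_le_self _) hperf

/-- The derived group of an extension of a perfect Ω. -/
def derived (hperf : Omega F ⇑Q ≤ ⁅Omega F ⇑Q, Omega F ⇑Q⁆) : Ext Φ (commutator Γ) where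
  π := X.π.comp (commutator Γ).subtype
  range_eq := by rw [MonoidHom.range_comp, Subgroup.range_subtype]; exact X.map_commutator_π hperf
  central x hx := Subgroup.mem_center_iff.2 fun y => Subtype.ext
    (Subgroup.mem_center_iff.1 (X.central (show X.π x.1 = 1 from hx)) y.1)
  hN := X.hN
  rels := X.rels.imp id fun h => ⟨h.1, h.2.1, fun a x y w hw h1 h2 h3 s g k hg hk =>
    Subtype.ext (h.2.2 a x y w hw h1 h2 h3 s g.1 k.1 hg hk).eq⟩
  eich_mem := X.eich_mem

theorem derived_perfect (X : Ext Φ Γ) (hperf : Omega F ⇑Q ≤ ⁅Omega F ⇑Q, Omega F ⇑Q⁆) : commutator (commutator Γ) = ⊤ :=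
  Group.isPerfect_def.1 (CentralExt.isPerfect_of_mul_center (fun g => by
    obtain ⟨k, hk, e⟩ : X.π g ∈ (commutator Γ).map X.π := by
      rw [X.map_commutator_π hperf, ← X.range_eq]; exact ⟨g, rfl⟩
    exact ⟨k, hk, X.central (by rw [MonoidHom.mem_ker, map_mul, map_inv, e, inv_mul_cancel])⟩) rfl)

theorem finite_derived (X : Ext Φ Γ) : Finite (commutator Γ) :=
  CentralExt.finite_commutator_of_ker_le_center X.π X.central

theorem GS_eq_top (hperf : commutator Γ = ⊤) : X.GS 0 = ⊤ := by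
  refine top_le_iff.1 (hperf ▸ (CentralExt.commutator_le_of_mul_center fun g => ?_).trans
    (Subgroup.commutator_le_self _))
  obtain ⟨k, hk, e⟩ : X.π g ∈ (X.GS 0).map X.π := X.omega_le_map (by rw [← X.range_eq]; exact ⟨g, rfl⟩)
  exact ⟨k, hk, X.central (by rw [MonoidHom.mem_ker, map_mul, map_inv, e, inv_mul_cancel])⟩

/-- The kernel on the values is inside `{1, zz}`. -/
def _root_.Cfsg.Agent.OrthMult.KerTwo (Φ : OFrame Q N) (p₀ r₀ : Fin N) : Prop :=
  ∀ (Γ : Type u) [Group Γ] [Finite Γ] (X : Ext Φ Γ),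
    ∀ g ∈ X.GS 0, X.π g = 1 → g = 1 ∨ g = zz X.D p₀ r₀

theorem kerTwo_line {w₀ : ι → F} (hw₀ : Φ.Off w₀) (hQ₀ : Q w₀ ≠ 0) (hline : ∀ w, Φ.Off w → ∃ c : F, w = c • w₀)
    {p₀ r₀ : Fin N} (hpN : p₀.val + 2 = N) (hrN : r₀.val + 1 = N) : KerTwo Φ p₀ r₀ :=
  fun _ _ _ X => X.kernel hw₀ hQ₀ hline hpN hrN

section Two

variable {p₀ r₀ : Fin N} (hK : KerTwo Φ p₀ r₀)

include hK

theorem ker_two [Finite Γ] (hperf : commutator Γ = ⊤) {g : Γ} (hg : X.π g = 1) :
    g = 1 ∨ g = zz X.D p₀ r₀ :=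
  hK Γ X g (X.GS_eq_top hperf ▸ Subgroup.mem_top g) hg

theorem splits [Finite Γ] (hperf : commutator Γ = ⊤) (hpr : p₀ ≠ r₀)
    (hz : zz X.D p₀ r₀ = 1 → (2 : F) = 0) (rels : Rels Φ) : ChevSt.Splits Γ := by
  intro L _ p hp hc
  let L₁ := commutator L
  have hfin : Finite L₁ := CentralExt.finite_commutator_of_ker_le_center p hc
  let p₁ : L₁ →* Γ := p.comp L₁.subtype
  have hmap : L₁.map p = ⊤ := by
    show (commutator L).map p = ⊤
    rw [commutator_def, Subgroup.map_commutator, ← MonoidHom.range_eq_map,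
      MonoidHom.range_eq_top.2 hp, ← commutator_def, hperf]
  have hp₁ : Function.Surjective p₁ := fun x => by
    obtain ⟨y, hy, rfl⟩ := (hmap ▸ Subgroup.mem_top x : x ∈ L₁.map p)
    exact ⟨⟨y, hy⟩, rfl⟩
  have hperf₁ : commutator L₁ = ⊤ := Group.isPerfect_def.1 (CentralExt.isPerfect_of_mul_center (fun g => by
    obtain ⟨k, hk⟩ := hp₁ (p g)
    exact ⟨k.1, k.2, hc (by
      rw [MonoidHom.mem_ker, map_mul, map_inv, show p k.1 = p g from hk, inv_mul_cancel])⟩) rfl)
  have hc₁ : p₁.ker ≤ Subgroup.center L₁ := fun x hx => Subgroup.mem_center_iff.2 fun y => Subtype.ext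
    (Subgroup.mem_center_iff.1 (hc (show p x.1 = 1 from hx)) y.1)
  let Y : Ext Φ L₁ :=
    { π := X.π.comp p₁
      range_eq := by rw [MonoidHom.range_comp, MonoidHom.range_eq_top.2 hp₁, ← MonoidHom.range_eq_map, X.range_eq]
      central := fun x hx => preimage_center_le hc₁ hperf₁ fun y =>
        (Subgroup.mem_center_iff.1 (X.central (show X.π (p₁ x) = 1 from hx)) _).symm
      hN := X.hN
      rels := .inl rels
      eich_mem := X.eich_mem }
  let e : Y.GS 0 →* Γ := p₁.comp (Y.GS 0).subtype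
  have hinj : Function.Injective e := by
    refine (injective_iff_map_eq_one e).2 fun g hg => ?_
    rcases hK L₁ Y g.1 g.2 (show X.π (p₁ g.1) = 1 by
      rw [show p₁ g.1 = 1 from hg, map_one]) with h | h
    · exact Subtype.ext h
    · refine Subtype.ext (h.trans (zz_eq_one_of_two (hz ?_) _ _ _))
      rw [← map_zz' X Y p₁ (fun _ => rfl) hpr, ← h]
      exact hg
  have hsurj : Function.Surjective e := fun x => by
    obtain ⟨y, hy, rfl⟩ := GS_le_map X Y p₁ (fun _ => rfl) 0 (X.GS_eq_top hperf ▸ Subgroup.mem_top x)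
    exact ⟨⟨y, hy⟩, rfl⟩
  let E := MulEquiv.ofBijective e ⟨hinj, hsurj⟩
  exact ⟨(L₁.subtype.comp (Y.GS 0).subtype).comp E.symm.toMonoidHom,
    MonoidHom.ext fun x => E.apply_symm_apply x⟩

end Two

end Ext

end Cfsg.Agent.OrthMult
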