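/-
The spin model of type D_N in the units of the Clifford algebra.

* `spinRels`: the values `1 + t e_a e_b`; `zz_spin`: the product of the two involutions is `-1`.
-/
import Cfsg.Agent.Lib.OrthMult.Kernel
import Mathlib.LinearAlgebra.CliffordAlgebra.Contraction

set_option autoImplicit false

open Matrix
open QuadraticMap (polar)
open scoped commutatorElement

namespace Cfsg.Agent.OrthMult

open CurtisTitsA CurtisTitsD
open Cfsg.Agent.OrthAct (quadPlus)

variable {F : Type*} [Field F] {N : ℕ}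

local notation "SI" => (Fin N ⊕ Fin N)
local notation "CA" => CliffordAlgebra (quadPlus N F)

section Ring

variable {A : Type*} [Ring A] [Algebra F A]

theorem anti_pair {a b c : A} (h1 : a * c = -(c * a)) (h2 : b * c = -(c * b)) : a * b * c = c * (a * b) := by
  rw [mul_assoc, h2, mul_neg, ← mul_assoc, h1, neg_mul, neg_neg, mul_assoc]

theorem pair_sq {a b : A} (ha : a * a = 0) (h : b * a = -(a * b)) : a * b * (a * b) = 0 := by
  rw [mul_assoc, ← mul_assoc b a b, h, neg_mul, mul_neg, mul_assoc, ← mul_assoc a a, ha, zero_mul, neg_zero]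

theorem pair_left {a b c : A} (ha : a * a = 0) (h : b * a = -(a * b)) : a * b * (a * c) = 0 := by
  rw [mul_assoc, ← mul_assoc b a c, h, neg_mul, mul_neg, mul_assoc, ← mul_assoc a a, ha, zero_mul, neg_zero]

/-- The unit `1 + t P` of a square-zero element. -/
def nilUnit (P : A) (hP : P * P = 0) (t : F) : Aˣ where
  val := 1 + t • P
  inv := 1 - t • P
  val_inv := by rw [add_mul, one_mul, mul_sub, mul_one, smul_mul_smul_comm, hP, smul_zero]; abel
  inv_val := by rw [sub_mul, one_mul, mul_add, mul_one, smul_mul_smul_comm, hP, smul_zero]; abel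

theorem nil_comm {P Q C : A} (hC : P * Q - Q * P = C) (hP : P * P = 0) (hQ : Q * Q = 0) (h1 : P * Q * P = 0)
    (h2 : C * Q = 0) (t u : F) :
    (1 + t • P) * (1 + u • Q) * (1 - t • P) * (1 - u • Q) = 1 + (t * u) • C := by
  subst hC
  set C := P * Q - Q * P with hC
  have e1 : (1 + t • P) * (1 + u • Q) * (1 - t • P) = 1 + u • Q + (t * u) • C := by
    simp only [hC, add_mul, mul_add, mul_sub, one_mul, mul_one, smul_mul_smul_comm, hP, h1, smul_zero, smul_sub]
    rw [mul_comm u t]; abel
  rw [e1]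
  simp only [add_mul, mul_sub, one_mul, mul_one, smul_mul_smul_comm, hQ, h2, smul_zero]
  abel

theorem weyl_sq {U L : A} {p q : A} (hU : U * U = 0) (hL : L * L = 0) (hUL : U * L = -(p * (1 - q)))
    (hLU : L * U = -((1 - p) * q)) (hULU : U * L * U = -U) (hLUL : L * U * L = -L)
    (hp : p * p = p) (hq : q * q = q) (hc : p * q = q * p) :
    ((1 + U) * (1 + L) * (1 + U)) * ((1 + U) * (1 + L) * (1 + U)) = (1 - 2 * p) * (1 - 2 * q) := by
  set e := p * (1 - q) + (1 - p) * q with he
  have hw : (1 + U) * (1 + L) * (1 + U) = (1 - e) + (U + L) := by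
    have h0 : (1 + U) * (1 + L) * (1 + U) = 1 + U * L + L * U + U * U + U + U + L + U * L * U := by
      simp only [add_mul, mul_add, one_mul, mul_one, mul_assoc]
      abel
    rw [h0, hU, hULU, hUL, hLU, he]
    abel
  have heU : e * U = U ∧ U * e = U ∧ e * L = L ∧ L * e = L := by
    have e1 : e = -(U * L) - L * U := by rw [hUL, hLU, he]; abel
    refine ⟨?_, ?_, ?_, ?_⟩
    · rw [e1, sub_mul, neg_mul, hULU, mul_assoc L U U, hU, mul_zero]; simp
    · rw [e1, mul_sub, mul_neg, ← mul_assoc U U, hU, zero_mul, ← mul_assoc U L U, hULU]; simp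
    · rw [e1, sub_mul, neg_mul, mul_assoc U L L, hL, mul_zero, hLUL]; simp
    · rw [e1, mul_sub, mul_neg, ← mul_assoc L U L, hLUL, ← mul_assoc L L, hL, zero_mul]; simp
  have hee : e * e = e := by
    have pe : p * e = p - p * q := by
      rw [he, mul_add, ← mul_assoc, hp, mul_sub, mul_one, sub_mul, one_mul, mul_sub, ← mul_assoc, hp]
      abel
    have qe : q * e = q - p * q := by
      rw [he, mul_add, ← mul_assoc, ← mul_assoc, mul_sub, mul_sub, mul_one, mul_one, sub_mul, ← hc,
        mul_assoc p q q, hq]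
      abel
    calc e * e = (p + q - p * q - p * q) * e := by
          congr 1; rw [he, mul_sub, mul_one, sub_mul, one_mul]; abel
      _ = (p - p * q) + (q - p * q) - p * (q * e) - p * (q * e) := by
          rw [sub_mul, sub_mul, add_mul, pe, qe, mul_assoc, qe]
      _ = e := by
          rw [qe, mul_sub, ← mul_assoc, hp, he, mul_sub, mul_one, sub_mul, one_mul]; abel
  rw [hw]
  calc (1 - e + (U + L)) * (1 - e + (U + L))
      = 1 - e - e + e * e + ((U - e * U) + (L - e * L)) + ((U - U * e) + (L - L * e)) +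
          (U * U + U * L + L * U + L * L) := by
        simp only [add_mul, mul_add, sub_mul, mul_sub, one_mul, mul_one]
        abel
    _ = 1 - e - e + e + (U * L + L * U) := by rw [hee, heU.1, heU.2.1, heU.2.2.1, heU.2.2.2, hU, hL]; abel
    _ = (1 - 2 * p) * (1 - 2 * q) := by
        rw [hUL, hLU, he, two_mul, two_mul]
        simp only [sub_mul, mul_sub, add_mul, mul_add, one_mul, mul_one]
        abel

end Ring

/-- The generators. -/
noncomputable def γ (a : SI) : CA := CliffordAlgebra.ι _ (ev F a)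

theorem γ_sq (a : SI) : (γ a : CA) * γ a = 0 := by
  rw [γ, CliffordAlgebra.ι_sq_scalar, Q_ev', map_zero]

theorem γ_anti {a b : SI} (h : b ≠ bar a) : (γ b : CA) * γ a = -(γ a * γ b) := by
  rw [eq_neg_iff_add_eq_zero, add_comm, γ, γ, CliffordAlgebra.ι_mul_ι_add_swap, polar_ev, if_neg h, map_zero]

theorem γ_pair (a : SI) : (γ a : CA) * γ (bar a) + γ (bar a) * γ a = 1 := by
  rw [γ, γ, CliffordAlgebra.ι_mul_ι_add_swap, polar_ev, if_pos rfl, map_one]

theorem γ_anti' {a b : SI} (h : a ≠ bar b) : (γ b : CA) * γ a = -(γ a * γ b) :=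
  γ_anti fun e => h (by rw [e, bar_bar])

theorem sq_of_adm {a b : SI} (h : Adm a b) : (γ a * γ b : CA) * (γ a * γ b) = 0 :=
  pair_sq (γ_sq a) (γ_anti' h.2)

open Classical in
/-- The values in the units. -/
noncomputable def spinR (a b : SI) (t : F) : CAˣ :=
  if h : Adm a b then nilUnit (γ a * γ b : CA) (sq_of_adm h) t else 1

theorem spinR_val {a b : SI} (h : Adm a b) (t : F) : (spinR a b t : CA) = 1 + t • (γ a * γ b : CA) := by
  rw [spinR, dif_pos h]; rfl

theorem spinR_inv {a b : SI} (h : Adm a b) (t : F) :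
    (((spinR a b t : CAˣ)⁻¹ : CAˣ) : CA) = 1 - t • (γ a * γ b : CA) := by
  rw [spinR, dif_pos h]; rfl

theorem commute_unit {P Q : CA} (h : P * Q = Q * P) (t u : F) :
    (1 + t • P) * (1 + u • Q) = (1 + u • Q) * (1 + t • P) := by
  simp only [add_mul, mul_add, one_mul, mul_one, smul_mul_smul_comm, h, mul_comm t u]
  abel

/-- The spin model. -/
noncomputable def spinRels : DRels F (CliffordAlgebra (quadPlus N F))ˣ N where
  R := spinR
  swap a b t h := Units.ext (by
    rw [spinR_val h, spinR_val h.symm, γ_anti' h.2, smul_neg, neg_smul])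
  add a b t u h := Units.ext (by
    rw [Units.val_mul, spinR_val h, spinR_val h, spinR_val h, mul_add, add_mul, add_mul, one_mul, mul_one,
      one_mul, smul_mul_smul_comm, sq_of_adm h, smul_zero, add_zero, add_smul]
    abel)
  comm a b c e t u hab hce h1 h2 h3 h4 := Units.ext (by
    rw [Units.val_mul, Units.val_mul, spinR_val hab, spinR_val hce]
    refine commute_unit ?_ t u
    rw [← mul_assoc, anti_pair (c := γ c) ((neg_eq_iff_eq_neg.2 (γ_anti h1)).symm)
      ((neg_eq_iff_eq_neg.2 (γ_anti h2)).symm), mul_assoc, anti_pair (c := γ e)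
      ((neg_eq_iff_eq_neg.2 (γ_anti h3)).symm) ((neg_eq_iff_eq_neg.2 (γ_anti h4)).symm), ← mul_assoc])
  comm' a b t u h := Units.ext (by
    rw [Units.val_mul, Units.val_mul, spinR_val h, spinR_val h.bar_right.symm]
    refine commute_unit ?_ t u
    have e1 : (γ b : CA) * γ (bar b) = 1 - γ (bar b) * γ b := eq_sub_of_add_eq (γ_pair b)
    rw [show γ a * γ b * (γ (bar b) * γ a) = γ a * (γ b * γ (bar b)) * γ a by simp only [mul_assoc], e1,
      show γ (bar b) * γ a * (γ a * γ b) = γ (bar b) * (γ a * γ a) * γ b by simp only [mul_assoc], γ_sq,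
      mul_zero, zero_mul, mul_sub, mul_one, sub_mul, γ_sq, zero_sub,
      show γ a * (γ (bar b) * γ b) * γ a = γ a * γ (bar b) * (γ b * γ a) by simp only [mul_assoc],
      γ_anti' h.2, mul_neg, pair_left (γ_sq a) (γ_anti' h.bar_right.2), neg_zero, neg_zero])
  mid a b e t u h1 h2 h3 := Units.ext (by
    rw [commutatorElement_def, Units.val_mul, Units.val_mul, Units.val_mul, spinR_inv h1, spinR_inv h2,
      spinR_val h1, spinR_val h2, spinR_val h3]
    have hab : (γ b : CA) * γ a = -(γ a * γ b) := γ_anti' h1.2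
    have hcb : (γ (bar b) : CA) * γ a = -(γ a * γ (bar b)) := γ_anti' h1.bar_right.2
    have hea : (γ e : CA) * γ a = -(γ a * γ e) := γ_anti' h3.2
    have heb : (γ e : CA) * γ b = -(γ b * γ e) := γ_anti' (h2.bar_left.2 |> fun h => by rwa [bar_bar] at h)
    have hec : (γ e : CA) * γ (bar b) = -(γ (bar b) * γ e) := γ_anti' h2.2
    have e1 : (γ b : CA) * γ (bar b) = 1 - γ (bar b) * γ b := eq_sub_of_add_eq (γ_pair b)
    refine nil_comm ?_ (sq_of_adm h1) (sq_of_adm h2) ?_ ?_ t u
    · have r : (γ (bar b) : CA) * γ e * (γ a * γ b) = -(γ a * (γ (bar b) * γ b) * γ e) := by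
        rw [← mul_assoc, anti_pair (c := γ a) hcb hea,
          show γ a * (γ (bar b) * γ e) * γ b = γ a * γ (bar b) * (γ e * γ b) by simp only [mul_assoc], heb]
        simp only [mul_neg, mul_assoc]
      rw [r, show γ a * γ b * (γ (bar b) * γ e) = γ a * (γ b * γ (bar b)) * γ e by simp only [mul_assoc], e1]
      simp only [mul_sub, sub_mul, mul_one]
      abel
    · rw [show γ a * γ b * (γ (bar b) * γ e) * (γ a * γ b) =
          γ a * γ b * ((γ (bar b) * γ e) * γ a) * γ b by simp only [mul_assoc], anti_pair (c := γ a) hcb hea,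
        show γ a * γ b * (γ a * (γ (bar b) * γ e)) = γ a * (γ b * γ a) * (γ (bar b) * γ e) by
          simp only [mul_assoc], hab, mul_neg, ← mul_assoc (γ a) (γ a), γ_sq]
      simp
    · rw [show γ a * γ e * (γ (bar b) * γ e) = γ a * (γ e * γ (bar b)) * γ e by simp only [mul_assoc], hec]
      simp only [mul_neg, neg_mul, mul_assoc, γ_sq, mul_zero, neg_zero])


variable [Finite F]

theorem negOne_eq_wd :
    (CurtisTitsA.negOne : Matrix.SpecialLinearGroup (Fin 2) F) =
      (tv zero_ne_one2 1 * tv zero_ne_one2.symm (-1) * tv zero_ne_one2 1) *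
        (tv zero_ne_one2 1 * tv zero_ne_one2.symm (-1) * tv zero_ne_one2 1) := by
  apply sl2_ext <;>
    simp [negOne_coe, Matrix.SpecialLinearGroup.coe_mul, tv_coe, Matrix.mul_apply, Fin.sum_univ_two,
      Matrix.single_apply]

theorem spin_P_negOne (hN : 3 ≤ N) {x y : SI} (h : Adm x y) :
    ((spinRels (F := F) (N := N)).P x y CurtisTitsA.negOne : CA) =
      (1 - 2 * (γ x * γ (bar x))) * (1 - 2 * (γ y * γ (bar y))) := by
  rw [negOne_eq_wd]
  simp only [map_mul, ((spinRels (F := F) (N := N)).P_spec hN h _).1,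
    ((spinRels (F := F) (N := N)).P_spec hN h _).2, Units.val_mul]
  rw [show (spinRels (F := F) (N := N)).R = spinR from rfl, spinR_val h.bar_right, spinR_val h.symm.bar_right,
    one_smul, neg_one_smul, show -(γ y * γ (bar x) : CA) = γ (bar x) * γ y by
      rw [γ_anti' h.bar_left.2, neg_neg]]
  set X : CA := γ x
  set X' : CA := γ (bar x)
  set Y : CA := γ y
  set Y' : CA := γ (bar y)
  have sX : X * X = 0 := γ_sq _
  have sX' : X' * X' = 0 := γ_sq _
  have sY : Y * Y = 0 := γ_sq _
  have sY' : Y' * Y' = 0 := γ_sq _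
  have pX : X * X' = 1 - X' * X := eq_sub_of_add_eq (γ_pair x)
  have pY : Y * Y' = 1 - Y' * Y := eq_sub_of_add_eq (γ_pair y)
  have a1 : Y' * X = -(X * Y') := γ_anti' h.bar_right.2
  have a2 : Y * X = -(X * Y) := γ_anti' h.2
  have a3 : Y' * X' = -(X' * Y') := γ_anti' h.bar_left.bar_right.2
  have a4 : Y * X' = -(X' * Y) := γ_anti' h.bar_left.2
  have q'_eq : Y' * Y = 1 - Y * Y' := eq_sub_of_add_eq ((add_comm _ _).trans (γ_pair y))
  have p'_eq : X' * X = 1 - X * X' := eq_sub_of_add_eq ((add_comm _ _).trans (γ_pair x))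
  have kX : X * X' * X = X := by rw [mul_assoc, p'_eq, mul_sub, mul_one, ← mul_assoc, sX, zero_mul, sub_zero]
  have kX' : X' * X * X' = X' := by rw [mul_assoc, pX, mul_sub, mul_one, ← mul_assoc, sX', zero_mul, sub_zero]
  have kY : Y * Y' * Y = Y := by rw [mul_assoc, q'_eq, mul_sub, mul_one, ← mul_assoc, sY, zero_mul, sub_zero]
  have kY' : Y' * Y * Y' = Y' := by rw [mul_assoc, pY, mul_sub, mul_one, ← mul_assoc, sY', zero_mul, sub_zero]
  have c1 : Y' * Y * X = X * (Y' * Y) := anti_pair a1 a2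
  have c2 : Y * Y' * X' = X' * (Y * Y') := anti_pair a4 a3
  have eUL : X * Y' * (X' * Y) = -(X * X' * (1 - Y * Y')) := by
    rw [← q'_eq, show X * Y' * (X' * Y) = X * (Y' * X') * Y by simp only [mul_assoc], a3]
    simp only [mul_neg, neg_mul, mul_assoc]
  have eLU : X' * Y * (X * Y') = -((1 - X * X') * (Y * Y')) := by
    rw [← p'_eq, show X' * Y * (X * Y') = X' * (Y * X) * Y' by simp only [mul_assoc], a2]
    simp only [mul_neg, neg_mul, mul_assoc]
  refine weyl_sq ?_ ?_ eUL eLU ?_ ?_ ?_ ?_ ?_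
  · exact pair_sq sX a1
  · exact pair_sq sX' a4
  · rw [eUL, ← q'_eq, neg_mul, show X * X' * (Y' * Y) * (X * Y') = X * X' * (Y' * Y * X) * Y' by
      simp only [mul_assoc], c1, show X * X' * (X * (Y' * Y)) * Y' = X * X' * X * (Y' * Y * Y') by
      simp only [mul_assoc], kX, kY']
  · rw [eLU, ← p'_eq, neg_mul, show X' * X * (Y * Y') * (X' * Y) = X' * X * (Y * Y' * X') * Y by
      simp only [mul_assoc], c2, show X' * X * (X' * (Y * Y')) * Y = X' * X * X' * (Y * Y' * Y) by
      simp only [mul_assoc], kX', kY]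
  · rw [show X * X' * (X * X') = X * X' * X * X' by simp only [mul_assoc], kX]
  · rw [show Y * Y' * (Y * Y') = Y * Y' * Y * Y' by simp only [mul_assoc], kY]
  · have d1 : Y * Y' * X = X * (Y * Y') := anti_pair a2 a1
    have d2 : Y * Y' * X' = X' * (Y * Y') := c2
    symm
    rw [← mul_assoc, d1, mul_assoc X (Y * Y'), d2, ← mul_assoc]

theorem zz_spin (hN : 3 ≤ N) {p r : Fin N} (h : p ≠ r) :
    ((zz (spinRels (F := F) (N := N)) p r : CAˣ) : CA) = -1 := by
  rw [zz, Units.val_mul, spin_P_negOne hN (adm_signed h).1, spin_P_negOne hN (adm_signed h).2,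
    show bar (Sum.inr r : SI) = Sum.inl r from rfl, show bar (Sum.inl r : SI) = Sum.inr r from rfl]
  set p' : CA := γ (Sum.inl p) * γ (bar (Sum.inl p))
  set q : CA := γ (Sum.inl r) * γ (Sum.inr r)
  have hp : p' * p' = p' := by
    simp only [p']
    rw [show ∀ A B : CA, A * B * (A * B) = A * (B * A) * B from fun A B => by simp only [mul_assoc],
      eq_sub_of_add_eq ((add_comm _ _).trans (γ_pair (F := F) (Sum.inl p : SI))), mul_sub, mul_one, sub_mul]
    simp only [← mul_assoc, γ_sq, zero_mul, sub_zero]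
  have hq : q * q = q := by
    simp only [q]
    rw [show ∀ A B : CA, A * B * (A * B) = A * (B * A) * B from fun A B => by simp only [mul_assoc],
      show γ (F := F) (Sum.inr r : SI) * γ (Sum.inl r) = 1 - γ (Sum.inl r) * γ (Sum.inr r) from
        eq_sub_of_add_eq ((add_comm _ _).trans (γ_pair (F := F) (Sum.inl r : SI))), mul_sub, mul_one, sub_mul]
    simp only [← mul_assoc, γ_sq, zero_mul, sub_zero]
  have hq' : γ (F := F) (Sum.inr r : SI) * γ (Sum.inl r) = 1 - q :=
    eq_sub_of_add_eq ((add_comm _ _).trans (γ_pair (F := F) (Sum.inl r : SI)))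
  have hpq : p' * q = q * p' := by
    have a : ∀ u v : SI, ix u = p → ix v = r → (γ v : CA) * γ u = -(γ u * γ v) := fun u v hu hv =>
      γ_anti' (Adm.of_idx (by show ix u ≠ ix v; rw [hu, hv]; exact h) : Adm u v).2
    have e1 : q * γ (Sum.inl p) = γ (Sum.inl p) * q :=
      anti_pair (a _ _ rfl rfl) (a _ _ rfl rfl)
    have e2 : q * γ (bar (Sum.inl p)) = γ (bar (Sum.inl p)) * q :=
      anti_pair (a _ _ rfl rfl) (a _ _ rfl rfl)
    simp only [p']
    symm
    rw [← mul_assoc, e1, mul_assoc _ q, e2, ← mul_assoc]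
  rw [hq', show (1 : CA) - 2 * (1 - q) = -(1 - 2 * q) by rw [mul_sub, mul_one, two_mul, ← one_add_one_eq_two]; abel,
    mul_neg, mul_neg, neg_inj]
  calc (1 - 2 * p') * (1 - 2 * q) * ((1 - 2 * p') * (1 - 2 * q))
      = ((1 - 2 * p') * (1 - 2 * p')) * ((1 - 2 * q) * (1 - 2 * q)) := by
        have c : Commute (1 - 2 * q) (1 - 2 * p') := by
          show _ = _
          simp only [two_mul, sub_mul, mul_sub, add_mul, mul_add, one_mul, mul_one, hpq]
          abel
        exact c.mul_mul_mul_comm _ _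
    _ = 1 := by
      simp only [two_mul, sub_mul, mul_sub, add_mul, mul_add, one_mul, mul_one, hp, hq]
      abel

/-- The spin model over the orthogonal group. -/
noncomputable def modelRels : DRels F (Orth.IsoGrp (quadPlus N F) × CAˣ) N :=
  (orels (F := F) (N := N)).prod (spinRels (F := F) (N := N))

theorem model_over :
    Over (modelRels (F := F) (N := N)) (MonoidHom.fst (Orth.IsoGrp (quadPlus N F)) CAˣ) := fun _ _ _ _ => rfl

theorem zz_model (hN : 3 ≤ N) {p r : Fin N} (h : p ≠ r) :
    zz (modelRels (F := F) (N := N)) p r ∈ Subgroup.center _ ∧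
      (zz (modelRels (F := F) (N := N)) p r = 1 → (2 : F) = 0) := by
  have e1 : (zz (modelRels (F := F) (N := N)) p r).1 = 1 := π_zz _ model_over hN h
  have e2 : (zz (modelRels (F := F) (N := N)) p r).2 = zz (spinRels (F := F) (N := N)) p r :=
    map_zz (modelRels (F := F) (N := N)) hN (MonoidHom.snd (Orth.IsoGrp (quadPlus N F)) CAˣ) spinRels
      (fun _ _ _ _ => rfl) h
  refine ⟨Subgroup.mem_center_iff.2 fun g => Prod.ext ?_ (Units.ext ?_), fun hz => ?_⟩
  · rw [Prod.fst_mul, Prod.fst_mul, e1, mul_one, one_mul]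
  · rw [Prod.snd_mul, Prod.snd_mul, e2, Units.val_mul, Units.val_mul, zz_spin hN h, mul_neg_one, neg_one_mul]
  · by_contra h2
    have hz' : ((zz (spinRels (F := F) (N := N)) p r : CAˣ) : CA) = 1 := by
      rw [← e2, hz]; rfl
    rw [zz_spin hN h] at hz'
    haveI : Invertible (2 : F) := invertibleOfNonzero h2
    refine h2 (?_ : (2 : F) = 0)
    have : algebraMap F CA (-1) = algebraMap F CA 1 := by rw [map_neg, map_one, hz']
    linear_combination -(RingHom.injective _ this)

end Cfsg.Agent.OrthMult
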