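/-
The spin model over Ω of a quadratic space with a frame.

* `liftGrp`: pairs of an element of Ω and a unit inducing it; `spinExt`: the extension; `snd_zz`: `zz ↦ -1`.
-/
import Cfsg.Agent.Lib.OrthMult.Maps
import Cfsg.Agent.Lib.OrthMult.Spin

set_option autoImplicit false
set_option linter.unusedSectionVars false

open Matrix
open QuadraticMap (polar)
open scoped commutatorElement

namespace Cfsg.Agent.OrthMult

open CurtisTitsA CurtisTitsD
open Cfsg.Agent.Orth hiding quadPlus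
open Cfsg.Agent.OrthAct (quadPlus)
open Cfsg.Agent.OrthBN (OFrame)

universe u

variable {F : Type u} [Field F] [Fintype F] {ι : Type} [Fintype ι] [DecidableEq ι] {N : ℕ}
  {Q : QuadraticForm F (ι → F)}

local notation "CQ" => CliffordAlgebra Q
local notation "γv" => CliffordAlgebra.ι Q

variable (Q) in
/-- An element of Ω with a unit inducing it. -/
def liftGrp : Subgroup (IsoGrp Q × CQˣ) where
  carrier := {p | p.1 ∈ Omega F ⇑Q ∧ ∀ x, (p.2 : CQ) * γv x = γv (ap p.1 x) * p.2}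
  one_mem' := ⟨one_mem _, fun x => by simp⟩
  mul_mem' := by
    rintro a b ⟨ha, ha'⟩ ⟨hb, hb'⟩
    refine ⟨mul_mem ha hb, fun x => ?_⟩
    rw [Prod.snd_mul, Prod.fst_mul, Units.val_mul, ap_mul, mul_assoc, hb', ← mul_assoc, ha', mul_assoc]
  inv_mem' := by
    rintro a ⟨ha, ha'⟩
    refine ⟨inv_mem ha, fun x => ?_⟩
    have h := ha' (ap a.1⁻¹ x)
    rw [← ap_mul, mul_inv_cancel, ap_one] at h
    rw [Prod.snd_inv, Prod.fst_inv, Units.inv_mul_eq_iff_eq_mul, ← mul_assoc, h, mul_assoc, Units.mul_inv,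
      mul_one]

variable (Q) in
/-- The projection of the lifts. -/
def liftπ : liftGrp Q →* IsoGrp Q := (MonoidHom.fst _ _).comp (liftGrp Q).subtype

theorem γv_anti {u w : ι → F} (h : polar ⇑Q u w = 0) : γv w * γv u = -(γv u * γv w) := by
  rw [eq_neg_iff_add_eq_zero, CliffordAlgebra.ι_mul_ι_add_swap, pl_comm Q, h, map_zero]

theorem γv_sq_zero {u : ι → F} (hu : Q u = 0) : γv u * γv u = 0 := by
  rw [CliffordAlgebra.ι_sq_scalar, hu, map_zero]

/-- The unit of an Eichler transformation. -/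
def eichUnit {u w : ι → F} (hu : Q u = 0) (hw : polar ⇑Q u w = 0) : CQˣ :=
  nilUnit (γv u * γv w) (pair_sq (γv_sq_zero hu) (γv_anti hw)) (-1 : F)

theorem eichUnit_mul {u w : ι → F} (hu : Q u = 0) (hw : polar ⇑Q u w = 0) (x : ι → F) :
    (eichUnit hu hw : CQ) * γv x = γv (ap (eich Q u w) x) * eichUnit hu hw := by
  have hsw : ∀ a b : ι → F, γv a * γv b = (polar ⇑Q a b) • (1 : CQ) - γv b * γv a := fun a b => by
    rw [← Algebra.algebraMap_eq_smul_one, ← CliffordAlgebra.ι_mul_ι_add_swap, add_sub_cancel_right]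
  have hP : (γv u) * (γv w) * γv x = (polar ⇑Q w x) • (γv u) - (polar ⇑Q u x) • (γv w) + γv x * ((γv u) * (γv w)) := by
    rw [mul_assoc, hsw w x, mul_sub, mul_smul_comm, mul_one, ← mul_assoc, hsw u x, sub_mul, smul_mul_assoc,
      one_mul, mul_assoc]
    abel
  have hbb : (γv w) * (γv w) = Q w • (1 : CQ) := by
    rw [← Algebra.algebraMap_eq_smul_one]; exact CliffordAlgebra.ι_sq_scalar _ _
  have h1 : (γv u) * ((γv u) * (γv w)) = 0 := by rw [← mul_assoc, γv_sq_zero hu, zero_mul]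
  have h2 : (γv w) * ((γv u) * (γv w)) = -(Q w • (γv u)) := by
    rw [← mul_assoc, γv_anti hw, neg_mul, mul_assoc, hbb, mul_smul_comm, mul_one]
  have e : (eichUnit hu hw : CQ) = 1 - (γv u) * (γv w) := by
    show 1 + (-1 : F) • ((γv u) * (γv w)) = _
    rw [neg_one_smul, sub_eq_add_neg]
  rw [e, eich_ap hu hw, map_sub, map_add, map_smul, map_smul, sub_mul, one_mul, hP, mul_sub, mul_one]
  simp only [sub_mul, add_mul, smul_mul_assoc, h1, h2, smul_zero, smul_neg, smul_smul]
  module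

/-- A lift of an Eichler transformation. -/
noncomputable def eichLift (hE : eichGen Q ≤ Omega F ⇑Q) {u w : ι → F} (hu : Q u = 0) (hw : polar ⇑Q u w = 0) : liftGrp Q :=
  ⟨(eich Q u w, eichUnit hu hw), hE (eich_mem_eichGen u w), eichUnit_mul hu hw⟩

theorem liftπ_ker : (liftπ Q).ker ≤ Subgroup.center (liftGrp Q) := fun p hp => by
  have h1 : p.1.1 = 1 := hp
  have hc : ∀ z : CQ, (p.1.2 : CQ) * z = z * p.1.2 := fun z => by
    induction z using CliffordAlgebra.induction with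
    | algebraMap r => exact (Algebra.commutes r _).symm
    | ι x => have := p.2.2 x; rwa [h1, ap_one] at this
    | mul a b ha hb => rw [← mul_assoc, ha, mul_assoc, hb, mul_assoc]
    | add a b ha hb => rw [mul_add, add_mul, ha, hb]
  refine Subgroup.mem_center_iff.2 fun g => Subtype.ext (Prod.ext ?_ (Units.ext ?_))
  · show g.1.1 * p.1.1 = p.1.1 * g.1.1
    rw [h1, mul_one, one_mul]
  · exact (hc _).symm

theorem liftπ_range (heq : Omega F ⇑Q = eichGen Q) : (liftπ Q).range = Omega F ⇑Q := by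
  refine le_antisymm ?_ (heq.le.trans ?_)
  · rintro _ ⟨p, rfl⟩
    exact p.2.1
  · rw [eichGen, Subgroup.closure_le]
    rintro _ ⟨u, w, rfl⟩
    by_cases h : Q u = 0 ∧ polar ⇑Q u w = 0
    · exact ⟨eichLift heq.ge h.1 h.2, rfl⟩
    · rw [eich_eq_one h]; exact one_mem _

/-- In the spin model lifts of two Eichler transformations of mutually orthogonal vectors commute. -/
theorem thirdCommute_spin {Φ : OFrame Q N} (hE : eichGen Q ≤ Omega F ⇑Q) : ThirdCommute Φ (liftπ Q) := by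
  intro a x y w hw h1 h2 h3 t g h hg hh
  set p := eichLift hE (Φ.sing a) (hw a)
  set q := eichLift hE (Φ.sing y) (adm_pl' (Φ := Φ) (Adm.of_idx h3) t)
  have e : ⁅g, h⁆ = ⁅p, q⁆ := comm_congr' liftπ_ker hg hh
  have ax := adm_pl (Φ := Φ) (Adm.of_idx h1)
  have ay := adm_pl (Φ := Φ) (Adm.of_idx h2)
  have key : γv (Φ.v a) * γv w * (γv (Φ.v y) * γv (t • Φ.v x)) =
      γv (Φ.v y) * γv (t • Φ.v x) * (γv (Φ.v a) * γv w) := by
    have e1 : γv w * γv (Φ.v y) = -(γv (Φ.v y) * γv w) := γv_anti (hw y)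
    have e2 : γv w * γv (Φ.v x) = -(γv (Φ.v x) * γv w) := γv_anti (hw x)
    have e3 : γv (Φ.v a) * γv (Φ.v y) = -(γv (Φ.v y) * γv (Φ.v a)) :=
      γv_anti (by rw [pl_comm Q]; exact ay)
    have e4 : γv (Φ.v a) * γv (Φ.v x) = -(γv (Φ.v x) * γv (Φ.v a)) :=
      γv_anti (by rw [pl_comm Q]; exact ax)
    simp only [map_smul, mul_smul_comm, smul_mul_assoc]
    congr 1
    rw [mul_assoc, ← mul_assoc (γv w), e1, neg_mul, mul_neg, mul_assoc (γv (Φ.v y)), e2, mul_neg, mul_neg, neg_neg,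
      ← mul_assoc, e3, neg_mul, mul_assoc, ← mul_assoc (γv (Φ.v a)), e4, neg_mul, mul_neg, neg_neg]
    simp only [mul_assoc]
  have c : Commute p q := by
    refine Subtype.ext (Prod.ext ?_ (Units.ext ?_))
    · show eich Q (Φ.v a) w * eich Q (Φ.v y) (t • Φ.v x) = eich Q (Φ.v y) (t • Φ.v x) * eich Q (Φ.v a) w
      rw [← mul_inv_eq_iff_eq_mul, conj_eich, map_smul, eich_ap_fix (Φ.sing a) (hw a) ay (Φ.off_pl hw y),
        eich_ap_fix (Φ.sing a) (hw a) ax (Φ.off_pl hw x)]
    · show (1 + (-1 : F) • (γv (Φ.v a) * γv w)) * (1 + (-1 : F) • (γv (Φ.v y) * γv (t • Φ.v x))) =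
        (1 + (-1 : F) • (γv (Φ.v y) * γv (t • Φ.v x))) * (1 + (-1 : F) • (γv (Φ.v a) * γv w))
      simp only [add_mul, mul_add, one_mul, mul_one, smul_mul_assoc, mul_smul_comm, key]
      module
  exact commutatorElement_eq_one_iff_commute.1 (e.trans (commutatorElement_eq_one_iff_commute.2 c))

section Frame

variable (Φ : OFrame Q N) (hN : 3 ≤ N) (rels : Rels Φ ∨ OfThird Φ (liftπ Q))
  (heq : Omega F ⇑Q = eichGen Q)

include hN rels heq

/-- The spin model. -/
def spinExt : Ext Φ (liftGrp Q) where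
  π := liftπ Q
  range_eq := liftπ_range heq
  central := liftπ_ker
  hN := hN
  rels := rels
  eich_mem := heq.ge

omit hN rels heq in
/-- The Clifford algebra of the plus type part. -/
noncomputable def clMap : CliffordAlgebra (quadPlus N F) →ₐ[F] CQ :=
  CliffordAlgebra.map { toLinearMap := sumv Φ, map_app' := Q_sumv Φ }

omit hN rels heq in
theorem clMap_γ (a : Fin N ⊕ Fin N) : clMap Φ (γ a) = γv (Φ.v a) := by
  rw [clMap, γ, CliffordAlgebra.map_apply_ι]
  exact congrArg _ (sumv_ev Φ a)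

omit hN rels heq in
/-- The spin values in the Clifford algebra of the space. -/
noncomputable def spinRels' : DRels F CQˣ N :=
  drelsMap spinRels (Units.map (clMap Φ).toRingHom.toMonoidHom)

theorem snd_R {a b : Fin N ⊕ Fin N} (h : Adm a b) (t : F) :
    ((spinExt Φ hN rels heq).R a b t).1.2 = (spinRels' Φ).R a b t := by
  set X := spinExt Φ hN rels heq
  let y : ∀ {a b : Fin N ⊕ Fin N}, Adm a b → F → liftGrp Q := fun {a b} h t =>
    eichLift heq.ge (Φ.sing b) (adm_pl' (Φ := Φ) h t)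
  have hy : ∀ {a b : Fin N ⊕ Fin N} (h : Adm a b) (t : F), (y h t).1.2 = (spinRels' Φ).R a b t :=
    fun {a b} h t => Units.ext (by
      show 1 + (-1 : F) • (γv (Φ.v b) * γv (t • Φ.v a)) = clMap Φ (spinR a b t : CliffordAlgebra (quadPlus N F))
      rw [spinR_val h, map_add, map_one, map_smul γv, map_smul (clMap Φ), map_mul, clMap_γ, clMap_γ,
        mul_smul_comm, γv_anti (adm_pl (Φ := Φ) h), smul_neg, smul_neg, neg_one_smul, neg_neg])
  obtain ⟨c, hc1, hc2⟩ := exists_ix2 hN a b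
  have h1 : Adm a c := Adm.of_idx (Ne.symm hc1)
  have h2 : Adm (bar c) b := Adm.of_idx fun q => hc2 ((ix_bar c).symm.trans q)
  have eX : ⁅X.R a c t, X.R (bar c) b 1⁆ = X.R a b (t * 1) := X.D.mid a c b t 1 h1 h2 h
  have eS := (spinRels' Φ).mid a c b t 1 h1 h2 h
  rw [mul_one] at eX eS
  rw [← eX, X.comm_congr (show X.π (X.R a c t) = X.π (y h1 t) from X.π_R h1 t)
    (show X.π (X.R (bar c) b 1) = X.π (y h2 1) from X.π_R h2 1), ← eS, ← hy h1, ← hy h2]
  rfl

theorem snd_zz {p r : Fin N} (h : p ≠ r) :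
    (((zz (spinExt Φ hN rels heq).D p r).1.2 : CQˣ) : CQ) = -1 := by
  have e1 := map_zz (spinExt Φ hN rels heq).D hN ((MonoidHom.snd _ _).comp (liftGrp Q).subtype) (spinRels' Φ)
    (fun a b t hab => snd_R Φ hN rels heq hab t) h
  have e2 := map_zz (spinRels (F := F) (N := N)) hN (Units.map (clMap Φ).toRingHom.toMonoidHom) (spinRels' Φ)
    (fun _ _ _ _ => rfl) h
  simp only [MonoidHom.comp_apply, Subgroup.coe_subtype, MonoidHom.coe_snd] at e1
  rw [e1, ← e2]
  show clMap Φ ((zz (spinRels (F := F) (N := N)) p r : (CliffordAlgebra (quadPlus N F))ˣ) : CliffordAlgebra (quadPlus N F)) = -1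
  rw [zz_spin hN h, map_neg, map_one]

theorem zz_spinExt_ne_one (h2 : (2 : F) ≠ 0) {p r : Fin N} (h : p ≠ r) :
    zz (spinExt Φ hN rels heq).D p r ≠ 1 := fun e => by
  have hs := snd_zz Φ hN rels heq h
  rw [e] at hs
  haveI : Invertible (2 : F) := invertibleOfNonzero h2
  have : algebraMap F CQ (-1) = algebraMap F CQ 1 := by rw [map_neg, map_one]; exact hs.symm
  exact h2 (by linear_combination -(RingHom.injective _ this))

end Frame

end Cfsg.Agent.OrthMult
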