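/-
The Schur multiplier of PΩ⁺_{2l}(q).

* `toPO`: the spin model over PΩ⁺; `multiplier_even`, `multiplier_odd`.
-/
import Cfsg.Agent.Lib.OrthMult.Spin
import Cfsg.Agent.Lib.OrthMult.Torus
import Cfsg.Agent.Lib.OrthMult.Cover
import Cfsg.Agent.Lib.Orth.Order
import Cfsg.Agent.Lib.Orth.Models

set_option autoImplicit false

open Matrix
open scoped commutatorElement

namespace Cfsg.Agent.OrthMult

open CurtisTitsA CurtisTitsD
open Cfsg.Agent.Orth hiding quadPlus
open Cfsg.Agent.OrthAct (quadPlus quadPlus_coe quadPlus_nondegenerate)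

universe u

variable (F : Type u) [Field F] [Fintype F] (N : ℕ)

/-- The spin cover. -/
noncomputable abbrev Cov : Subgroup (IsoGrp (quadPlus N F) × (CliffordAlgebra (quadPlus N F))ˣ) :=
  Gam (modelRels (F := F) (N := N)) 0

/-- The projection to the orthogonal group. -/
noncomputable abbrev covπ : Cov F N →* IsoGrp (quadPlus N F) :=
  (MonoidHom.fst (IsoGrp (quadPlus N F)) (CliffordAlgebra (quadPlus N F))ˣ).comp (Cov F N).subtype

variable {F N} (hN : 4 ≤ N)

include hN

theorem covπ_mem (s : Cov F N) : covπ F N s ∈ Omega F ⇑(quadPlus N F) := by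
  rw [← map_gam (modelRels (F := F) (N := N)) (by omega) model_over]
  exact ⟨s.1, s.2, rfl⟩

/-- The projection to Ω. -/
noncomputable def toΩ : Cov F N →* Omega F ⇑(quadPlus N F) := (covπ F N).codRestrict _ (covπ_mem hN)

theorem toΩ_surjective : Function.Surjective (toΩ (F := F) hN) := by
  rintro ⟨y, hy⟩
  rw [← map_gam (modelRels (F := F) (N := N)) (by omega) model_over] at hy
  obtain ⟨x, hx, rfl⟩ := hy
  exact ⟨⟨x, hx⟩, rfl⟩

/-- The distinguished kernel element. -/
noncomputable def zc : Cov F N :=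
  ⟨zz modelRels (⟨N - 2, by omega⟩ : Fin N) ⟨N - 1, by omega⟩,
    zz_mem_gam _ (by omega) (by simp [Fin.ext_iff]; omega)⟩

theorem zc_sq : zc (F := F) hN * zc hN = 1 :=
  Subtype.ext (zz_sq _ (by omega) (by simp [Fin.ext_iff]; omega))

theorem π_zc : covπ F N (zc hN) = 1 := π_zz _ model_over (by omega) (by simp [Fin.ext_iff]; omega)

theorem cov_kernel {s : Cov F N} (h : covπ F N s = 1) : s = 1 ∨ s = zc hN := by
  rcases gam_kernel (modelRels (F := F) (N := N)) model_over (p := ⟨N - 2, by omega⟩) (r := ⟨N - 1, by omega⟩)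
    (by simp; omega) (by simp; omega) (by omega) (zz_model (by omega) (by simp [Fin.ext_iff]; omega)).1 s.2 h
    with e | e
  · exact .inl (Subtype.ext e)
  · exact .inr (Subtype.ext e)

theorem zc_eq_one (h2 : (2 : F) = 0) : zc (F := F) hN = 1 := Subtype.ext (zz_eq_one_of_two h2 _ _ _)

theorem zc_ne_one (h2 : (2 : F) ≠ 0) : zc (F := F) hN ≠ 1 := fun h =>
  h2 ((zz_model (F := F) (by omega) (by simp [Fin.ext_iff]; omega)).2 (congrArg Subtype.val h))

theorem zc_central : zc (F := F) hN ∈ Subgroup.center (Cov F N) :=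
  Subgroup.mem_center_iff.2 fun x => Subtype.ext
    (Subgroup.mem_center_iff.1 (zz_model (F := F) (by omega) (by simp [Fin.ext_iff]; omega)).1 x.1)

theorem covπ_ker_le : (covπ F N).ker ≤ Subgroup.center (Cov F N) := fun s hs => by
  rcases cov_kernel hN (MonoidHom.mem_ker.1 hs) with e | e
  · rw [e]; exact one_mem _
  · rw [e]; exact zc_central hN

theorem cov_finite : Finite (Cov F N) := by
  have : Finite (covπ F N).ker := Finite.of_surjective
    (fun b : Bool => if b then (⟨1, one_mem _⟩ : (covπ F N).ker) else ⟨zc hN, π_zc hN⟩) fun s => by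
      rcases cov_kernel hN s.2 with e | e
      · exact ⟨true, Subtype.ext e.symm⟩
      · exact ⟨false, Subtype.ext e.symm⟩
  have : Finite (Cov F N ⧸ (covπ F N).ker) :=
    Finite.of_equiv _ (QuotientGroup.quotientKerEquivRange (covπ F N)).symm.toEquiv
  exact Finite.of_subgroup_quotient (covπ F N).ker

/-- The cover over PΩ. -/
noncomputable def toPO : Cov F N →* Cfsg.POmega F ⇑(quadPlus N F) :=
  (QuotientGroup.mk' (Subgroup.center (Omega F ⇑(quadPlus N F)))).comp (toΩ hN)

theorem toPO_surjective : Function.Surjective (toPO (F := F) hN) :=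
  (QuotientGroup.mk'_surjective _).comp (toΩ_surjective hN)

theorem mem_ker_toPO {s : Cov F N} :
    s ∈ (toPO hN).ker ↔ toΩ hN s ∈ Subgroup.center (Omega F ⇑(quadPlus N F)) :=
  QuotientGroup.eq_one_iff _

theorem toPO_ker_le : (toPO (F := F) hN).ker ≤ Subgroup.center (Cov F N) := fun s hs =>
  preimage_center_le (covπ_ker_le hN) (gam_perfect _ (by omega)) fun y =>
    congrArg Subtype.val (Subgroup.mem_center_iff.1 ((mem_ker_toPO hN).1 hs) (toΩ hN y)).symm

theorem eichGen_le : eichGen (quadPlus N F) ≤ Omega F ⇑(quadPlus N F) :=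
  eichGen_le_omega (quadPlus_nondegenerate N) (by simp; omega) (.inr (by simp; omega))

theorem negOne_ne_one (h2 : (2 : F) ≠ 0) : negOne (quadPlus N F) ≠ 1 := fun h => by
  have := congrArg (fun g => ap g (ev F (Sum.inl (⟨0, by omega⟩ : Fin N))) (Sum.inl ⟨0, by omega⟩)) h
  simp [negOne_ap, ev, Pi.single_apply] at this
  exact h2 (by linear_combination -this)

/-- With -1 outside Ω or in characteristic two the kernel is generated by `zc`. -/
theorem ker_of_trivial (h : negOne (quadPlus N F) ∉ Omega F ⇑(quadPlus N F) ∨ (2 : F) = 0) {s : Cov F N} :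
    s ∈ (toPO hN).ker ↔ s = 1 ∨ s = zc hN := by
  rw [mem_ker_toPO, center_omega_eq_bot (quadPlus_nondegenerate N) (by simp; omega) (eichGen_le hN) h,
    Subgroup.mem_bot]
  constructor
  · exact fun e => cov_kernel hN (congrArg Subtype.val e)
  · rintro (rfl | rfl)
    · exact map_one _
    · exact Subtype.ext (π_zc hN)

/-- With a lift `u` of -1 the kernel is generated by `zc` and `u`. -/
theorem ker_of_lift (h2 : (2 : F) ≠ 0) {u : Cov F N} (hu : covπ F N u = negOne (quadPlus N F)) :
    ((toPO (F := F) hN).ker : Set (Cov F N)) = {1, zc hN, u, u * zc hN} ∧ Nat.card (toPO (F := F) hN).ker = 4 := by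
  have hneg : negOne (quadPlus N F) ∈ Omega F ⇑(quadPlus N F) := hu ▸ covπ_mem hN u
  have hn : 3 ≤ Fintype.card (Fin N ⊕ Fin N) := by simp; omega
  have e0 : covπ F N (zc hN) = 1 := π_zc hN
  have heq : ((toPO (F := F) hN).ker : Set (Cov F N)) = {1, zc hN, u, u * zc hN} := by
    ext s
    rw [SetLike.mem_coe, mem_ker_toPO, mem_center_omega_iff (quadPlus_nondegenerate N) hn (eichGen_le hN)]
    constructor
    · rintro ⟨a, ha, hg⟩
      rcases eq_one_or_eq_negOne_of_scalar ha hg with e | e
      · rcases cov_kernel hN (s := s) e with r | r <;> simp [r]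
      · have h1 : covπ F N (u⁻¹ * s) = 1 := by rw [map_mul, map_inv, hu, inv_mul_eq_one]; exact e.symm
        rcases cov_kernel hN h1 with r | r
        · rw [inv_mul_eq_one] at r; simp [r]
        · rw [inv_mul_eq_iff_eq_mul] at r; simp [r]
    · intro hs
      simp only [Set.mem_insert_iff, Set.mem_singleton_iff] at hs
      rcases hs with rfl | rfl | rfl | rfl
      · exact ⟨1, one_mul 1, fun x => by rw [one_smul, map_one]; exact ap_one x⟩
      · refine ⟨1, one_mul 1, fun x => ?_⟩
        show ap (covπ F N _) x = _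
        rw [e0, one_smul, ap_one]
      · refine ⟨-1, by ring, fun x => ?_⟩
        show ap (covπ F N _) x = _
        rw [hu, negOne_ap, neg_one_smul]
      · refine ⟨-1, by ring, fun x => ?_⟩
        show ap (covπ F N _) x = _
        rw [map_mul, hu, e0, mul_one, negOne_ap, neg_one_smul]
  refine ⟨heq, ?_⟩
  have hne : covπ F N u ≠ 1 := by rw [hu]; exact negOne_ne_one hN h2
  have hz := zc_ne_one (F := F) hN h2
  have n1 : u ≠ 1 := fun e => hne (by rw [e, map_one])
  have n2 : u ≠ zc hN := fun e => hne (by rw [e, e0])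
  have n3 : u * zc hN ≠ 1 := fun e => hne (by
    have := congrArg (covπ F N) e; rwa [map_mul, e0, mul_one, map_one] at this)
  have n4 : u * zc hN ≠ zc hN := fun e => n1 (mul_eq_right.1 e)
  have n5 : u * zc hN ≠ u := fun e => hz (mul_eq_left.1 e)
  rw [← SetLike.coe_sort_coe, Nat.card_coe_set_eq, heq,
    Set.ncard_insert_of_notMem (by simp [hz.symm, n1.symm, n3.symm]) (Set.toFinite _),
    Set.ncard_insert_of_notMem (by simp [n2.symm, n4.symm]) (Set.toFinite _),
    Set.ncard_insert_of_notMem (by simp [n5.symm]) (Set.toFinite _), Set.ncard_singleton]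

theorem exists_even_lift (hev : Even N) :
    ∃ u : Cov F N, u * u = 1 ∧ covπ F N u = negOne (quadPlus N F) := by
  obtain ⟨k, hk⟩ := hev
  obtain ⟨u, hu, hsq, hap, -⟩ := exists_pairs (model_over (F := F) (N := N)) (by omega) k (by omega)
  refine ⟨⟨u, hu⟩, Subtype.ext hsq, ext_ap fun v => ?_⟩
  rw [negOne_ap, pi_eq_sum_univ' v, map_sum, ← Finset.sum_neg_distrib]
  refine Finset.sum_congr rfl fun i _ => ?_
  rw [map_smul, ← smul_neg]
  congr 1
  refine (hap i).trans ?_
  rw [if_pos (by have := (ix i).2; omega), neg_one_smul]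
  rfl

theorem exists_odd_lift (h2 : (2 : F) ≠ 0) (hodd : Odd N) {c : Fˣ} (hc : c * c = -1) :
    ∃ u : Cov F N, u * u = zc hN ∧ covπ F N u = negOne (quadPlus N F) := by
  obtain ⟨k, hk⟩ := hodd
  obtain ⟨u, hu, hsq, hap, -⟩ := exists_pairs (model_over (F := F) (N := N)) (by omega) k (by omega)
  set p : Fin N := ⟨N - 2, by omega⟩
  set r : Fin N := ⟨N - 1, by omega⟩
  have hrp : r ≠ p := by simp [p, r, Fin.ext_iff]; omega
  obtain ⟨v, hv, hvsq, hvap⟩ := exists_flip (model_over (F := F) (N := N)) (by omega) hrp hc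
  have hπ : covπ F N (⟨u, hu⟩ * ⟨v, hv⟩) = negOne (quadPlus N F) := by
    refine ext_ap fun w => ?_
    rw [negOne_ap, pi_eq_sum_univ' w, map_sum, ← Finset.sum_neg_distrib]
    refine Finset.sum_congr rfl fun i _ => ?_
    rw [map_smul, ← smul_neg]
    congr 1
    rw [map_mul, ap_mul]
    show ap (MonoidHom.fst _ _ u) (ap (MonoidHom.fst _ _ v) (ev F i)) = -ev F i
    rw [hvap, map_smul, hap, smul_smul]
    have := (ix i).2
    by_cases hi : ix i = r
    · rw [if_pos hi, if_neg (by rw [hi]; simp [r]; omega), mul_one, neg_one_smul]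
    · rw [if_neg hi, if_pos (by
        have : (ix i).val ≠ N - 1 := fun e => hi (Fin.ext e)
        omega), one_mul, neg_one_smul]
  set U : Cov F N := ⟨u, hu⟩
  set W : Cov F N := ⟨v, hv⟩
  refine ⟨U * W, ?_, hπ⟩
  have hcen : U * W ∈ Subgroup.center (Cov F N) := toPO_ker_le hN ((mem_ker_toPO hN).2
    ((mem_center_omega_iff (quadPlus_nondegenerate N) (by simp; omega) (eichGen_le hN) _).2
      ⟨-1, by ring, fun x => by
        show ap (covπ F N _) x = _
        rw [hπ, negOne_ap, neg_one_smul]⟩))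
  have hcom : W * U = U * W := by
    have := Subgroup.mem_center_iff.1 hcen W
    rw [← mul_assoc] at this
    exact mul_right_cancel this
  -- `zz` does not depend on the order of the two indices modulo the kernel
  have hW : W * W = zc hN := by
    have h1 : covπ F N (W * W) = 1 := by
      show MonoidHom.fst _ _ (v * v) = _
      rw [hvsq]
      exact π_zz _ model_over (by omega) hrp
    rcases cov_kernel hN h1 with e | e
    · exfalso
      have e' : v * v = 1 := congrArg Subtype.val e
      rw [hvsq] at e'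
      exact h2 ((zz_model (F := F) (by omega) hrp).2 e')
    · exact e
  rw [show U * W * (U * W) = U * (W * U) * W by group, hcom, show U * (U * W) * W = U * U * (W * W) by group, hW,
    show U * U = 1 from Subtype.ext hsq, one_mul]

omit hN in
theorem ker_klein {K : Type*} [Group K] (h4 : Nat.card K = 4) (hsq : ∀ x : K, x * x = 1) :
    Nonempty (Multiplicative (ZMod 2 × ZMod 2) ≃* K) := by
  haveI : Finite K := Nat.finite_of_card_ne_zero (by omega)
  haveI : Nontrivial K := Finite.one_lt_card_iff_nontrivial.1 (by omega)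
  haveI : IsKleinFour K := ⟨h4, by
    refine Nat.dvd_prime Nat.prime_two |>.1 (Monoid.exponent_dvd_of_forall_pow_eq_one fun x => by
      rw [pow_two]; exact hsq x) |>.resolve_left fun h => ?_
    haveI := Monoid.exp_eq_one_iff.1 h
    exact not_nontrivial K inferInstance⟩
  exact IsKleinFour.nonempty_mulEquiv

theorem splits_cov (hexc : ¬ (N = 4 ∧ Fintype.card F = 2)) : ChevSt.Splits (Cov F N) :=
  splits_gam (modelRels (F := F) (N := N)) model_over hN hexc (p := ⟨N - 2, by omega⟩)
    (r := ⟨N - 1, by omega⟩) (by simp; omega) (by simp; omega)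
    (zz_model (by omega) (by simp [Fin.ext_iff]; omega)).1
    (zz_model (by omega) (by simp [Fin.ext_iff]; omega)).2

omit hN in
theorem even_card (h2 : (2 : F) = 0) : Even (Fintype.card F) := by
  by_contra hc
  refine one_ne_zero (α := F) ?_
  obtain ⟨k, hk⟩ := Nat.not_even_iff_odd.1 hc
  have := FiniteField.cast_card_eq_zero F
  rw [hk] at this
  push_cast at this
  linear_combination this - (k : F) * h2

omit hN in
theorem odd_card (h2 : (2 : F) ≠ 0) : Odd (Fintype.card F) :=
  Nat.not_even_iff_odd.1 fun ⟨k, hk⟩ => by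
    have := FiniteField.cast_card_eq_zero F
    rw [hk] at this
    push_cast at this
    have hk0 : (k : F) = 0 := by
      rcases mul_eq_zero.1 (show (2 : F) * k = 0 by linear_combination this) with e | e
      · exact absurd e h2
      · exact e
    obtain ⟨m, hp, hcard⟩ := FiniteField.card F (ringChar F)
    have hdvd : ringChar F ∣ k := (CharP.cast_eq_zero_iff F (ringChar F) k).1 hk0
    have h2d : ringChar F ≠ 2 := fun e => h2 (by
      have := CharP.cast_eq_zero F (ringChar F); rw [e] at this; exact_mod_cast this)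
    have h2card : 2 ∣ ringChar F ^ (m : ℕ) := by rw [← hcard, hk]; omega
    have := Nat.Prime.dvd_of_dvd_pow Nat.prime_two h2card
    exact h2d ((Nat.prime_dvd_prime_iff_eq Nat.prime_two hp).1 this).symm

omit hN in
theorem gcd_two_pow (h2 : (2 : F) ≠ 0) : Nat.gcd 2 (Fintype.card F ^ N - 1) = 2 :=
  Nat.gcd_eq_left (by
    have := (odd_card h2).pow (n := N)
    obtain ⟨k, hk⟩ := this
    omega)

omit hN in
theorem gcd_pow_of_two (h2 : (2 : F) = 0) (hN0 : 0 < N) {d : ℕ} (hd : d ∣ 4) :
    Nat.gcd d (Fintype.card F ^ N - 1) = 1 := by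
  have hev : Even (Fintype.card F ^ N) := (even_card h2).pow_of_ne_zero (by omega)
  have hpos : 0 < Fintype.card F ^ N := pow_pos Fintype.card_pos _
  obtain ⟨k, hk⟩ := hev
  have hg4 : Nat.gcd d (Fintype.card F ^ N - 1) ∣ 4 := (Nat.gcd_dvd_left _ _).trans hd
  have hgr : Nat.gcd d (Fintype.card F ^ N - 1) ∣ Fintype.card F ^ N - 1 := Nat.gcd_dvd_right _ _
  have hle := Nat.le_of_dvd (by norm_num) hg4
  generalize Nat.gcd d (Fintype.card F ^ N - 1) = g at hg4 hgr hle ⊢
  interval_cases g <;> omega

omit hN in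
theorem gcd_four_pow (h2 : (2 : F) ≠ 0) (hodd : Odd N) :
    Nat.gcd 4 (Fintype.card F ^ N - 1) = if Fintype.card F % 4 = 3 then 2 else 4 := by
  obtain ⟨m, rfl⟩ := hodd
  obtain ⟨j, hj⟩ := odd_card h2
  set q := Fintype.card F
  have hq : q ^ (2 * m + 1) % 4 = q % 4 := by
    rw [Nat.pow_mod, pow_succ, pow_mul]
    rcases (show q % 4 = 1 ∨ q % 4 = 3 by omega) with e | e <;> rw [e] <;> simp [Nat.mul_mod, Nat.pow_mod]
  rw [Nat.gcd_rec]
  split_ifs with h
  · rw [show (q ^ (2 * m + 1) - 1) % 4 = 2 by omega]; rfl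
  · rw [show (q ^ (2 * m + 1) - 1) % 4 = 0 by omega]; rfl

open Classical in
theorem card_ker_trivial (h : negOne (quadPlus N F) ∉ Omega F ⇑(quadPlus N F) ∨ (2 : F) = 0) :
    Nat.card (toPO (F := F) hN).ker = if (2 : F) = 0 then 1 else 2 := by
  classical
  have heq : ((toPO (F := F) hN).ker : Set (Cov F N)) = {1, zc hN} := by
    ext s; simp [ker_of_trivial hN h]
  rw [← SetLike.coe_sort_coe, Nat.card_coe_set_eq, heq]
  split_ifs with h2
  · simp [zc_eq_one hN h2]
  · exact Set.ncard_pair (zc_ne_one hN h2).symm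

/-- Even rank. -/
theorem multiplier_even (hexc : ¬ (N = 4 ∧ Fintype.card F = 2)) (hev : Even N) :
    Cfsg.HasSchurMultiplier (Cfsg.POmega F ⇑(quadPlus N F))
      (Multiplicative (ZMod (Nat.gcd 2 (Fintype.card F ^ N - 1)) ×
        ZMod (Nat.gcd 2 (Fintype.card F ^ N - 1)))) := by
  haveI := cov_finite (F := F) hN
  have hperf : commutator (Cov F N) = ⊤ := gam_perfect _ (by omega)
  have key := fun (A : Type) (_ : CommGroup A) (e : A ≃* (toPO (F := F) hN).ker) =>
    hasMultiplier_of_lifts (toPO hN) (toPO_surjective hN) (toPO_ker_le hN) hperf (splits_cov hN hexc) e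
  by_cases h2 : (2 : F) = 0
  · rw [gcd_pow_of_two h2 (by omega) (by norm_num)]
    haveI := (Nat.card_eq_one_iff_unique.1 (by
      rw [card_ker_trivial hN (.inr h2), if_pos h2] : Nat.card (toPO (F := F) hN).ker = 1)).1
    haveI : Subsingleton (Multiplicative (ZMod 1 × ZMod 1)) := inferInstanceAs (Subsingleton (ZMod 1 × ZMod 1))
    haveI : Unique (Multiplicative (ZMod 1 × ZMod 1)) := uniqueOfSubsingleton 1
    haveI : Unique (toPO (F := F) hN).ker := uniqueOfSubsingleton 1
    exact key _ inferInstance MulEquiv.ofUnique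
  · rw [gcd_two_pow h2]
    obtain ⟨u, husq, hu⟩ := exists_even_lift (F := F) hN hev
    obtain ⟨heq, hcard⟩ := ker_of_lift hN h2 hu
    obtain ⟨e⟩ := ker_klein hcard fun x => by
      have hx : x.1 ∈ ((toPO (F := F) hN).ker : Set (Cov F N)) := x.2
      rw [heq] at hx
      have huz : Commute u (zc hN) := Subgroup.mem_center_iff.1 (zc_central hN) u
      refine Subtype.ext ?_
      simp only [Set.mem_insert_iff, Set.mem_singleton_iff] at hx
      rcases hx with h | h | h | h <;> rw [Subgroup.coe_mul, Subgroup.coe_one, h]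
      · exact one_mul 1
      · exact zc_sq hN
      · exact husq
      · rw [huz.symm.mul_mul_mul_comm, husq, zc_sq, one_mul]
    exact key _ inferInstance e

/-- Odd rank. -/
theorem multiplier_odd (hodd : Odd N) :
    Cfsg.HasCyclicSchurMultiplier (Cfsg.POmega F ⇑(quadPlus N F)) (Nat.gcd 4 (Fintype.card F ^ N - 1)) := by
  classical
  haveI := cov_finite (F := F) hN
  have hperf : commutator (Cov F N) = ⊤ := gam_perfect _ (by omega)
  have hexc : ¬ (N = 4 ∧ Fintype.card F = 2) := fun h => by
    obtain ⟨m, rfl⟩ := hodd; omega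
  have key := fun (n : ℕ) (hc : IsCyclic (toPO (F := F) hN).ker) (hn : Nat.card (toPO (F := F) hN).ker = n) =>
    ChevSt.hasCyclic_of_lifts (toPO hN) (toPO_surjective hN) (toPO_ker_le hN) hperf (splits_cov hN hexc) hc hn
  by_cases h2 : (2 : F) = 0
  · rw [gcd_pow_of_two h2 (by omega) (dvd_refl 4)]
    have hc : Nat.card (toPO (F := F) hN).ker = 1 := by rw [card_ker_trivial hN (.inr h2), if_pos h2]
    haveI := (Nat.card_eq_one_iff_unique.1 hc).1
    exact key 1 isCyclic_of_subsingleton hc
  rw [gcd_four_pow h2 hodd]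
  by_cases hq : Fintype.card F % 4 = 3
  · rw [if_pos hq]
    have hneg : negOne (quadPlus N F) ∉ Omega F ⇑(quadPlus N F) := by
      rw [negOne_mem_omega_iff _ (quadPlus_nondegenerate N) h2 (by simp),
        quadPlus_coe, det_gram_quadPlus, hodd.neg_one_pow,
        quadraticChar_one_iff_isSquare (neg_ne_zero.2 one_ne_zero), FiniteField.isSquare_neg_one_iff]
      simp [hq]
    have hc : Nat.card (toPO (F := F) hN).ker = 2 := by rw [card_ker_trivial hN (.inl hneg), if_neg h2]
    haveI : Fact (Nat.Prime 2) := ⟨Nat.prime_two⟩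
    exact key 2 (isCyclic_of_prime_card hc) hc
  · rw [if_neg hq]
    obtain ⟨i, hi⟩ := (FiniteField.isSquare_neg_one_iff (F := F)).2 hq
    have hi0 : i ≠ 0 := fun e => one_ne_zero (α := F) (by rw [e, mul_zero] at hi; linear_combination -hi)
    obtain ⟨u, husq, hu⟩ := exists_odd_lift (F := F) hN h2 hodd (c := Units.mk0 i hi0) (Units.ext hi.symm)
    obtain ⟨heq, hcard⟩ := ker_of_lift hN h2 hu
    have humem : u ∈ (toPO (F := F) hN).ker := by
      show u ∈ ((toPO (F := F) hN).ker : Set (Cov F N))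
      rw [heq]; simp
    haveI : Fact (Nat.Prime 2) := ⟨Nat.prime_two⟩
    have ho : orderOf (⟨u, humem⟩ : (toPO (F := F) hN).ker) = Nat.card (toPO (F := F) hN).ker := by
      rw [hcard]
      refine orderOf_eq_prime_pow (p := 2) (n := 1) (fun e => zc_ne_one hN h2 ?_) ?_
      · have := congrArg Subtype.val e
        simpa [pow_two, husq] using this
      · refine Subtype.ext ?_
        show u ^ 4 = 1
        rw [show (4 : ℕ) = 2 * 2 from rfl, pow_mul, pow_two, pow_two, husq, zc_sq hN]
    exact key 4 (isCyclic_of_orderOf_eq_card _ ho) hcard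

end Cfsg.Agent.OrthMult
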