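/-
The Schur multiplier of PΩ_{2m+1}(q), q odd.

* `multiplier_odd_dim`: it has order two.
-/
import Cfsg.Agent.Lib.OrthMult.Model
import Cfsg.Agent.Lib.OrthBN.Models
import Cfsg.Agent.Lib.Orth.Order
import Cfsg.Agent.Lib.OrthMult.Plus

set_option autoImplicit false

open Matrix
open QuadraticMap (polar)

namespace Cfsg.Agent.OrthMult

open CurtisTitsA CurtisTitsD
open Cfsg.Agent.Orth hiding quadPlus
open Cfsg.Agent.OrthBN (OFrame frameOdd frameOdd_off)

universe u

variable {F : Type u} [Field F] [Fintype F]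

theorem negOne_notMem_of_odd {ι : Type} [Fintype ι] [DecidableEq ι] (Q : QuadraticForm F (ι → F))
    (h2 : (2 : F) ≠ 0) (hodd : Odd (Fintype.card ι)) : negOne Q ∉ Omega F ⇑Q := fun h => by
  have hk := Abelianization.commutator_subset_ker
    (Matrix.GeneralLinearGroup.det.comp (isometryGroup F ⇑Q).subtype) h
  have hv : (-1 : Matrix ι ι F).det = 1 := congrArg Units.val hk
  rw [Matrix.det_neg, Matrix.det_one, hodd.neg_one_pow, mul_one] at hv
  exact h2 (by linear_combination -hv)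

theorem multiplier_odd_dim {m : ℕ} (hm : 3 ≤ m) (hodd : Odd (Fintype.card F))
    (hexc : ¬ (m = 3 ∧ Fintype.card F = 3)) :
    Cfsg.HasCyclicSchurMultiplier (Cfsg.POmega F (Cfsg.quadFormOdd m F)) 2 := by
  classical
  have h2 : (2 : F) ≠ 0 := fun h2 => by
    obtain ⟨k, hk⟩ := hodd
    obtain ⟨j, hj⟩ := even_card h2
    omega
  set Q := quadOdd m F
  let Φ := frameOdd (F := F) m h2
  have hcard : Fintype.card (Unit ⊕ (Fin m ⊕ Fin m)) = 2 * m + 1 := by simp; omega
  have hG : Orth.Good Q := Good.of_two_ne_zero (quadOdd_nondeg m h2) h2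
  have heq : Omega F ⇑Q = eichGen Q := omega_eq_eichGen hG (by omega) (.inr (by omega))
  have hperf : Omega F ⇑Q ≤ ⁅Omega F ⇑Q, Omega F ⇑Q⁆ := omega_le_commutator_omega hG (by omega)
  obtain ⟨k, hk⟩ := hodd
  have h1 := Fintype.one_lt_card (α := F)
  have ok : SLMult.Ok (Fin m) F := by
    refine ⟨by simp; omega, fun _ => ⟨by omega, by omega⟩, fun _ => by omega⟩
  have big : 4 ≤ m ∨ 4 ≤ Fintype.card F := by omega
  let X₀ := spinExt Φ hm (.inl (rels_of_ok ok big)) heq
  let X := X₀.derived hperf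
  haveI hfin : Finite (commutator (liftGrp Q)) := X₀.finite_derived
  have hp : commutator (commutator (liftGrp Q)) = ⊤ := X₀.derived_perfect hperf
  let p₀ : Fin m := ⟨m - 2, by omega⟩
  let r₀ : Fin m := ⟨m - 1, by omega⟩
  have hne : p₀ ≠ r₀ := by simp [p₀, r₀, Fin.ext_iff]; omega
  have hz : zz X.D p₀ r₀ ≠ 1 := fun e => zz_spinExt_ne_one Φ hm (.inl (rels_of_ok ok big)) heq h2 hne (by
    have := Ext.map_zz' X₀ X (commutator (liftGrp Q)).subtype (fun _ => rfl) hne
    rw [e, map_one] at this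
    exact this.symm)
  let w₀ : Unit ⊕ (Fin m ⊕ Fin m) → F := Pi.single (.inl ()) 1
  have hw₀ : Φ.Off w₀ := fun b => by
    simp [Φ, w₀, frameOdd, coe_quadOdd, polar_quadOdd, Pi.single_apply]
  have hQ₀ : Q w₀ ≠ 0 := by simp [Q, w₀, coe_quadOdd, quadFormOdd]
  have hline : ∀ w, Φ.Off w → ∃ c : F, w = c • w₀ := fun w hw => ⟨_, frameOdd_off (h2 := h2) hw⟩
  have hK : KerTwo Φ p₀ r₀ := Ext.kerTwo_line hw₀ hQ₀ hline (by simp [p₀]; omega) (by simp [r₀]; omega)
  have hsplit := X.splits hK hp hne (fun h => absurd h hz) (rels_of_ok ok big)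
  have hrange : ∀ g, X.π g ∈ Omega F ⇑Q := fun g => X.range_eq ▸ ⟨g, rfl⟩
  let θ : commutator (liftGrp Q) →* Cfsg.POmega F ⇑Q :=
    (QuotientGroup.mk' (Subgroup.center (Omega F ⇑Q))).comp (X.π.codRestrict _ hrange)
  have hker : θ.ker = X.π.ker := by
    ext g
    rw [MonoidHom.mem_ker, MonoidHom.comp_apply, QuotientGroup.mk'_apply, QuotientGroup.eq_one_iff,
      center_omega_eq_bot (quadOdd_nondeg m h2) (by omega) heq.ge
        (.inl (negOne_notMem_of_odd Q h2 ⟨m, hcard⟩)), Subgroup.mem_bot, MonoidHom.mem_ker]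
    exact ⟨fun h => congrArg Subtype.val h, fun h => Subtype.ext h⟩
  have hθ : Function.Surjective θ := by
    refine (QuotientGroup.mk'_surjective _).comp fun y => ?_
    obtain ⟨g, hg⟩ : y.1 ∈ X.π.range := by rw [X.range_eq]; exact y.2
    exact ⟨g, Subtype.ext hg⟩
  have hcard2 : Nat.card θ.ker = 2 := by
    have hset : (θ.ker : Set _) = {1, zz X.D p₀ r₀} := by
      ext g
      rw [SetLike.mem_coe, hker, MonoidHom.mem_ker, Set.mem_insert_iff, Set.mem_singleton_iff]
      refine ⟨X.ker_two hK hp, ?_⟩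
      rintro (rfl | rfl)
      · exact map_one _
      · exact X.π_zz_one_of hne
    rw [← SetLike.coe_sort_coe, Nat.card_coe_set_eq, hset]
    exact Set.ncard_pair hz.symm
  haveI : Fact (Nat.Prime 2) := ⟨Nat.prime_two⟩
  exact ChevSt.hasCyclic_of_lifts θ hθ (hker.le.trans X.central) hp hsplit (isCyclic_of_prime_card hcard2) hcard2

end Cfsg.Agent.OrthMult
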