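/-
The kernel at the last index, from a torus containing the quotients of the short Weyl elements.

* `Ext.base_of_torus`.
-/
import Cfsg.Agent.Lib.OrthMult.CellStep

set_option autoImplicit false
set_option linter.unusedSectionVars false

open Matrix
open QuadraticMap (polar)
open scoped commutatorElement

namespace Cfsg.Agent.OrthMult

open CurtisTitsA CurtisTitsD
open Cfsg.Agent.Orth hiding quadPlus
open Cfsg.Agent.OrthAct (quadPlus)
open Cfsg.Agent.OrthBN (OFrame)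

universe u

variable {F : Type u} [Field F] [Fintype F] {ι : Type} [Fintype ι] [DecidableEq ι] {N : ℕ}
  {Q : QuadraticForm F (ι → F)} {Φ : OFrame Q N}

local notation "SI" => (Fin N ⊕ Fin N)

namespace Ext

variable {Γ : Type u} [Group Γ] [Finite Γ] (X : Ext Φ Γ)

theorem base_of_torus {r : Fin N} (hrN : r.val + 1 = N) {w₀ : ι → F} (hw₀ : Φ.Off w₀) (hQ₀ : Q w₀ ≠ 0)
    (H : Subgroup Γ) (hmono : ∀ h ∈ H, ∃ α : SI → F, Mono Φ (X.π h) id α)
    (hconj : ∀ h ∈ H, X.nS r w₀ * h * (X.nS r w₀)⁻¹ ∈ H) (hsq : X.nS r w₀ * X.nS r w₀ ∈ H)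
    (hquot : ∀ u, Φ.Off u → u ≠ 0 → X.nS r u * (X.nS r w₀)⁻¹ ∈ H) {zc : Γ}
    (hker : ∀ h ∈ H, X.π h = 1 → h = 1 ∨ h = zc) {g : Γ} (hg : g ∈ X.GS r.val) (h1 : X.π g = 1) :
    g = 1 ∨ g = zc := by
  set n := X.nS r w₀ with hn
  set Sl := fun w => X.S (Sum.inl r : SI) w
  let Y : Set Γ := {g | (∃ x, ∃ c ∈ H, Φ.Off x ∧ g = Sl x * c) ∨
    ∃ x y, ∃ c ∈ H, Φ.Off x ∧ Φ.Off y ∧ g = Sl x * n * Sl y * c}
  have h0 : Φ.Off (0 : ι → F) := fun a => pl_zero_right Q _
  have hTS : ∀ c ∈ H, ∀ y, Φ.Off y → ∃ y', Φ.Off y' ∧ c * Sl y = Sl y' * c := fun c hc y hy => by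
    obtain ⟨α, hα⟩ := hmono c hc
    exact ⟨_, off_smul (hα.off hy) _, by
      show c * X.S (Sum.inl r) y = _
      rw [← mul_inv_eq_iff_eq_mul]
      exact X.S_mono hα hy⟩
  have hsurj : ∀ z, Φ.Off z → z ≠ 0 → ∃ (a : ι → F), ∃ c ∈ H, Φ.Off a ∧
      X.S (Sum.inr r) z = Sl a * c * n * Sl a := fun z hz hz0 => by
    have hQz : Q z ≠ 0 := fun h => hz0 (Φ.aniso z hz h)
    set u := (Q z)⁻¹ • z
    have hu : Φ.Off u := off_smul hz _
    refine ⟨-u, _, hquot u hu (smul_ne_zero (inv_ne_zero hQz) hz0), off_neg hu, ?_⟩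
    have e : (Q u)⁻¹ • u = z := by
      simp only [u, Q_smul, smul_smul]
      rw [show ((Q z)⁻¹ * (Q z)⁻¹ * Q z)⁻¹ * (Q z)⁻¹ = 1 by field_simp, one_smul]
    simp only [Sl, X.S_neg _ hu, mul_assoc _ (X.nS r u * n⁻¹) n, inv_mul_cancel_right, nS, e]
    group
  have hSY : ∀ a, Φ.Off a → ∀ g ∈ Y, Sl a * g ∈ Y := by
    intro a ha g hg
    rcases hg with ⟨x, c, hc, hx, rfl⟩ | ⟨x, y, c, hc, hx, hy, rfl⟩
    · exact .inl ⟨a + x, c, hc, off_add ha hx, by simp only [Sl, X.S_add _ ha hx]; group⟩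
    · exact .inr ⟨a + x, y, c, hc, off_add ha hx, hy, by simp only [Sl, X.S_add _ ha hx]; group⟩
  have hnd : ∀ d ∈ H, ∃ d' ∈ H, d * n = n * d' := fun d hd => by
    refine ⟨(n * n)⁻¹ * (n * d * n⁻¹) * (n * n), mul_mem (mul_mem (inv_mem hsq) (hconj d hd)) hsq, ?_⟩
    group
  have hTY : ∀ d ∈ H, ∀ g ∈ Y, d * g ∈ Y := by
    intro d hd g hg
    rcases hg with ⟨x, c, hc, hx, rfl⟩ | ⟨x, y, c, hc, hx, hy, rfl⟩
    · obtain ⟨x', hx', e⟩ := hTS d hd x hx
      exact .inl ⟨x', d * c, mul_mem hd hc, hx', by rw [← mul_assoc, e, mul_assoc]⟩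
    · obtain ⟨x', hx', e⟩ := hTS d hd x hx
      obtain ⟨d', hd', ed⟩ := hnd d hd
      obtain ⟨y', hy', e'⟩ := hTS d' hd' y hy
      refine .inr ⟨x', y', d' * c, mul_mem hd' hc, hx', hy', ?_⟩
      calc d * (Sl x * n * Sl y * c) = (d * Sl x) * n * Sl y * c := by group
        _ = Sl x' * (d * n) * Sl y * c := by rw [e]; group
        _ = Sl x' * n * (d' * Sl y) * c := by rw [ed]; group
        _ = _ := by rw [e']; group
  have hnY : ∀ g ∈ Y, n * g ∈ Y := by
    intro g hg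
    rcases hg with ⟨x, c, hc, hx, rfl⟩ | ⟨x, y, c, hc, hx, hy, rfl⟩
    · exact .inr ⟨0, x, c, hc, h0, hx, by simp only [Sl, X.S_zero]; group⟩
    by_cases hx0 : x = 0
    · subst hx0
      simp only [Sl, X.S_zero, one_mul]
      rw [show n * (n * X.S (Sum.inl r) y * c) = n * n * (X.S (Sum.inl r) y * c) by group]
      exact hTY _ hsq _ (.inl ⟨y, c, hc, hy, rfl⟩)
    have hM := X.mono_nS (r := r) hw₀ hQ₀
    have e := X.S_mono hM (b := Sum.inl r) hx
    rw [show nσ r (Sum.inl r : SI) = Sum.inr r by simp [nσ, bar]] at e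
    set z := nα r (Q w₀) (Sum.inl r) • ap (X.π (X.nS r w₀)) x
    have hz0 : z ≠ 0 := fun h => hx0 (by
      rcases smul_eq_zero.1 h with h | h
      · exact absurd h (hM.ne_zero _)
      · exact ap_inj _ (h.trans (map_zero _).symm))
    obtain ⟨a, d, hd, ha, ea⟩ := hsurj z (off_smul (hM.off hx) _) hz0
    obtain ⟨a', ha', e'⟩ := hTS _ hsq y hy
    have hmem : d * (Sl 0 * n * Sl (a + a') * (n * n * c)) ∈ Y :=
      hTY d hd _ (.inr ⟨0, a + a', n * n * c, mul_mem hsq hc, h0, off_add ha ha', rfl⟩)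
    have := hSY a ha _ hmem
    refine (show n * (Sl x * n * Sl y * c) = _ from ?_) ▸ this
    calc n * (Sl x * n * Sl y * c) = (n * Sl x * n⁻¹) * (n * n) * Sl y * c := by group
      _ = (Sl a * d * n * Sl a) * ((n * n) * Sl y) * c := by
        rw [show n * Sl x * n⁻¹ = Sl a * d * n * Sl a from e.trans ea]; group
      _ = Sl a * (d * (n * (Sl a * Sl a') * (n * n * c))) := by rw [e']; group
      _ = _ := by simp only [Sl, ← X.S_add _ ha ha', X.S_zero]; group
  let L : Submonoid Γ :=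
    { carrier := {x | ∀ g ∈ Y, x * g ∈ Y}
      one_mem' := fun g hg => by rwa [one_mul]
      mul_mem' := fun {a b} ha hb g hg => by rw [mul_assoc]; exact ha _ (hb g hg) }
  have inv_L : ∀ {y : Γ}, y ∈ L → y⁻¹ ∈ L := fun {y} hy => by
    rw [inv_eq_of_mul_eq_one_right (b := y ^ (orderOf y - 1))
      (by rw [← pow_succ', Nat.sub_add_cancel (orderOf_pos y), pow_orderOf_eq_one])]
    exact pow_mem hy _
  let L' : Subgroup Γ := { L with inv_mem' := inv_L }
  have hle : X.GS r.val ≤ L' := by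
    have hS : ∀ a, Φ.Off a → Sl a ∈ L' := fun a ha g hg => hSY a ha g hg
    have hcase : ∀ a : SI, r.val ≤ (ix a).val → ix a = r := fun a ha => Fin.ext (by have := (ix a).2; omega)
    refine X.GS_le (fun a b t hab ha hb => absurd ((hcase a ha).trans (hcase b hb).symm) hab.idx)
      fun a w hw ha => ?_
    rcases eq_inl_or_inr a with e | e <;> rw [show Sum.elim id id a = r from hcase a ha] at e <;> subst e
    · exact hS w hw
    · rcases eq_or_ne w 0 with rfl | hw0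
      · rw [X.S_zero]; exact one_mem _
      obtain ⟨a, c, hc, ha', e⟩ := hsurj w hw hw0
      rw [e]
      exact mul_mem (mul_mem (mul_mem (hS a ha') (fun g hg => hTY c hc g hg)) (fun g hg => hnY g hg)) (hS a ha')
  have hgY : g ∈ Y := by
    have := hle hg 1 (.inl ⟨0, 1, one_mem _, h0, by simp [Sl, X.S_zero]⟩)
    rwa [mul_one] at this
  have hee : ∀ w, Φ.Off w → ap (X.π (Sl w)) (Φ.v (Sum.inl r)) = Φ.v (Sum.inl r) := fun w hw => by
    rw [X.π_S hw]; exact eich_ap_fix (Φ.sing _) (hw _) (pl_v_self _) (Φ.off_pl hw _)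
  rcases hgY with ⟨x, c, hc, hx, rfl⟩ | ⟨x, y, c, hc, hx, hy, rfl⟩
  · obtain ⟨α, hα⟩ := hmono c hc
    have hx1 : x = 0 := by
      have hf := congrArg (fun k => ap k (Φ.v (Sum.inr r))) h1
      rw [map_mul, ap_mul, hα.act, map_smul, id, X.π_S hx, eich_ap (Φ.sing _) (hx _), ap_one,
        show polar ⇑Q (Φ.v (Sum.inl r)) (Φ.v (Sum.inr r)) = 1 from pl_vbar _,
        Φ.off_pl hx, one_smul, zero_add, mul_one] at hf
      have h := congrArg Φ.proj hf
      have pv : ∀ a : SI, Φ.proj (Φ.v a) = 0 := fun a => by rw [← sumv_ev, proj_sumv]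
      have px : Φ.proj x = x := by
        have := decomp' Φ x
        rw [coords_off Φ hx, map_zero, zero_add] at this
        exact this.symm
      simp [map_sub, map_add, map_smul, pv, px, hα.ne_zero] at h
      exact h
    subst hx1
    simp only [Sl, X.S_zero, one_mul] at h1 ⊢
    exact hker c hc h1
  · exfalso
    obtain ⟨α, hα⟩ := hmono c hc
    have he : ap (X.π (Sl x * n * Sl y * c)) (Φ.v (Sum.inl r)) = Φ.v (Sum.inl r) := by rw [h1, ap_one]
    rw [map_mul, map_mul, map_mul, ap_mul, ap_mul, ap_mul, hα.act, map_smul, id, hee y hy, map_smul,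
      (X.mono_nS (r := r) hw₀ hQ₀).act, map_smul, map_smul,
      show nσ r (Sum.inl r : SI) = Sum.inr r by simp [nσ, bar], X.π_S hx] at he
    have h := congrFun (congrArg (coords Φ) he) (Sum.inr r)
    rw [eich_ap (Φ.sing _) (hx _)] at h
    simp [coords_v, coords_off Φ hx, ev, nα, hQ₀, hα.ne_zero] at h

end Ext

end Cfsg.Agent.OrthMult
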