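/-
A plane outside the frame given by a quadratic extension field: the torus of the last index.

* `Plane`; `Ext.hTor`: the torus is an image of the units of the field; `Plane.kerTwo`.
-/
import Cfsg.Agent.Lib.OrthMult.Maps
import Cfsg.Agent.Lib.OrthMult.Torus2

set_option autoImplicit false
set_option linter.unusedSectionVars false

open Matrix
open QuadraticMap (polar)
open scoped commutatorElement

namespace Cfsg.Agent.OrthMult

open CurtisTitsA CurtisTitsD
open Cfsg.Agent.Orth hiding quadPlus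
open Cfsg.Agent.OrthAct (quadPlus)
open Cfsg.Agent.OrthBN (OFrame)

universe u

variable {F : Type u} [Field F] [Fintype F] {ι : Type} [Fintype ι] [DecidableEq ι] {N : ℕ}
  {Q : QuadraticForm F (ι → F)} {Φ : OFrame Q N}

local notation "SI" => (Fin N ⊕ Fin N)

/-- The vectors outside the frame as a field with conjugation, the form being the norm. -/
structure Plane (Φ : OFrame Q N) (K : Type u) [Field K] [Algebra F K] where
  /-- the conjugation -/
  conj : K →+* K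
  conj_conj : ∀ z, conj (conj z) = z
  /-- the vectors -/
  ν : K →ₗ[F] (ι → F)
  off : ∀ z, Φ.Off (ν z)
  surj : ∀ w, Φ.Off w → ∃ z, ν z = w
  nrm : ∀ z, z * conj z = algebraMap F K (Q (ν z))

namespace Plane

variable {K : Type u} [Field K] [Algebra F K] (P : Plane Φ K)

theorem Q_ne_zero {z : K} (hz : z ≠ 0) : Q (P.ν z) ≠ 0 := fun h => by
  have := P.nrm z
  rw [h, map_zero] at this
  rcases mul_eq_zero.1 this with e | e
  · exact hz e
  · exact hz (by rw [← P.conj_conj z, e, map_zero])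

theorem conj_ne_zero {z : K} (hz : z ≠ 0) : P.conj z ≠ 0 := fun e => hz (by rw [← P.conj_conj z, e, map_zero])

theorem polar_ν (u v : K) : algebraMap F K (polar ⇑Q (P.ν u) (P.ν v)) = u * P.conj v + v * P.conj u := by
  have h : polar ⇑Q (P.ν u) (P.ν v) = Q (P.ν (u + v)) - Q (P.ν u) - Q (P.ν v) := by rw [map_add, Q_add]; ring
  rw [h, map_sub, map_sub, ← P.nrm, ← P.nrm, ← P.nrm, map_add]
  ring

theorem ν_inj : Function.Injective P.ν := fun a b e => by
  by_contra hne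
  exact P.Q_ne_zero (sub_ne_zero.2 hne) (by rw [map_sub, e, sub_self, QuadraticMap.map_zero])

/-- A reflection in the field. -/
theorem ν_refl {u : K} (hu : u ≠ 0) (v : K) :
    P.ν v - (polar ⇑Q (P.ν u) (P.ν v) / Q (P.ν u)) • P.ν u = P.ν (-(u * P.conj v / P.conj u)) := by
  rw [← map_smul, ← map_sub]
  congr 1
  rw [Algebra.smul_def, map_div₀, P.polar_ν, ← P.nrm]
  have := P.conj_ne_zero hu
  field_simp
  ring

end Plane

namespace Ext

variable {Γ : Type u} [Group Γ] (X : Ext Φ Γ) {r : Fin N}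

theorem ap_nS_off {w z : ι → F} (hw : Φ.Off w) (hQ : Q w ≠ 0) (hz : Φ.Off z) :
    ap (X.π (X.nS r w)) z = z - (polar ⇑Q w z / Q w) • w := by
  set s := (Q w)⁻¹
  have hws := off_smul hw s
  have hef : polar ⇑Q (Φ.v (Sum.inl r)) (Φ.v (Sum.inr r)) = 1 := pl_vbar (Sum.inl r)
  have hfe : polar ⇑Q (Φ.v (Sum.inr r)) (Φ.v (Sum.inl r)) = 1 := by rw [pl_comm Q, hef]
  have hee : polar ⇑Q (Φ.v (Sum.inl r)) (Φ.v (Sum.inl r)) = 0 := pl_v_self _
  have hff : polar ⇑Q (Φ.v (Sum.inr r)) (Φ.v (Sum.inr r)) = 0 := pl_v_self _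
  have hew : polar ⇑Q (Φ.v (Sum.inl r)) w = 0 := hw _
  have hfw : polar ⇑Q (Φ.v (Sum.inr r)) w = 0 := hw _
  have hez : polar ⇑Q (Φ.v (Sum.inl r)) z = 0 := hz _
  have hfz : polar ⇑Q (Φ.v (Sum.inr r)) z = 0 := hz _
  have hwe : polar ⇑Q w (Φ.v (Sum.inl r)) = 0 := Φ.off_pl hw _
  have hwf : polar ⇑Q w (Φ.v (Sum.inr r)) = 0 := Φ.off_pl hw _
  rw [nS, map_mul, map_mul, X.π_S hw, X.π_S hws, ap_mul, ap_mul]
  simp only [eich_ap (Φ.sing (Sum.inl r)) (hw (Sum.inl r)), eich_ap (Φ.sing (Sum.inr r)) (hws (Sum.inr r)),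
    pl_add_right, pl_sub_right, pl_smul_right, pl_smul_left, Q_smul, pl_self, hef, hfe, hee, hff, hew, hfw,
    hez, hfz, hwe, hwf, map_add, map_sub, map_smul]
  match_scalars <;> simp only [s, Φ.sing] <;> field_simp <;> ring

theorem nS_rev {w : ι → F} (hw : Φ.Off w) (hQ : Q w ≠ 0) :
    X.S (Sum.inr r) ((Q w)⁻¹ • w) * X.S (Sum.inl r) w * X.S (Sum.inr r) ((Q w)⁻¹ • w) = X.nS r w := by
  have hM := X.mono_nS (r := r) hw hQ
  set n := X.nS r w
  set x := X.S (Sum.inl r) w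
  set y := X.S (Sum.inr r) ((Q w)⁻¹ • w)
  have e1 : n * x * n⁻¹ = y := by
    rw [X.S_mono hM hw, X.ap_nS_off hw hQ hw, pl_self]
    congr 1
    · simp [nσ, bar]
    · simp only [nα, if_pos]
      match_scalars
      field_simp
      ring
  have e2 : n * y * n⁻¹ = x := by
    rw [X.S_mono hM (off_smul hw _), map_smul, X.ap_nS_off hw hQ hw, pl_self]
    congr 1
    · simp [nσ, bar]
    · simp only [nα, if_pos, reduceCtorEq, if_false]
      match_scalars
      field_simp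
      ring
  calc y * x * y = n * x * n⁻¹ * (n * y * n⁻¹) * (n * x * n⁻¹) := by rw [e1, e2]
    _ = n * (x * y * x) * n⁻¹ := by group
    _ = n := by show n * n * n⁻¹ = n; group

variable {K : Type u} [Field K] [Algebra F K] (P : Plane Φ K) (r)

/-- The short Weyl element of a unit. -/
noncomputable abbrev nP (u : Kˣ) : Γ := X.nS r (P.ν u)

/-- The torus element of a unit. -/
noncomputable def hP (u : Kˣ) : Γ := X.nP r P u * (X.nP r P 1)⁻¹

theorem nP_neg (u : Kˣ) : X.nP r P (-u) = (X.nP r P u)⁻¹ := by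
  rw [nP, Units.val_neg, map_neg, X.nS_neg (P.off _)]

theorem nP_conj (u v : Kˣ) : X.nP r P u * X.nP r P v * (X.nP r P u)⁻¹ = X.nP r P (u * u * v⁻¹) := by
  have hu := P.Q_ne_zero u.ne_zero
  have hv := P.Q_ne_zero v.ne_zero
  have hM := X.mono_nS (r := r) (P.off u) hu
  obtain ⟨w', hw'⟩ : ∃ w', w' = P.ν ((u * u * v⁻¹ : Kˣ) : K) := ⟨_, rfl⟩
  have key : ap (X.π (X.nP r P u)) (P.ν v) = -((Q (P.ν v) / Q (P.ν u)) • w') := by
    rw [nP, X.ap_nS_off (P.off _) hu (P.off _), P.ν_refl u.ne_zero, hw', ← map_smul, ← map_neg]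
    congr 1
    rw [Algebra.smul_def, map_div₀, ← P.nrm, ← P.nrm, Units.val_mul, Units.val_mul, Units.val_inv_eq_inv_val]
    have := P.conj_ne_zero u.ne_zero
    field_simp
  have hQ' : Q w' = Q (P.ν u) * Q (P.ν u) / Q (P.ν v) := by
    refine (algebraMap F K).injective ?_
    rw [hw', map_div₀, map_mul, ← P.nrm, ← P.nrm, ← P.nrm, Units.val_mul, Units.val_mul, Units.val_inv_eq_inv_val,
      map_mul, map_mul, map_inv₀]
    field_simp
  have hoff : Φ.Off w' := hw' ▸ P.off _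
  have hQ0 : Q w' ≠ 0 := hw' ▸ P.Q_ne_zero (Units.ne_zero _)
  show X.nS r (P.ν u) * X.nS r (P.ν v) * (X.nS r (P.ν u))⁻¹ = _
  conv_lhs => arg 1; arg 2; rw [nS]
  rw [show ∀ a b g : Γ, g * (a * b * a) * g⁻¹ = g * a * g⁻¹ * (g * b * g⁻¹) * (g * a * g⁻¹) from
    fun a b g => by group, X.S_mono hM (P.off _), X.S_mono hM (off_smul (P.off _) _), map_smul]
  simp only [nP] at key
  rw [key]
  rw [nP, ← hw']
  rw [← X.nS_rev hoff hQ0]
  have s1 : -(nα r (Q (P.ν u)) (Sum.inl r) • (Q (P.ν v) / Q (P.ν u)) • w') = (Q w')⁻¹ • w' := by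
    simp only [nα, if_pos, hQ']
    match_scalars
    field_simp
  have s2 : -(nα r (Q (P.ν u)) (Sum.inr r) • (Q (P.ν v))⁻¹ • (Q (P.ν v) / Q (P.ν u)) • w') = w' := by
    simp only [nα, if_pos, reduceCtorEq, if_false]
    match_scalars
    field_simp
  simp only [smul_neg, neg_smul] at s1 s2 ⊢
  simp [nσ, bar, s1, s2]

theorem hP_one : X.hP r P 1 = 1 := by rw [hP, mul_inv_cancel]

theorem hP_conj (u v : Kˣ) : X.hP r P u * X.nP r P v * (X.hP r P u)⁻¹ = X.nP r P (u * u * v) := by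
  have e := X.nP_conj r P (-1) v
  rw [neg_mul_neg, one_mul, one_mul, X.nP_neg, inv_inv] at e
  rw [hP, show ∀ a b c : Γ, a * b⁻¹ * c * (a * b⁻¹)⁻¹ = a * (b⁻¹ * c * b) * a⁻¹ from fun a b c => by group, e,
    X.nP_conj, inv_inv]

theorem hP_conj_h (u v : Kˣ) :
    X.hP r P u * X.hP r P v * (X.hP r P u)⁻¹ = X.hP r P (u * u * v) * (X.hP r P (u * u))⁻¹ := by
  have e1 := X.hP_conj r P u v
  have e2 := X.hP_conj r P u 1
  rw [mul_one] at e2
  conv_lhs => arg 1; arg 2; rw [hP]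
  rw [show ∀ a b c : Γ, a * (b * c⁻¹) * a⁻¹ = a * b * a⁻¹ * (a * c * a⁻¹)⁻¹ from fun a b c => by group, e1, e2,
    hP, hP]
  group

theorem nP_sq (v : Kˣ) {p : Fin N} (hpr : p ≠ r) : X.Tor p r (-1) * (X.nP r P v * X.nP r P v) = 1 := by
  have e := X.nS_smul hpr (P.off (v : K)) (P.Q_ne_zero v.ne_zero) (-1)
  rw [Units.val_neg, Units.val_one, neg_one_smul, X.nS_neg (P.off _)] at e
  rw [← mul_assoc, show X.Tor p r (-1) * X.nP r P v = (X.nP r P v)⁻¹ from e.symm, inv_mul_cancel]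

theorem ap_hP_off {p : Fin N} (hpr : p ≠ r) (u : Kˣ) (z : K) :
    ap (X.π (X.hP r P u)) (P.ν z) = P.ν ((u : K) * z / P.conj u) := by
  have h1 : (X.nP r P (1 : Kˣ))⁻¹ = X.nP r P (-1) := (X.nP_neg r P 1).symm
  rw [hP, h1, map_mul, ap_mul, nP, nP, X.ap_nS_off (P.off _) (P.Q_ne_zero (Units.ne_zero _)) (P.off _),
    P.ν_refl (Units.ne_zero _), X.ap_nS_off (P.off _) (P.Q_ne_zero (Units.ne_zero _)) (P.off _),
    P.ν_refl (Units.ne_zero _)]
  congr 1
  simp [map_neg, map_div₀, map_mul, P.conj_conj, neg_div, mul_div_assoc, div_neg]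

theorem mono_hP (u : Kˣ) : Mono Φ (X.π (X.hP r P u)) id
    fun z => if z = Sum.inl r then Q (P.ν u) / Q (P.ν 1) else if z = Sum.inr r then Q (P.ν 1) / Q (P.ν u)
      else 1 := ⟨fun z => by
  have h1 : (X.nP r P (1 : Kˣ))⁻¹ = X.nP r P (-1) := (X.nP_neg r P 1).symm
  have hu := P.Q_ne_zero u.ne_zero
  have h2 : Q (P.ν ((-1 : Kˣ) : K)) = Q (P.ν 1) := by
    rw [Units.val_neg, Units.val_one, map_neg, QuadraticMap.map_neg]
  have hone := P.Q_ne_zero (one_ne_zero (α := K))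
  rw [hP, h1, map_mul, ap_mul, (X.mono_nS (P.off _) (P.Q_ne_zero (Units.ne_zero _))).act, map_smul,
    (X.mono_nS (P.off _) hu).act, smul_smul, h2]
  by_cases hz : ix z = r
  · rcases eq_inl_or_inr z with e | e <;> rw [show Sum.elim id id z = r from hz] at e <;> subst e
    · simp [nσ, nα, bar]
      congr 1
      field_simp
    · simp [nσ, nα, bar]
      congr 1
      field_simp
  · have n1 : z ≠ Sum.inl r := fun e => hz (by rw [e]; rfl)
    have n2 : z ≠ Sum.inr r := fun e => hz (by rw [e]; rfl)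
    simp [nσ, nα, hz, n1, n2]⟩

section Hom

variable {p : Fin N} (hpr : p ≠ r)

include hpr

theorem π_hP_mul (u v : Kˣ) : X.π (X.hP r P (u * v)) = X.π (X.hP r P u) * X.π (X.hP r P v) := by
  have hone : Q (P.ν (1 : K)) = 1 := (algebraMap F K).injective (by
    rw [← P.nrm, map_one, one_mul, map_one])
  have hQm : Q (P.ν ((u * v : Kˣ) : K)) = Q (P.ν u) * Q (P.ν v) := (algebraMap F K).injective (by
    rw [map_mul, ← P.nrm, ← P.nrm, ← P.nrm, Units.val_mul, map_mul]; ring)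
  refine Φ.ext_of (fun c => ?_) fun w hw => ?_
  · rw [ap_mul, (X.mono_hP r P (u * v)).act, (X.mono_hP r P v).act, map_smul]
    simp only [id]
    rw [(X.mono_hP r P u).act, smul_smul, id]
    congr 1
    simp only [hone, hQm, div_one, one_div]
    split_ifs <;> field_simp
  · obtain ⟨z, rfl⟩ := P.surj w hw
    rw [ap_mul, X.ap_hP_off r P hpr, X.ap_hP_off r P hpr, X.ap_hP_off r P hpr, Units.val_mul, map_mul]
    congr 1
    field_simp

theorem hP_commute [Finite K] (u v : Kˣ) : Commute (X.hP r P u) (X.hP r P v) := by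
  obtain ⟨g, hg⟩ := IsCyclic.exists_generator (α := Kˣ)
  let f : Kˣ →* IsoGrp Q := MonoidHom.mk' (fun u => X.π (X.hP r P u)) (X.π_hP_mul r P hpr)
  have key : ∀ x : Kˣ, ∃ (k : ℤ) (z : Γ), z ∈ Subgroup.center Γ ∧ X.hP r P x = X.hP r P g ^ k * z := fun x => by
    obtain ⟨k, rfl⟩ := Subgroup.mem_zpowers_iff.1 (hg x)
    refine ⟨k, (X.hP r P g ^ k)⁻¹ * X.hP r P (g ^ k), X.central ?_, (mul_inv_cancel_left _ _).symm⟩
    rw [MonoidHom.mem_ker, map_mul, map_inv, map_zpow, show X.π (X.hP r P (g ^ k)) = f (g ^ k) from rfl,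
      map_zpow, show f g = X.π (X.hP r P g) from rfl, inv_mul_cancel]
  obtain ⟨i, a, ha, ea⟩ := key u
  obtain ⟨j, b, hb, eb⟩ := key v
  have ca : ∀ y, Commute y a := fun y => Subgroup.mem_center_iff.1 ha y
  have cb : ∀ y, Commute y b := fun y => Subgroup.mem_center_iff.1 hb y
  rw [ea, eb]
  exact ((Commute.zpow_zpow_self _ i j).mul_right (cb _)).mul_left ((ca _).symm)

theorem hP_sq_mul [Finite K] (u v : Kˣ) : X.hP r P (u * u * v) = X.hP r P (u * u) * X.hP r P v := by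
  have e := X.hP_conj_h r P u v
  rw [(X.hP_commute r P hpr u v).eq, mul_inv_cancel_right] at e
  rw [(X.hP_commute r P hpr (u * u) v).eq, e, inv_mul_cancel_right]

theorem hP_inv (v : Kˣ) : X.hP r P v⁻¹ = (X.hP r P v)⁻¹ := by
  have e := X.nP_conj r P 1 v
  rw [one_mul, one_mul] at e
  refine eq_inv_of_mul_eq_one_right ?_
  rw [hP, hP, ← e]
  calc _ = X.nP r P v * X.nP r P v * (X.nP r P 1 * X.nP r P 1)⁻¹ := by group
    _ = 1 := by
      rw [mul_inv_eq_one, ← mul_left_cancel_iff (a := X.Tor p r (-1)), X.nP_sq r P v hpr, X.nP_sq r P 1 hpr]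

theorem hP_sq [Finite K] (u : Kˣ) : X.hP r P (u * u) = X.hP r P u * X.hP r P u := by
  have e := X.hP_sq_mul r P hpr u u⁻¹
  rw [mul_inv_cancel_right, X.hP_inv r P hpr] at e
  exact eq_mul_inv_iff_mul_eq.1 e |>.symm

theorem hP_mul [Finite K] (u v : Kˣ) : X.hP r P (u * v) = X.hP r P u * X.hP r P v := by
  obtain ⟨g, hg⟩ := IsCyclic.exists_generator (α := Kˣ)
  have hpow : ∀ k : ℕ, X.hP r P (g ^ k) = X.hP r P g ^ k := fun k => by
    induction k using Nat.strong_induction_on with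
    | _ k ih =>
      match k with
      | 0 => rw [pow_zero, pow_zero, X.hP_one]
      | 1 => rw [pow_one, pow_one]
      | k + 2 =>
        rw [pow_add _ k 2, pow_add _ k 2, mul_comm (g ^ k), pow_two, X.hP_sq_mul r P hpr, ih k (by omega),
          X.hP_sq r P hpr, pow_two]
        exact ((Commute.refl _).pow_right k).mul_left ((Commute.refl _).pow_right k) |>.eq
  obtain ⟨i, rfl⟩ := (mem_powers_iff_mem_zpowers (x := g)).2 (hg u)
  obtain ⟨j, rfl⟩ := (mem_powers_iff_mem_zpowers (x := g)).2 (hg v)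
  simp only [← pow_add, hpow]

/-- The torus. -/
noncomputable def hTor [Finite K] : Kˣ →* Γ := MonoidHom.mk' (X.hP r P) (X.hP_mul r P hpr)

theorem hP_neg_one : X.hP r P (-1) = X.Tor p r (-1) := by
  have e := X.nS_smul hpr (P.off (1 : K)) (P.Q_ne_zero one_ne_zero) (-1)
  rw [Units.val_neg, Units.val_one, neg_one_smul] at e
  rw [hP, mul_inv_eq_iff_eq_mul]
  show X.nS r (P.ν ((-1 : Kˣ) : K)) = _ * X.nS r (P.ν ((1 : Kˣ) : K))
  rw [Units.val_neg, Units.val_one, map_neg]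
  exact e

theorem hP_kernel (u : Kˣ) (h : X.π (X.hP r P u) = 1) :
    X.hP r P u = 1 ∨ X.hP r P u = zz X.D p r := by
  have hone : Q (P.ν (1 : K)) = 1 := (algebraMap F K).injective (by
    rw [← P.nrm, map_one, one_mul, map_one])
  have h1 : ap (X.π (X.hP r P u)) (P.ν 1) = P.ν 1 := by rw [h, ap_one]
  rw [X.ap_hP_off r P hpr, mul_one] at h1
  have hu : P.conj u = u := by
    have := (P.ν_inj h1)
    rw [div_eq_one_iff_eq (P.conj_ne_zero u.ne_zero)] at this
    exact this.symm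
  have h2 := congrArg (fun g => coords Φ (ap g (Φ.v (Sum.inl r))) (Sum.inl r)) h
  simp only [(X.mono_hP r P u).act, ap_one, id, map_smul, coords_v, hone, div_one, if_pos] at h2
  simp [ev] at h2
  have h3 : (u : K) * u = 1 := by
    have e := P.nrm u
    rw [hu, h2, map_one] at e
    exact e
  rcases mul_self_eq_one_iff.1 h3 with e | e
  · left; rw [show u = 1 from Units.ext e, X.hP_one]
  · right
    rw [show u = -1 from Units.ext e, X.hP_neg_one r P hpr]
    simp only [Tor, zz, negOne_eq_dg, inv_neg, inv_one]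

end Hom

end Ext

/-- The kernel bound for a plane outside the frame. -/
theorem Plane.kerTwo {K : Type u} [Field K] [Algebra F K] [Finite K] (P : Plane Φ K) {p₀ r₀ : Fin N}
    (hpr : p₀ ≠ r₀) (hrN : r₀.val + 1 = N) : KerTwo Φ p₀ r₀ := fun Γ _ _ X => by
  refine X.kernel_of_base (P.off (1 : K)) (P.Q_ne_zero one_ne_zero) hrN fun g hg h1 => ?_
  have e1 : X.nS r₀ (P.ν (1 : K)) = X.nP r₀ P 1 := by rw [Ext.nP, Units.val_one]
  refine X.base_of_torus hrN (P.off (1 : K)) (P.Q_ne_zero one_ne_zero) (X.hTor r₀ P hpr).range ?_ ?_ ?_ ?_ ?_ hg h1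
  · rintro _ ⟨u, rfl⟩
    exact ⟨_, X.mono_hP r₀ P u⟩
  · rintro _ ⟨u, rfl⟩
    refine ⟨u⁻¹, ?_⟩
    show X.hP r₀ P u⁻¹ = _ * X.hP r₀ P u * _
    have e := X.nP_conj r₀ P 1 u
    rw [one_mul, one_mul] at e
    rw [Ext.hP, Ext.hP, e1, ← e]
    group
  · refine ⟨-1, ?_⟩
    show X.hP r₀ P (-1) = _
    rw [X.hP_neg_one r₀ P hpr, e1]
    have hs := X.nP_sq r₀ P 1 hpr
    have h2 : X.Tor p₀ r₀ (-1) * X.Tor p₀ r₀ (-1) = 1 := by
      rw [X.Tor_mul hpr, neg_mul_neg, one_mul]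
      simp [Ext.Tor]
    rw [← mul_left_cancel_iff (a := X.Tor p₀ r₀ (-1)), h2, hs]
  · intro u hu hne
    obtain ⟨z, rfl⟩ := P.surj u hu
    have hz : z ≠ 0 := fun e => hne (by rw [e, map_zero])
    exact ⟨Units.mk0 z hz, by show X.hP r₀ P _ = _; rw [Ext.hP, e1]; rfl⟩
  · rintro _ ⟨u, rfl⟩ h
    exact X.hP_kernel r₀ P hpr u h

end Cfsg.Agent.OrthMult
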