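/-
The Schur multiplier of PΩ⁻_{2l}(q), from the Steinberg relations of the plus type part.

* `minusPlane`: the anisotropic plane as a field; `exists_imag_lift`; `multiplier_minus_of_rels`.
-/
import Cfsg.Agent.Lib.OrthMult.Plane
import Cfsg.Agent.Lib.OrthMult.Model
import Cfsg.Agent.Lib.OrthMult.Plus
import Cfsg.Agent.Lib.OrthBN.Models
import Cfsg.Agent.Lib.Orth.Order
import Mathlib.Algebra.QuadraticAlgebra.Basic

set_option autoImplicit false
set_option linter.unusedSectionVars false

open Matrix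
open QuadraticMap (polar)
open scoped commutatorElement

namespace Cfsg.Agent.OrthMult

open CurtisTitsA CurtisTitsD
open Cfsg.Agent.Orth hiding quadPlus
open Cfsg.Agent.OrthAct (quadPlus)
open Cfsg.Agent.OrthBN (OFrame frameMinus frameMinus_off)

universe u

variable {F : Type u} [Field F] [Fintype F]

theorem Aniso.fact {a b : F} (hab : Aniso a b) : Fact (∀ r : F, r ^ 2 ≠ -b + a * r) :=
  ⟨fun r hr => one_ne_zero (hab (-r) 1 (by linear_combination hr)).2⟩

/-- The vector of an element of the field. -/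
def minusVec (N : ℕ) (a b : F) : QuadraticAlgebra F (-b) a →ₗ[F] ((Fin N ⊕ Fin N) ⊕ Fin 2 → F) where
  toFun z := Sum.elim 0 ![z.re, z.im]
  map_add' z w := by
    funext i; rcases i with i | i <;> [simp; fin_cases i <;> simp]
  map_smul' c z := by
    funext i; rcases i with i | i <;> [simp; fin_cases i <;> simp]

/-- The plane of the standard frame of minus type. -/
def minusPlane (N : ℕ) {a b : F} (hab : Aniso a b) [Fact (∀ r : F, r ^ 2 ≠ -b + a * r)] :
    Plane (frameMinus N hab) (QuadraticAlgebra F (-b) a) where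
  conj := starRingEnd _
  conj_conj z := by simp
  ν := minusVec N a b
  off z c := by
    rcases c with c | c <;>
      simp [minusVec, frameMinus, coe_quadMinus, polar_quadMinus, Pi.single_apply]
  surj w hw := by
    refine ⟨⟨w (.inr 0), w (.inr 1)⟩, funext fun i => ?_⟩
    rcases i with i | i
    · simp [minusVec, frameMinus_off hw]
    · fin_cases i <;> simp [minusVec]
  nrm z := by
    rw [starRingEnd_apply, ← QuadraticAlgebra.algebraMap_norm_eq_mul_star, QuadraticAlgebra.norm_def]
    congr 1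
    simp [minusVec, coe_quadMinus, quadFormMinus]
    ring

theorem not_isSquare_disc {a b : F} (hab : Aniso a b) (h2 : (2 : F) ≠ 0) : ¬ IsSquare (a * a - 4 * b) := by
  rintro ⟨t, ht⟩
  exact h2 (hab (-a + t) 2 (by linear_combination -ht)).2

theorem exists_imag {a b : F} (hab : Aniso a b) [Fact (∀ r : F, r ^ 2 ≠ -b + a * r)] (h2 : (2 : F) ≠ 0)
    (hq : Fintype.card F % 4 = 3) : ∃ i : QuadraticAlgebra F (-b) a, i * i = -1 ∧ starRingEnd _ i = -i := by
  have hD0 : a * a - 4 * b ≠ 0 := hab.disc_ne_zero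
  have hD : IsSquare (-(a * a - 4 * b)) := by
    classical
    have h1 : ¬ IsSquare (-1 : F) := fun h => (FiniteField.isSquare_neg_one_iff.1 h) hq
    have e1 := quadraticChar_neg_one_iff_not_isSquare.2 h1
    have e2 := quadraticChar_neg_one_iff_not_isSquare.2 (not_isSquare_disc hab h2)
    rw [← quadraticChar_one_iff_isSquare (neg_ne_zero.2 hD0), show -(a * a - 4 * b) = -1 * (a * a - 4 * b) by ring,
      map_mul, e1, e2]
    norm_num
  obtain ⟨s, hs⟩ := hD
  have hs0 : s ≠ 0 := fun h => hD0 (by rw [h, mul_zero, neg_eq_zero] at hs; exact hs)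
  refine ⟨s⁻¹ • (⟨-a, 2⟩ : QuadraticAlgebra F (-b) a), ?_, ?_⟩
  · rw [smul_mul_smul_comm]
    ext <;> simp [QuadraticAlgebra.re_one, QuadraticAlgebra.im_one]
    · field_simp
      linear_combination -hs
    · right; ring
  · rw [starRingEnd_apply]
    ext <;> simp
    ring

variable {N : ℕ} {a b : F} (hN : 3 ≤ N) (hab : Aniso a b)

include hN hab

theorem multiplier_minus_of_rels (rels : Rels (frameMinus N hab)) :
    Cfsg.HasCyclicSchurMultiplier (Cfsg.POmega F (Cfsg.quadFormMinus N F a b))
      (Nat.gcd 4 (Fintype.card F ^ (N + 1) + 1)) := by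
  classical
  haveI := Aniso.fact hab
  haveI : Finite (QuadraticAlgebra F (-b) a) := Finite.of_equiv _ (QuadraticAlgebra.equivProd _ _).symm
  set Q := quadMinus N F a b
  let Φ := frameMinus N hab
  let P := minusPlane N hab
  have hnd : Q.polarBilin.Nondegenerate := quadMinus_nondeg N hab
  have hcard : Fintype.card ((Fin N ⊕ Fin N) ⊕ Fin 2) = 2 * N + 2 := by simp; omega
  have hG : Orth.Good Q := ⟨hnd, .inr (by omega)⟩
  have heq : Omega F ⇑Q = eichGen Q := omega_eq_eichGen hG (by omega) (.inr (by omega))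
  have hperf : Omega F ⇑Q ≤ ⁅Omega F ⇑Q, Omega F ⇑Q⁆ := omega_le_commutator_omega hG (by omega)
  let X₀ := spinExt Φ hN (.inl rels) heq
  let X := X₀.derived hperf
  haveI hfin : Finite (commutator (liftGrp Q)) := X₀.finite_derived
  have hp : commutator (commutator (liftGrp Q)) = ⊤ := X₀.derived_perfect hperf
  let p₀ : Fin N := ⟨N - 2, by omega⟩
  let r₀ : Fin N := ⟨N - 1, by omega⟩
  have hne : p₀ ≠ r₀ := by simp [p₀, r₀, Fin.ext_iff]; omega
  have hK : KerTwo Φ p₀ r₀ := P.kerTwo hne (by simp [r₀]; omega)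
  set z := zz X.D p₀ r₀
  have hz1 : (2 : F) = 0 → z = 1 := fun h => zz_eq_one_of_two h _ _ _
  have hz : (2 : F) ≠ 0 → z ≠ 1 := fun h2 e => zz_spinExt_ne_one Φ hN (.inl rels) heq h2 hne (by
    have := Ext.map_zz' X₀ X (commutator (liftGrp Q)).subtype (fun _ => rfl) hne
    rw [show zz X.D p₀ r₀ = 1 from e, map_one] at this
    exact this.symm)
  have hπz : X.π z = 1 := X.π_zz_one_of hne
  have hsplit := X.splits hK hp hne (fun e => by_contra fun h2 => hz h2 e) rels
  have hrange : ∀ g, X.π g ∈ Omega F ⇑Q := fun g => X.range_eq ▸ ⟨g, rfl⟩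
  let toΩ := X.π.codRestrict _ hrange
  let θ : commutator (liftGrp Q) →* Cfsg.POmega F ⇑Q :=
    (QuotientGroup.mk' (Subgroup.center (Omega F ⇑Q))).comp toΩ
  have hθ : Function.Surjective θ := by
    refine (QuotientGroup.mk'_surjective _).comp fun y => ?_
    obtain ⟨g, hg⟩ : y.1 ∈ X.π.range := by rw [X.range_eq]; exact y.2
    exact ⟨g, Subtype.ext hg⟩
  have hcen : θ.ker ≤ Subgroup.center (commutator (liftGrp Q)) := fun g hg =>
    preimage_center_le X.central hp fun y => congrArg Subtype.val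
      (Subgroup.mem_center_iff.1 ((QuotientGroup.eq_one_iff (toΩ g)).1 hg) (toΩ y)).symm
  have hcases : ∀ g, g ∈ θ.ker ↔ X.π g = 1 ∨ X.π g = negOne Q := fun g => by
    rw [show g ∈ θ.ker ↔ toΩ g ∈ Subgroup.center (Omega F ⇑Q) from QuotientGroup.eq_one_iff _,
      mem_center_omega_iff hnd (by omega) heq.ge]
    constructor
    · rintro ⟨c, hc, hg⟩
      exact eq_one_or_eq_negOne_of_scalar hc hg
    · rintro (e | e)
      · exact ⟨1, one_mul 1, fun x => by show ap (X.π g) x = _; rw [e, ap_one, one_smul]⟩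
      · exact ⟨-1, by ring, fun x => by show ap (X.π g) x = _; rw [e, negOne_ap, neg_one_smul]⟩
  have key := fun (n : ℕ) (hc : IsCyclic θ.ker) (hn : Nat.card θ.ker = n) =>
    ChevSt.hasCyclic_of_lifts θ hθ hcen hp hsplit hc hn
  have hsmall : negOne Q ∉ Omega F ⇑Q ∨ (2 : F) = 0 →
      Nat.card θ.ker = if (2 : F) = 0 then 1 else 2 := fun h => by
    have hset : (θ.ker : Set _) = {1, z} := by
      ext g
      rw [SetLike.mem_coe, hcases, Set.mem_insert_iff, Set.mem_singleton_iff]
      constructor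
      · rintro (e | e)
        · exact X.ker_two hK hp e
        · refine X.ker_two hK hp (e.trans ?_)
          rcases h with h | h
          · exact absurd (e ▸ hrange g) h
          · refine ext_ap fun x => ?_
            rw [negOne_ap, ap_one]
            funext i
            show -(x i) = x i
            linear_combination -(x i) * h
      · rintro (rfl | rfl)
        · exact .inl (map_one _)
        · exact .inl hπz
    rw [← SetLike.coe_sort_coe, Nat.card_coe_set_eq, hset]
    split_ifs with h2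
    · simp [hz1 h2]
    · exact Set.ncard_pair (hz h2).symm
  haveI : Fact (Nat.Prime 2) := ⟨Nat.prime_two⟩
  by_cases h2 : (2 : F) = 0
  · have hg : Nat.gcd 4 (Fintype.card F ^ (N + 1) + 1) = 1 := by
      obtain ⟨k, hk⟩ := (even_card h2).pow_of_ne_zero (n := N + 1) (by omega)
      have : Nat.Coprime (2 * 2) (Fintype.card F ^ (N + 1) + 1) := by
        have h2' : Nat.Coprime 2 (Fintype.card F ^ (N + 1) + 1) :=
          Nat.prime_two.coprime_iff_not_dvd.2 (by omega)
        exact h2'.mul h2'
      exact this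
    rw [hg]
    have hc : Nat.card θ.ker = 1 := by rw [hsmall (.inr h2), if_pos h2]
    haveI := (Nat.card_eq_one_iff_unique.1 hc).1
    exact key 1 isCyclic_of_subsingleton hc
  obtain ⟨j, hj⟩ := odd_card h2
  set q := Fintype.card F
  have hq4 : q % 4 = 1 ∨ q % 4 = 3 := by omega
  have hnd2 := not_isSquare_disc hab h2
  have hD := hab.disc_ne_zero
  have hmem : negOne Q ∈ Omega F ⇑Q ↔ q % 4 = 3 ∧ Even N := by
    rw [negOne_mem_omega_iff _ hnd h2 (by rw [hcard]; exact ⟨N + 1, by ring⟩),
      show ⇑Q = quadFormMinus N F a b from rfl, det_gram_quadMinus, map_mul, map_pow,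
      quadraticChar_neg_one_iff_not_isSquare.2 hnd2]
    rcases hq4 with h | h
    · rw [(quadraticChar_one_iff_isSquare (neg_ne_zero.2 one_ne_zero)).2
        (FiniteField.isSquare_neg_one_iff.2 (by show q % 4 ≠ 3; omega))]
      simp [h]
    · rw [quadraticChar_neg_one_iff_not_isSquare.2 fun e => FiniteField.isSquare_neg_one_iff.1 e h]
      rcases Nat.even_or_odd N with hv | hv
      · simp [h, hv, pow_succ, hv.neg_one_pow]
      · simp [h, Nat.not_even_iff_odd.2 hv, pow_succ, hv.neg_one_pow]
  have hpow : q ^ (N + 1) % 4 = if q % 4 = 3 ∧ Even N then 3 else 1 := by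
    rw [Nat.pow_mod]
    rcases hq4 with h | h <;> rw [h]
    · simp
    · rcases Nat.even_or_odd N with ⟨k, hk⟩ | ⟨k, hk⟩
      · rw [if_pos ⟨rfl, k, hk⟩, hk, ← two_mul, pow_succ, pow_mul]; simp [Nat.mul_mod, Nat.pow_mod]
      · rw [if_neg (fun e => Nat.not_even_iff_odd.2 ⟨k, hk⟩ e.2), hk, show 2 * k + 1 + 1 = 2 * (k + 1) by ring,
          pow_mul]
        simp [Nat.pow_mod]
  have hgcd : Nat.gcd 4 (q ^ (N + 1) + 1) = if q % 4 = 3 ∧ Even N then 4 else 2 := by
    rw [Nat.gcd_rec]
    split_ifs with h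
    · rw [if_pos h] at hpow; rw [show (q ^ (N + 1) + 1) % 4 = 0 by omega]; rfl
    · rw [if_neg h] at hpow; rw [show (q ^ (N + 1) + 1) % 4 = 2 by omega]; rfl
  rw [hgcd]
  by_cases hcase : q % 4 = 3 ∧ Even N
  swap
  · rw [if_neg hcase]
    have hc : Nat.card θ.ker = 2 := by rw [hsmall (.inl (mt hmem.1 hcase)), if_neg h2]
    exact key 2 (isCyclic_of_prime_card hc) hc
  rw [if_pos hcase]
  obtain ⟨k, hk⟩ := hcase.2
  obtain ⟨u₀, -, hu₀sq, hu₀, -⟩ := exists_pairs X.over₀ hN k (by omega)
  obtain ⟨i, hi, hic⟩ := exists_imag hab h2 hcase.1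
  let iu : (QuadraticAlgebra F (-b) a)ˣ := Units.mk0 i (fun e => by simp [e] at hi)
  set w := X.hP r₀ P iu
  have hwsq : w * w = z := by
    rw [show w * w = X.hP r₀ P (iu * iu) from (X.hP_mul r₀ P hne iu iu).symm,
      show iu * iu = -1 from Units.ext (by rw [Units.val_mul, Units.val_neg, Units.val_one]; exact hi),
      X.hP_neg_one r₀ P hne]
    simp only [Ext.Tor, z, zz, negOne_eq_dg, inv_neg, inv_one]
  have hQi : Q (P.ν i) = Q (P.ν 1) := (algebraMap F _).injective (by
    rw [← P.nrm, ← P.nrm, show P.conj i = -i from hic, mul_neg, hi, neg_neg, map_one, one_mul])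
  set g : commutator (liftGrp Q) := u₀.1 * w
  have hπg : X.π g = negOne Q := by
    refine Φ.ext_of (fun c => ?_) fun x hx => ?_
    · rw [map_mul, ap_mul, (X.mono_hP r₀ P iu).act, map_smul, id, ← X.toBase.emb_π₀, ap_emb_v, negOne_ap]
      have e := hu₀ c
      rw [if_pos (by have := (ix c).2; omega)] at e
      rw [show X.toBase.π₀ u₀ = X.toBase.π₀ u₀ from rfl, e, map_smul, sumv_ev, smul_smul]
      have hone : Q (P.ν 1) ≠ 0 := P.Q_ne_zero one_ne_zero
      simp [iu, show quadMinus N F a b (P.ν i) = quadMinus N F a b (P.ν 1) from hQi,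
        show quadMinus N F a b (P.ν 1) ≠ 0 from hone]
    · rw [map_mul, ap_mul, negOne_ap]
      obtain ⟨y, rfl⟩ := P.surj x hx
      rw [X.ap_hP_off r₀ P hne, ← X.toBase.emb_π₀, ap_emb_off Φ _ (P.off _), ← map_neg]
      congr 1
      simp [iu, show P.conj i = -i from hic, div_neg]
      exact mul_div_cancel_left₀ _ (fun e => by simp [e] at hi)
  have hgker : g ∈ θ.ker := (hcases g).2 (.inr hπg)
  have hgsq : g * g = z := by
    have h := Subgroup.mem_center_iff.1 (hcen hgker) w
    simp only [g] at h ⊢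
    rw [← mul_assoc] at h
    have hcm : w * u₀.1 = u₀.1 * w := mul_right_cancel h
    rw [show (u₀.1 * w) * (u₀.1 * w) = u₀.1 * (w * u₀.1) * w by group, hcm, show u₀.1 * (u₀.1 * w) * w =
      (u₀ * u₀ : X.sub).1 * (w * w) by rw [Subgroup.coe_mul]; group, hu₀sq, hwsq, Subgroup.coe_one, one_mul]
  have hne1 : negOne Q ≠ (1 : IsoGrp Q) := fun h => by
    have := congrArg (fun k => ap k (Pi.single (Sum.inr 0) 1) (Sum.inr 0)) h
    simp [negOne_ap] at this
    exact h2 (by linear_combination -this)
  have hzc : z ∈ Subgroup.center _ := X.central hπz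
  have hset : (θ.ker : Set _) = {1, z, g, g * z} := by
    ext x
    rw [SetLike.mem_coe, hcases]
    simp only [Set.mem_insert_iff, Set.mem_singleton_iff]
    constructor
    · rintro (e | e)
      · rcases X.ker_two hK hp e with r | r
        · exact .inl r
        · exact .inr (.inl r)
      · have h1 : X.π (g⁻¹ * x) = 1 := by rw [map_mul, map_inv, hπg, e, inv_mul_cancel]
        rcases X.ker_two hK hp h1 with r | r
        · rw [inv_mul_eq_one] at r; exact .inr (.inr (.inl r.symm))
        · rw [inv_mul_eq_iff_eq_mul] at r; exact .inr (.inr (.inr r))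
    · rintro (rfl | rfl | rfl | rfl)
      · exact .inl (map_one _)
      · exact .inl hπz
      · exact .inr hπg
      · exact .inr (by rw [map_mul, hπg, hπz, mul_one])
  have n1 : g ≠ 1 := fun e => hne1 (by rw [← hπg, e, map_one])
  have n2 : g ≠ z := fun e => hne1 (by rw [← hπg, e, hπz])
  have n3 : g * z ≠ 1 := fun e => hne1 (by
    have := congrArg X.π e; rwa [map_mul, hπz, mul_one, hπg, map_one] at this)
  have hc : Nat.card θ.ker = 4 := by
    rw [← SetLike.coe_sort_coe, Nat.card_coe_set_eq, hset,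
      Set.ncard_insert_of_notMem (by simp [(hz h2).symm, n1.symm, n3.symm]) (Set.toFinite _),
      Set.ncard_insert_of_notMem (by simp [n2.symm, n1]) (Set.toFinite _),
      Set.ncard_insert_of_notMem (by simp [hz h2]) (Set.toFinite _), Set.ncard_singleton]
  have ho : orderOf (⟨g, hgker⟩ : θ.ker) = Nat.card θ.ker := by
    rw [hc]
    refine orderOf_eq_prime_pow (p := 2) (n := 1) (fun e => hz h2 ?_) ?_
    · have := congrArg Subtype.val e
      simpa [pow_two, hgsq] using this
    · refine Subtype.ext ?_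
      show g ^ 4 = 1
      rw [show (4 : ℕ) = 2 * 2 from rfl, pow_mul, pow_two, pow_two, hgsq]
      exact zz_sq _ hN hne
  exact key 4 (isCyclic_of_orderOf_eq_card _ ho) hc

end Cfsg.Agent.OrthMult
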