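/-
The relations from commutators of short values, given a rotation outside the frame.

* `Rot`: an element of Ω fixing the frame, without fixed vectors outside; `rels_of_rot`: then `Rels` holds,
  over every field and in every rank from three on.
-/
import Cfsg.Agent.Lib.OrthMult.Ext

set_option autoImplicit false
set_option linter.unusedSectionVars false

open Matrix
open QuadraticMap (polar)
open scoped commutatorElement

namespace Cfsg.Agent.OrthMult

open CurtisTitsA CurtisTitsD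
open Cfsg.Agent.Orth hiding quadPlus
open Cfsg.Agent.OrthAct (quadPlus)
open Cfsg.Agent.OrthBN (OFrame)

universe u

variable {F : Type u} [Field F] [Fintype F] {ι : Type} [Fintype ι] [DecidableEq ι] {N : ℕ}
  {Q : QuadraticForm F (ι → F)}

local notation "SI" => (Fin N ⊕ Fin N)

/-- An element of Ω fixing the frame with `ρ - 1` onto the vectors outside, and two such vectors in duality. -/
structure Rot (Φ : OFrame Q N) (ρ : IsoGrp Q) (w₁ w₂ : ι → F) : Prop where
  mem : ρ ∈ Omega F ⇑Q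
  fix : ∀ a, ap ρ (Φ.v a) = Φ.v a
  surj : ∀ w, Φ.Off w → ∃ v, Φ.Off v ∧ ap ρ v - v = w
  off₁ : Φ.Off w₁
  off₂ : Φ.Off w₂
  dual : polar ⇑Q w₁ w₂ = 1

variable {Φ : OFrame Q N}

namespace Base

variable {Γ : Type u} [Group Γ] (X : Base Φ Γ)

/-- A commutator of lifts of two short values. -/
noncomputable def br (a b : SI) (w w' : ι → F) : Γ := ⁅X.L (Φ.v a) w, X.L (Φ.v b) w'⁆

theorem central_of {z : Γ} (h : X.π z = 1) (g : Γ) : Commute g z :=
  Subgroup.mem_center_iff.1 (X.central h) g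

theorem commute_congr {g h h' : Γ} (e : X.π h = X.π h') (hc : Commute g h') : Commute g h := by
  obtain ⟨z, hz, rfl⟩ : ∃ z, X.π z = 1 ∧ h = h' * z :=
    ⟨h'⁻¹ * h, by rw [map_mul, map_inv, e, inv_mul_cancel], (mul_inv_cancel_left _ _).symm⟩
  exact hc.mul_right (X.central_of hz g)

theorem π_br {a b : SI} (h : Adm a b) {w w' : ι → F} (hw : Φ.Off w) (hw' : Φ.Off w') :
    X.π (X.br a b w w') = eich Q (Φ.v b) ((-polar ⇑Q w w') • Φ.v a) := by
  have e1 : ap (eich Q (Φ.v a) w) (Φ.v b) = Φ.v b :=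
    eich_ap_fix (Φ.sing a) (hw a) (adm_pl h) (Φ.off_pl hw b)
  have e2 : ap (eich Q (Φ.v a) w) w' = w' + (-polar ⇑Q w w') • Φ.v a := by
    rw [eich_ap (Φ.sing a) (hw a), hw' a]; module
  rw [br, map_commutatorElement, X.π_L, X.π_L, commutatorElement_def, conj_eich, e1, e2, eich_inv,
    eich_add (Φ.sing b) (by rw [pl_add_right, hw' b, adm_pl' h, add_zero]) (by rw [pl_neg_right, hw' b, neg_zero])]
  congr 1
  abel

section Rot

variable {ρ : IsoGrp Q} {w₁ w₂ : ι → F} (R : Rot Φ ρ w₁ w₂)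

include R

/-- Lifts of short values commute with any lift of a long value when the images commute. -/
theorem comm_lift {a x y : SI} {v : ι → F} (hv : Φ.Off v) (hxy : Adm x y) (hx : a ≠ bar x) (hy : a ≠ bar y)
    {g k : Γ} (hg : X.π g = eich Q (Φ.v a) v) {t : F} (hk : X.π k = eich Q (Φ.v y) (t • Φ.v x)) :
    Commute g k := by
  obtain ⟨P, hP⟩ : ρ ∈ X.π.range := by rw [X.range_eq]; exact R.mem
  have himg : ∀ u, Φ.Off u → X.π ⁅X.L (Φ.v a) u, k⁆ = 1 := fun u hu => by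
    have fix' : ∀ z : SI, a ≠ bar z → ap (eich Q (Φ.v a) u) (Φ.v z) = Φ.v z := fun z hz =>
      eich_ap_fix (Φ.sing a) (hu a) (Φ.pl_eq_zero fun e => hz (by rw [e]; exact (Sum.swap_swap a).symm))
        (Φ.off_pl hu z)
    rw [map_commutatorElement, X.π_L, hk, commutatorElement_def, conj_eich, map_smul, fix' y hy, fix' x hx,
      mul_inv_cancel]
  have hadd : ∀ u u', Φ.Off u → Φ.Off u' →
      ⁅X.L (Φ.v a) (u + u'), k⁆ = ⁅X.L (Φ.v a) u', k⁆ * ⁅X.L (Φ.v a) u, k⁆ := fun u u' hu hu' => by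
    rw [X.comm_congr (a' := X.L (Φ.v a) u * X.L (Φ.v a) u')
      (by rw [map_mul, X.π_L, X.π_L, X.π_L, eich_add (Φ.sing a) (hu a) (hu' a)]) rfl,
      show ∀ x y z : Γ, ⁅x * y, z⁆ = x * ⁅y, z⁆ * x⁻¹ * ⁅x, z⁆ from fun x y z => by
        simp only [commutatorElement_def]; group,
      ((X.central_of (himg u' hu')) _).eq, mul_inv_cancel_right]
  have hρoff : ∀ u, Φ.Off u → Φ.Off (ap ρ u) := fun u hu b => by
    rw [← R.fix b, polar_ap]; exact hu b
  have hinv : ∀ u, Φ.Off u → ⁅X.L (Φ.v a) (ap ρ u), k⁆ = ⁅X.L (Φ.v a) u, k⁆ := fun u hu => by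
    conv_rhs => rw [← mul_inv_cancel_right ⁅X.L (Φ.v a) u, k⁆ P,
      ← ((X.central_of (himg u hu)) P).eq, conjugate_commutatorElement]
    refine X.comm_congr ?_ ?_
    · rw [map_mul, map_mul, map_inv, hP, X.π_L, X.π_L, conj_eich, R.fix]
    · rw [map_mul, map_mul, map_inv, hP, hk, conj_eich, map_smul, R.fix, R.fix]
  obtain ⟨u, hu, e⟩ := R.surj v hv
  have h1 : ⁅X.L (Φ.v a) v, k⁆ = 1 := by
    have hh := hinv u hu
    rw [show ap ρ u = v + u by rw [← e, sub_add_cancel], hadd v u hv hu] at hh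
    exact mul_eq_left.1 hh
  exact commutatorElement_eq_one_iff_commute.1
    ((X.comm_congr (hg.trans (X.π_L _ _).symm) rfl).trans h1)

theorem br_lift_eq {a b : SI} (h : Adm a b) {g : Γ} {t : F} (hg : X.π g = eich Q (Φ.v b) (t • Φ.v a)) :
    X.π g = X.π (X.br a b w₁ ((-t) • w₂)) := by
  rw [X.π_br h R.off₁ (off_smul R.off₂ _), hg, pl_smul_right, R.dual, mul_one, neg_neg]

/-- Lifts of long values commute when the images do in the generic position. -/
theorem comm_long {a b c e : SI} (hab : Adm a b) (hce : Adm c e) (h1 : c ≠ bar a) (h2 : c ≠ bar b)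
    (h3 : e ≠ bar a) (h4 : e ≠ bar b) {g k : Γ} {t u : F} (hg : X.π g = eich Q (Φ.v b) (t • Φ.v a))
    (hk : X.π k = eich Q (Φ.v e) (u • Φ.v c)) : Commute g k := by
  have ne : ∀ {x y : SI}, x ≠ bar y → y ≠ bar x := fun q r => q (by rw [r, bar_bar])
  have e1 := X.comm_lift R R.off₁ hce (ne h1) (ne h3) (X.π_L (Φ.v a) w₁) hk
  have e2 := X.comm_lift R (off_smul R.off₂ (-t)) hce (ne h2) (ne h4) (X.π_L (Φ.v b) ((-t) • w₂)) hk
  refine (X.commute_congr (X.br_lift_eq R hab hg) ?_).symm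
  rw [br, commutatorElement_def]
  exact ((e1.symm.mul_right e2.symm).mul_right e1.symm.inv_right).mul_right e2.symm.inv_right

/-- A commutator of short lifts as one of long lifts through a third index. -/
theorem br_eq {a b c : SI} (hab : Adm a b) (hac : Adm a c) (hbc : Adm b c) (hac' : ix a ≠ ix c)
    (hbc' : ix b ≠ ix c) {w u : ι → F} (hw : Φ.Off w) (hu : Φ.Off u) (s : F) {g₂ k : Γ}
    (hg₂ : X.π g₂ = eich Q (Φ.v (bar c)) (s • Φ.v b))
    (hk : X.π k = eich Q (Φ.v c) ((-polar ⇑Q w u) • Φ.v a)) :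
    X.br a b w (s • u) = ⁅g₂, k⁆ := by
  set p := -polar ⇑Q w u
  set x := X.L (Φ.v a) w
  set K := ⁅g₂, X.L (Φ.v c) u⁆
  obtain ⟨g₁, hg₁⟩ : eich Q (Φ.v b) ((s * Q u) • Φ.v c) ∈ X.π.range := by
    rw [X.range_eq]; exact X.eich_mem (eich_mem_eichGen _ _)
  have hK : X.π K = eich Q (Φ.v b) (-((s * Q u) • Φ.v c)) * eich Q (Φ.v b) (s • u) := by
    rw [map_commutatorElement, hg₂, X.π_L]
    refine eich_bracket (Φ.sing c) (Φ.sing b) (adm_pl hbc.symm) (hu c) (hu b) s ?_ ?_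
    · rw [eich_ap (Φ.sing _) (adm_pl' hbc.bar_right s), pl_vbar' c, pl_smul_left, adm_pl hbc, Q_smul, Φ.sing]
      module
    · exact eich_ap_fix (Φ.sing _) (adm_pl' hbc.bar_right s) (hu _) (by rw [pl_smul_left, hu b, mul_zero])
  have hgK : X.π (g₁ * K) = X.π (X.L (Φ.v b) (s • u)) := by
    rw [map_mul, hg₁, hK, X.π_L, ← eich_inv, mul_inv_cancel_left]
  have ne : ∀ {x y : SI}, ix x ≠ ix y → x ≠ bar y := fun q r => q (by rw [r]; exact ix_bar _)
  have x1 : Commute x g₁ := X.comm_lift R hw hbc.symm (ne hac') hab.2 (X.π_L _ _) hg₁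
  have x2 : Commute x g₂ := X.comm_lift R hw hbc.bar_right hab.2
    (by rw [bar_bar]; exact fun r => hac' (by rw [r])) (X.π_L _ _) hg₂
  have hxc : X.π (x * X.L (Φ.v c) u * x⁻¹) = X.π (k * X.L (Φ.v c) u) := by
    rw [map_mul, map_mul, map_inv, X.π_L, X.π_L, conj_eich, map_mul, hk, X.π_L,
      eich_ap_fix (Φ.sing a) (hw a) (adm_pl hac) (Φ.off_pl hw c),
      eich_ap (Φ.sing a) (hw a), hu a, eich_add (Φ.sing c) (adm_pl' hac p) (hu c)]
    congr 1
    simp only [p]
    module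
  have hkK : Commute k K := by
    have h1 : Commute k (g₁ * K) := by
      refine X.commute_congr hgK ?_
      exact (X.comm_lift R (off_smul hu s) hac hab.symm.2 (ne hbc') (X.π_L _ _) hk).symm
    have h2 : Commute k g₁ := X.comm_long R hac hbc.symm
      (fun r => hac' (by rw [r]; exact (ix_bar a).symm)) (bar_ne c).symm
      hab.symm.2 (fun r => hbc' (by rw [r]; exact ix_bar c)) hk hg₁
    have := h2.inv_right.mul_right h1
    rwa [inv_mul_cancel_left] at this
  have conj : x * (g₁ * K) * x⁻¹ = g₁ * (⁅g₂, k⁆ * K) := by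
    rw [show x * (g₁ * K) * x⁻¹ = x * g₁ * x⁻¹ * (x * K * x⁻¹) by group, mul_inv_eq_iff_eq_mul.2 x1.eq,
      conjugate_commutatorElement, mul_inv_eq_iff_eq_mul.2 x2.eq, X.comm_congr rfl hxc,
      show ∀ r y z : Γ, ⁅r, y * z⁆ = ⁅r, y⁆ * (y * ⁅r, z⁆ * y⁻¹) from fun r y z => by
        simp only [commutatorElement_def]; group, mul_inv_eq_iff_eq_mul.2 hkK.eq]
  have hG : Commute g₁ ⁅g₂, k⁆ := by
    refine X.commute_congr (h' := (X.br a b w (s • u))) ?_ ?_
    · rw [X.π_br hab hw (off_smul hu s), map_commutatorElement, hg₂, hk, commutatorElement_def, conj_eich]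
      have f1 : ap (eich Q (Φ.v (bar c)) (s • Φ.v b)) (Φ.v c) = Φ.v c + s • Φ.v b := by
        rw [eich_ap (Φ.sing _) (adm_pl' hbc.bar_right s), pl_vbar' c, pl_smul_left, adm_pl hbc, Q_smul, Φ.sing]
        module
      have f2 : ap (eich Q (Φ.v (bar c)) (s • Φ.v b)) (Φ.v a) = Φ.v a :=
        eich_ap_fix (Φ.sing _) (adm_pl' hbc.bar_right s) (adm_pl hac.symm.bar_left)
          (by rw [pl_smul_left, adm_pl hab.symm, mul_zero])
      rw [map_smul, f1, f2, eich_sum (Φ.sing c) (Φ.sing b) (adm_pl hbc.symm) (adm_pl' hac p) (adm_pl' hab p),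
        mul_assoc, mul_assoc,
        show eich Q (Φ.v b) ((s * Q (p • Φ.v a)) • Φ.v c) * (eich Q (Φ.v c) (p • Φ.v a))⁻¹ =
          (eich Q (Φ.v c) (p • Φ.v a))⁻¹ by
            rw [Q_smul, Φ.sing, mul_zero, mul_zero, zero_smul, eich_zero, one_mul],
        ← mul_assoc]
      have hc : eich Q (Φ.v c) (p • Φ.v a) * eich Q (Φ.v b) (s • p • Φ.v a) * (eich Q (Φ.v c) (p • Φ.v a))⁻¹ =
          eich Q (Φ.v b) (s • p • Φ.v a) := by
        rw [conj_eich, map_smul, map_smul, eich_ap_fix (Φ.sing _) (adm_pl' hac p) (adm_pl hac.symm)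
          (by rw [pl_smul_left, pl_v_self, mul_zero]),
          eich_ap_fix (Φ.sing _) (adm_pl' hac p) (adm_pl hbc.symm) (by rw [pl_smul_left, adm_pl hab, mul_zero])]
      rw [hc, pl_smul_right, smul_smul]
      congr 2
      simp only [p]
      ring
    · exact X.comm_long R hbc.symm hab hac.2 hab.2
        (fun r => hbc' (by rw [r]; exact ix_bar c)) (bar_ne b).symm hg₁ (X.π_br hab hw (off_smul hu s))
  rw [br, X.comm_congr rfl hgK.symm, commutatorElement_def, conj, ← mul_assoc, hG.eq]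
  group

/-- The long values. -/
noncomputable def RR (_R : Rot Φ ρ w₁ w₂) (a b : SI) (t : F) : Γ := X.br a b w₁ ((-t) • w₂)

theorem π_RR {a b : SI} (h : Adm a b) (t : F) : X.π (X.RR R a b t) = eich Q (Φ.v b) (t • Φ.v a) := by
  rw [RR, X.π_br h R.off₁ (off_smul R.off₂ _), pl_smul_right, R.dual, mul_one, neg_neg]

theorem RR_eq {a b : SI} (h : Adm a b) {w w' : ι → F} (hw : Φ.Off w) (hw' : Φ.Off w') (t : F)
    (ht : polar ⇑Q w w' = -t) : X.br a b w w' = X.RR R a b t := by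
  obtain ⟨c, hc1, hc2⟩ := exists_ix2 X.hN a b
  have hac : Adm a c := Adm.of_idx (Ne.symm hc1)
  have hbc : Adm b c := Adm.of_idx (Ne.symm hc2)
  obtain ⟨g₂, hg₂⟩ : eich Q (Φ.v (bar c)) ((1 : F) • Φ.v b) ∈ X.π.range := by
    rw [X.range_eq]; exact X.eich_mem (eich_mem_eichGen _ _)
  obtain ⟨k, hk⟩ : eich Q (Φ.v c) (t • Φ.v a) ∈ X.π.range := by
    rw [X.range_eq]; exact X.eich_mem (eich_mem_eichGen _ _)
  have e1 := X.br_eq R h hac hbc (Ne.symm hc1) (Ne.symm hc2) hw hw' 1 hg₂ (k := k) (by rw [hk, ht, neg_neg])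
  have e2 := X.br_eq R h hac hbc (Ne.symm hc1) (Ne.symm hc2) R.off₁ (off_smul R.off₂ (-t)) 1 hg₂ (k := k)
    (by rw [hk, pl_smul_right, R.dual, mul_one, neg_neg])
  rw [one_smul] at e1 e2
  rw [e1, RR, e2]

theorem RR_add {a b : SI} (h : Adm a b) (t u : F) : X.RR R a b (t + u) = X.RR R a b t * X.RR R a b u := by
  have o := fun r : F => off_smul R.off₂ r
  have hc : Commute (X.L (Φ.v b) ((-t) • w₂)) (X.RR R a b u) :=
    X.comm_lift R (o _) h h.symm.2 (bar_ne b).symm (X.π_L _ _) (X.π_RR R h u)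
  conv_lhs => rw [RR, br]
  rw [X.comm_congr rfl (b' := X.L (Φ.v b) ((-t) • w₂) * X.L (Φ.v b) ((-u) • w₂))
      (by rw [map_mul, X.π_L, X.π_L, X.π_L, eich_add (Φ.sing b) (o _ b) (o _ b), ← add_smul, ← neg_add]),
    show ∀ r y z : Γ, ⁅r, y * z⁆ = ⁅r, y⁆ * (y * ⁅r, z⁆ * y⁻¹) from fun r y z => by
      simp only [commutatorElement_def]; group]
  show X.RR R a b t * (X.L (Φ.v b) ((-t) • w₂) * X.RR R a b u * (X.L (Φ.v b) ((-t) • w₂))⁻¹) = _
  rw [mul_inv_eq_iff_eq_mul.2 hc.eq]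

theorem RR_zero {a b : SI} (h : Adm a b) : X.RR R a b 0 = 1 := by
  have := X.RR_add R h 0 0
  rw [add_zero] at this
  exact left_eq_mul.1 this

theorem RR_neg {a b : SI} (h : Adm a b) (t : F) : X.RR R a b (-t) = (X.RR R a b t)⁻¹ :=
  eq_inv_of_mul_eq_one_left (by rw [← X.RR_add R h, neg_add_cancel, X.RR_zero R h])

theorem RR_swap {a b : SI} (h : Adm a b) (t : F) : X.RR R b a t = X.RR R a b (-t) := by
  rw [X.RR_neg R h, RR, br, ← commutatorElement_inv]
  exact congrArg (·⁻¹) (X.RR_eq R h (off_smul R.off₂ _) R.off₁ t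
    (by rw [pl_smul_left, pl_comm Q, R.dual, mul_one]))

theorem RR_mid {a b e : SI} (h1 : Adm a b) (h2 : Adm (bar b) e) (h3 : Adm a e) (t u : F) :
    ⁅X.RR R a b t, X.RR R (bar b) e u⁆ = X.RR R a e (t * u) := by
  have i2 : ix e ≠ ix b := fun q => h2.idx ((ix_bar b).trans q.symm)
  have e1 := X.br_eq R h3 h1 (Adm.of_idx i2) h1.idx i2 R.off₁ (off_smul R.off₂ (-t)) (-u)
    (g₂ := X.RR R (bar b) e u) (k := X.RR R a b t) ?_ ?_
  · rw [← commutatorElement_inv, ← e1, X.RR_eq R h3 R.off₁ (off_smul (off_smul R.off₂ _) _) (-(t * u))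
      (by rw [pl_smul_right, pl_smul_right, R.dual]; ring), X.RR_neg R h3, inv_inv]
  · rw [X.RR_swap R h2.symm, X.π_RR R h2.symm]
  · rw [X.π_RR R h1, pl_smul_right, R.dual, mul_one, neg_neg]

theorem RR_comm_of {a b c e : SI} (hab : Adm a b) (hce : Adm c e) (h1 : c ≠ bar a) (h2 : c ≠ bar b)
    (h3 : e ≠ bar a) (h4 : e ≠ bar b) (t u : F) : Commute (X.RR R a b t) (X.RR R c e u) :=
  X.comm_long R hab hce h1 h2 h3 h4 (X.π_RR R hab t) (X.π_RR R hce u)

theorem RR_comm' {a b : SI} (hab : Adm a b) (t u : F) : Commute (X.RR R a b t) (X.RR R (bar b) a u) := by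
  classical
  rw [show X.RR R (bar b) a u = X.RR R a (bar b) (-u) from X.RR_swap R hab.bar_right u]
  generalize -u = u'
  rcases eq_or_ne t 0 with rfl | ht
  · rw [X.RR_zero R hab]; exact Commute.one_left _
  obtain ⟨v, rfl⟩ : ∃ v, u' = t * v := ⟨u' / t, by field_simp⟩
  obtain ⟨C, hC1, hC2⟩ := exists_ix2 X.hN a b
  have hac : Adm a C := Adm.of_idx (Ne.symm hC1)
  have hcb : Adm (bar C) b := Adm.of_idx fun q => hC2 ((ix_bar C).symm.trans q)
  have hcb' : Adm (bar C) (bar b) := hcb.bar_right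
  have habb : Adm a (bar b) := hab.bar_right
  set y := X.RR R a C (-t)
  set h := X.RR R (bar C) b 1
  set g := X.RR R (bar C) (bar b) v
  set W := X.RR R a b t
  set Y := X.RR R a (bar b) (t * v)
  set Z := X.RR R a (bar C) (t * v)
  have conj : ∀ (x w z : Γ), ⁅x, w⁆ = z → w * x⁻¹ * w⁻¹ = x⁻¹ * z := fun x w z e => by
    rw [← e, commutatorElement_def]; group
  have hy : y = (X.RR R a C t)⁻¹ := X.RR_neg R hac t
  have eh : h * y * h⁻¹ = y * W := by
    rw [hy]
    refine conj _ _ _ ((X.RR_mid R hac hcb hab t 1).trans ?_)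
    rw [mul_one]
  have eg : g * y * g⁻¹ = y * Y := by
    rw [hy]
    exact conj _ _ _ (X.RR_mid R hac hcb' habb t v)
  have egW : g * W * g⁻¹ = Z * W := by
    have hgs : g = X.RR R (bar b) (bar C) (-v) := X.RR_swap R hcb'.symm v
    have := conj _ _ _ (X.RR_mid R hab (hcb'.symm) hac.bar_right t (-v))
    rw [← hgs, mul_neg, X.RR_neg R hac.bar_right] at this
    have e := congrArg (·⁻¹) this
    simp only [_root_.mul_inv_rev, inv_inv, ← mul_assoc] at e
    exact e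
  have ehY : h * Y * h⁻¹ = Z * Y := by
    have hhs : h = X.RR R b (bar C) (-1) := X.RR_swap R hcb.symm 1
    have := conj _ _ _ (X.RR_mid R habb (by rw [bar_bar]; exact hcb.symm) hac.bar_right (t * v) (-1))
    rw [bar_bar, ← hhs, mul_neg_one, X.RR_neg R hac.bar_right] at this
    have e := congrArg (·⁻¹) this
    simp only [_root_.mul_inv_rev, inv_inv, ← mul_assoc] at e
    exact e
  have hgh : X.π ⁅g, h⁆ = 1 := by
    rw [map_commutatorElement, X.π_RR R hcb', X.π_RR R hcb, commutatorElement_eq_one_iff_commute]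
    have hf : ∀ z : SI, Adm (bar b) z → ap (eich Q (Φ.v (bar b)) (v • Φ.v (bar C))) (Φ.v z) =
        Φ.v z - (v * polar ⇑Q (Φ.v (bar C)) (Φ.v z)) • Φ.v (bar b) := fun z hz => by
      rw [eich_ap (Φ.sing _) (adm_pl' hcb' v), adm_pl hz, pl_smul_left]
      module
    refine mul_inv_eq_iff_eq_mul.1 ?_
    rw [conj_eich, map_smul, hf (bar C) hcb'.symm, pl_v_self, mul_zero, zero_smul, sub_zero, one_smul]
    have hbb : ap (eich Q (Φ.v (bar b)) (v • Φ.v (bar C))) (Φ.v b) = Φ.v b + v • Φ.v (bar C) := by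
      rw [eich_ap (Φ.sing _) (adm_pl' hcb' v), pl_vbar' b, pl_smul_left, adm_pl hcb, Q_smul, Φ.sing]
      module
    rw [hbb, eich_sum (Φ.sing b) (Φ.sing (bar C)) (adm_pl hcb.symm) (adm_pl hcb.symm) (pl_v_self _), Φ.sing,
      mul_zero, zero_smul, eich_zero, mul_one]
    have hcc : eich Q (Φ.v (bar C)) (v • Φ.v (bar C)) = 1 := by
      refine ext_ap fun x => ?_
      rw [eich_ap (Φ.sing _) (by rw [pl_smul_right, pl_v_self, mul_zero]), pl_smul_left, Q_smul, Φ.sing, ap_one]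
      module
    rw [hcc, mul_one]
  have key : g * h * y * (g * h)⁻¹ = h * g * y * (h * g)⁻¹ := by
    have hc := X.central_of hgh (h * g * y * (h * g)⁻¹)
    calc g * h * y * (g * h)⁻¹ = ⁅g, h⁆ * (h * g * y * (h * g)⁻¹) * ⁅g, h⁆⁻¹ := by
          simp only [commutatorElement_def]; group
      _ = _ := by rw [← hc.eq, mul_inv_cancel_right]
  have nb : ∀ {x y : SI}, ix x ≠ ix y → x ≠ bar y := fun q r => q (by rw [r]; exact ix_bar _)
  have cZW : Commute Z W := by
    refine X.RR_comm_of R hac.bar_right hab ?_ ?_ ?_ ?_ _ _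
    · exact (bar_ne a).symm
    · rw [bar_bar]; exact hac.1
    · exact hab.symm.2
    · rw [bar_bar]; exact fun q => hC2 (congrArg ix q).symm
  have cZY : Commute Z Y := by
    refine X.RR_comm_of R hac.bar_right habb ?_ ?_ ?_ ?_ _ _
    · exact (bar_ne a).symm
    · rw [bar_bar]; exact hac.1
    · exact habb.symm.2
    · rw [bar_bar]; exact fun q => hC2 ((congrArg ix q).symm.trans (ix_bar b))
  rw [show g * h * y * (g * h)⁻¹ = g * (h * y * h⁻¹) * g⁻¹ by group,
    show h * g * y * (h * g)⁻¹ = h * (g * y * g⁻¹) * h⁻¹ by group, eh, eg,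
    show g * (y * W) * g⁻¹ = (g * y * g⁻¹) * (g * W * g⁻¹) by group,
    show h * (y * Y) * h⁻¹ = (h * y * h⁻¹) * (h * Y * h⁻¹) by group, eh, eg, egW, ehY, mul_assoc, mul_assoc,
    mul_left_cancel_iff, ← mul_assoc, ← mul_assoc, ← cZY.eq, ← cZW.eq, mul_assoc, mul_assoc,
    mul_left_cancel_iff] at key
  exact key.symm

end Rot

end Base

/-- The relations, from a rotation. -/
theorem rels_of_rot {ρ : IsoGrp Q} {w₁ w₂ : ι → F} (R : Rot Φ ρ w₁ w₂) : Rels Φ := fun Γ _ X =>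
  ⟨{ R := X.RR R
     swap := fun _ _ t h => X.RR_swap R h t
     add := fun _ _ t u h => X.RR_add R h t u
     comm := fun _ _ _ _ t u h h' h1 h2 h3 h4 => X.RR_comm_of R h h' h1 h2 h3 h4 t u
     comm' := fun _ _ t u h => X.RR_comm' R h t u
     mid := fun _ _ _ t u h h' h'' => X.RR_mid R h h' h'' t u },
    fun _ _ t h => X.π_RR R h t,
    fun _ _ y _ hw hxy hx hy _ hg t => X.comm_lift R hw hxy hx hy hg (X.π_RR R hxy t)⟩

end Cfsg.Agent.OrthMult
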