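/-
The rotation of the plane of a minus type form, and the Schur multiplier of PΩ⁻_{2l}(q) in every case.

* `Plane.exists_rot`; `multiplier_minus`.
-/
import Cfsg.Agent.Lib.OrthMult.Short
import Cfsg.Agent.Lib.OrthMult.Minus

set_option autoImplicit false
set_option linter.unusedSectionVars false

open Matrix
open QuadraticMap (polar)
open scoped commutatorElement

namespace Cfsg.Agent.OrthMult

open CurtisTitsA CurtisTitsD
open Cfsg.Agent.Orth hiding quadPlus
open Cfsg.Agent.OrthBN (OFrame frameMinus)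

universe u

variable {F : Type u} [Field F] [Fintype F] {ι : Type} [Fintype ι] [DecidableEq ι] {N : ℕ}
  {Q : QuadraticForm F (ι → F)} {Φ : OFrame Q N} {K : Type u} [Field K] [Algebra F K]

theorem Plane.ap_refl (P : Plane Φ K) {u : K} (hu : u ≠ 0) (z : K) :
    ap (refl Q (P.ν u)) (P.ν z) = P.ν (-(u * P.conj z / P.conj u)) := by
  rw [refl_ap, ← P.ν_refl hu z, inv_mul_eq_div]

/-- The rotation by `(a / ā)²` for an element with `ā ≠ ± a`. -/
theorem Plane.exists_rot (P : Plane Φ K) {a : K} (h1 : P.conj a ≠ a) (h2 : P.conj a ≠ -a) :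
    ∃ ρ w₁ w₂, Rot Φ ρ w₁ w₂ := by
  have ha : a ≠ 0 := fun e => h1 (by rw [e, map_zero])
  have hca := P.conj_ne_zero ha
  set lam := (a / P.conj a) * (a / P.conj a)
  have hlam : lam - 1 ≠ 0 := fun e => by
    rcases mul_self_eq_one_iff.1 (sub_eq_zero.1 e) with e | e
    · exact h1 ((div_eq_one_iff_eq hca).1 e).symm
    · rw [div_eq_iff hca, neg_one_mul] at e
      exact h2 (neg_eq_iff_eq_neg.1 e.symm)
  have hp : polar ⇑Q (P.ν 1) (P.ν a) ≠ 0 := fun e => by
    have := P.polar_ν 1 a
    rw [e, map_zero, map_one, one_mul, mul_one] at this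
    exact h2 (eq_neg_of_add_eq_zero_left this.symm)
  refine ⟨⁅refl Q (P.ν a), refl Q (P.ν 1)⁆, P.ν 1, (polar ⇑Q (P.ν 1) (P.ν a))⁻¹ • P.ν a,
    Subgroup.commutator_mem_commutator (Subgroup.mem_top _) (Subgroup.mem_top _), fun b => ?_, fun w hw => ?_,
    P.off _, off_smul (P.off _) _, by rw [pl_smul_right, inv_mul_cancel₀ hp]⟩
  · rw [commutatorElement_def, refl_inv, refl_inv, ap_mul, ap_mul, ap_mul]
    simp only [refl_ap_of_orth Q (Φ.off_pl (P.off _) b)]
  · obtain ⟨z, rfl⟩ := P.surj w hw
    refine ⟨P.ν (z / (lam - 1)), P.off _, ?_⟩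
    rw [commutatorElement_def, refl_inv, refl_inv, ap_mul, ap_mul, ap_mul, P.ap_refl one_ne_zero, P.ap_refl ha,
      P.ap_refl one_ne_zero, P.ap_refl ha, ← map_sub]
    congr 1
    have key : ∀ y : K, y * lam - y = y * (lam - 1) := fun y => by ring
    simp only [map_neg, map_div₀, map_mul, map_one, one_mul, div_one, P.conj_conj, mul_neg, neg_mul, neg_div, neg_neg]
    calc _ = (z / (lam - 1)) * (lam - 1) := by rw [← key]; simp only [lam]; field_simp
      _ = z := div_mul_cancel₀ z hlam

theorem minus_rels {a b : F} (hab : Aniso a b) : Rels (frameMinus N hab) := by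
  classical
  haveI := Aniso.fact hab
  have htr : ∃ c : F, 2 * c + a ≠ 0 := by
    by_cases ha : a = 0
    · refine ⟨1, fun e => hab.disc_ne_zero ?_⟩
      rw [ha, mul_one, add_zero] at e
      rw [ha]
      linear_combination (-2 * b) * e
    · exact ⟨0, by simpa using ha⟩
  obtain ⟨c, hc⟩ := htr
  have n1 : (minusPlane N hab).conj ⟨c, 1⟩ ≠ ⟨c, 1⟩ := fun e => by
    have h2 : (2 : F) = 0 := by
      have := congrArg QuadraticAlgebra.im e
      simp [minusPlane, starRingEnd_apply] at this
      linear_combination -this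
    have := congrArg QuadraticAlgebra.re e
    simp [minusPlane, starRingEnd_apply] at this
    exact hc (by rw [h2, this]; ring)
  have n2 : (minusPlane N hab).conj ⟨c, 1⟩ ≠ -⟨c, 1⟩ := fun e => by
    have := congrArg QuadraticAlgebra.re e
    simp [minusPlane, starRingEnd_apply] at this
    exact hc (by linear_combination this)
  obtain ⟨ρ, w₁, w₂, R⟩ := (minusPlane N hab).exists_rot n1 n2
  exact rels_of_rot R

theorem multiplier_minus {a b : F} (hN : 3 ≤ N) (hab : Aniso a b) :
    Cfsg.HasCyclicSchurMultiplier (Cfsg.POmega F (Cfsg.quadFormMinus N F a b))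
      (Nat.gcd 4 (Fintype.card F ^ (N + 1) + 1)) :=
  multiplier_minus_of_rels hN hab (minus_rels hab)

end Cfsg.Agent.OrthMult
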